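import Cfsg.Agent.H45.Gallagher
import Cfsg.Agent.H43.CoprimeExt
import Cfsg.Agent.H43.GlaubermanSolvable
import Cfsg.Agent.H56.CliffordInertia

/-!
# A `p`-group of operators on a group with a normal Sylow `p`-subgroup

Invariant irreducible characters lie over invariant characters of the normal `p`-subgroup, are
induced from the inertia group, and factor there as an invariant extension times an invariant
character of the quotient.
-/

set_option autoImplicit false

open scoped ComplexConjugate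

namespace Cfsg.Agent.H45

open H43 (InvFun irrConj irrCongr mult restrMult restrictAut)

variable {S K : Type*} [Group S] [Group K]

/-- An action on a group induces one on the quotient by an invariant normal subgroup. -/
noncomputable def quotMulAut (φ : S →* MulAut K) (N : Subgroup K) [N.Normal]
    (hN : ∀ s, ∀ n ∈ N, φ s n ∈ N) : S →* MulAut (K ⧸ N) where
  toFun s := QuotientGroup.congr N N (φ s) (by
    ext x
    constructor
    · rintro ⟨n, hn, rfl⟩
      exact hN s n hn
    · intro hx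
      refine ⟨φ s⁻¹ x, hN _ x hx, ?_⟩
      show φ s (φ s⁻¹ x) = x
      rw [← MulAut.mul_apply, ← map_mul, mul_inv_cancel, map_one, MulAut.one_apply])
  map_one' := MulEquiv.ext fun x => by
    induction x using QuotientGroup.induction_on with | _ g =>
    rw [QuotientGroup.congr_mk, map_one, MulAut.one_apply, MulAut.one_apply]
  map_mul' s t := MulEquiv.ext fun x => by
    induction x using QuotientGroup.induction_on with | _ g =>
    rw [MulAut.mul_apply, QuotientGroup.congr_mk, QuotientGroup.congr_mk, QuotientGroup.congr_mk,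
      map_mul, MulAut.mul_apply]

theorem quotMulAut_mk (φ : S →* MulAut K) (N : Subgroup K) [N.Normal]
    (hN : ∀ s, ∀ n ∈ N, φ s n ∈ N) (s : S) (g : K) :
    quotMulAut φ N hN s (g : K ⧸ N) = ((φ s g : K) : K ⧸ N) := rfl

/-- A `p`-group acting on `K`, leaving invariant a normal `p`-subgroup of index prime to `p`. -/
structure OpData (p : ℕ) (φ : S →* MulAut K) (Q : Subgroup K) : Prop where
  prime : p.Prime
  pgroup : IsPGroup p S
  qgroup : IsPGroup p Q
  index : ¬ p ∣ Q.index
  qinv : ∀ s, ∀ q ∈ Q, φ s q ∈ Q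

variable {p : ℕ} {φ : S →* MulAut K} {Q : Subgroup K} [Q.Normal]

/-- The inertia group of a character of `Q`. -/
def inertiaSub (θ : Cfsg.IrrCharacter Q) : Subgroup K where
  carrier := {g | irrConj Q g θ = θ}
  one_mem' := Subtype.ext (funext fun n => by
    rw [H43.irrConj_apply, map_one, MulAut.one_apply])
  mul_mem' := fun {a b} ha hb => by
    simp only [Set.mem_setOf_eq] at ha hb ⊢
    rw [← H43.irrConj_irrConj Q b a, ha, hb]
  inv_mem' := fun {a} ha => by
    simp only [Set.mem_setOf_eq] at ha ⊢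
    conv_lhs => rw [← ha]
    rw [H43.irrConj_irrConj, mul_inv_cancel]
    exact Subtype.ext (funext fun n => by rw [H43.irrConj_apply, map_one, MulAut.one_apply])

theorem mem_inertiaSub {θ : Cfsg.IrrCharacter Q} {g : K} :
    g ∈ inertiaSub θ ↔ irrConj Q g θ = θ := Iff.rfl

theorem mem_inertiaSub_twist {θ : Cfsg.IrrCharacter Q} {g : K} :
    g ∈ inertiaSub θ ↔ H56.twist Q θ.1 g = θ.1 := by
  have h : ∀ n : Q, H56.twist Q θ.1 g n = (irrConj Q g θ).1 n := fun n => by
    rw [H43.irrConj_apply]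
    exact congrArg θ.1 (Subtype.ext (MulAut.conjNormal_apply g n).symm)
  rw [mem_inertiaSub]
  exact ⟨fun e => funext fun n => by rw [h, e],
    fun e => Subtype.ext (funext fun n => by rw [← h, e])⟩

theorem le_inertiaSub [Finite K] (θ : Cfsg.IrrCharacter Q) : Q ≤ inertiaSub θ := fun x hx =>
  Subtype.ext (funext fun n => by
    rw [H43.irrConj_apply]
    refine H26.irr_eq_of_isConj θ (isConj_iff.2 ⟨(⟨x, hx⟩ : Q)⁻¹, Subtype.ext ?_⟩)
    simp [MulAut.conjNormal_apply]
    group)

/-- The restricted action on `Q`. -/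
abbrev OpData.act (hd : OpData p φ Q) : S →* MulAut Q := restrictAut φ Q hd.qinv

theorem OpData.act_conjNormal (hd : OpData p φ Q) (s : S) (g : K) (n : Q) :
    hd.act s (MulAut.conjNormal g n) = MulAut.conjNormal (φ s g) (hd.act s n) := by
  apply Subtype.ext
  simp [H43.restrictAut_coe, MulAut.conjNormal_apply]

theorem OpData.irrCongr_irrConj (hd : OpData p φ Q) (s : S) (g : K) (θ : Cfsg.IrrCharacter Q) :
    irrCongr (hd.act s) (irrConj Q (φ s g) θ) = irrConj Q g (irrCongr (hd.act s) θ) :=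
  Subtype.ext (funext fun n => by
    show θ.1 (MulAut.conjNormal (φ s g) (hd.act s n)) = θ.1 (hd.act s (MulAut.conjNormal g n))
    rw [hd.act_conjNormal])

theorem OpData.inertia_inv (hd : OpData p φ Q) {θ : Cfsg.IrrCharacter Q}
    (hθ : InvFun hd.act θ.1) : ∀ s, ∀ g ∈ inertiaSub θ, φ s g ∈ inertiaSub θ := by
  intro s g hg
  have h := hd.irrCongr_irrConj s g θ
  rw [H43.irrCongr_eq_self_of_invFun hθ s, mem_inertiaSub.1 hg] at h
  have h2 := H43.irrCongr_eq_self_of_invFun hθ s
  rw [mem_inertiaSub]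
  exact (H43.irrCongrEquiv (hd.act s)).injective (h.trans h2.symm)

variable [Fintype K] [Fintype Q]

/-- The restrictions of an invariant character to `Q` are permuted by the operators. -/
theorem OpData.restrMult_irrCongr (hd : OpData p φ Q) (χ : Cfsg.IrrCharacter K)
    (hχ : InvFun φ χ.1) (s : S) (θ : Cfsg.IrrCharacter Q) :
    restrMult Q χ (irrCongr (hd.act s) θ) = restrMult Q χ θ := by
  unfold restrMult
  rw [← mult_congr (hd.act s) (fun n : Q => χ.1 n) θ]
  congr 1
  funext n
  exact (hχ s n).symm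

omit [Fintype K] [Fintype Q] in
/-- The orbit of a character of `Q` has size the index of its inertia group. -/
theorem card_conj_orbit [Finite K] (θ : Cfsg.IrrCharacter Q) :
    Nat.card (Set.range fun g : K => irrConj Q g θ) = (inertiaSub θ).index := by
  refine (Nat.card_eq_of_bijective
    (fun x : K ⧸ inertiaSub θ => (⟨Quotient.liftOn' x (fun g => irrConj Q g⁻¹ θ) ?_, ?_⟩ :
      Set.range fun g : K => irrConj Q g θ)) ⟨?_, ?_⟩).symm
  · intro a b hab
    have h := mem_inertiaSub.1 (QuotientGroup.leftRel_apply.1 hab)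
    show irrConj Q a⁻¹ θ = irrConj Q b⁻¹ θ
    conv_rhs => rw [← h]
    rw [H43.irrConj_irrConj, mul_assoc, mul_inv_cancel, mul_one]
  · induction x using QuotientGroup.induction_on with | _ g =>
    exact ⟨g⁻¹, rfl⟩
  · intro x y hxy
    induction x using QuotientGroup.induction_on with | _ a =>
    induction y using QuotientGroup.induction_on with | _ b =>
    have h : irrConj Q a⁻¹ θ = irrConj Q b⁻¹ θ := congrArg Subtype.val hxy
    refine QuotientGroup.eq.2 (mem_inertiaSub.2 ?_)
    rw [← H43.irrConj_irrConj Q b a⁻¹, h, H43.irrConj_irrConj, inv_mul_cancel]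
    exact Subtype.ext (funext fun n => by rw [H43.irrConj_apply, map_one, MulAut.one_apply])
  · rintro ⟨_, g, rfl⟩
    refine ⟨((g⁻¹ : K) : K ⧸ inertiaSub θ), Subtype.ext ?_⟩
    show irrConj Q g⁻¹⁻¹ θ = irrConj Q g θ
    rw [inv_inv]

omit [Fintype Q] in
theorem OpData.not_dvd_inertia_index (hd : OpData p φ Q) (θ : Cfsg.IrrCharacter Q) :
    ¬ p ∣ (inertiaSub θ).index := fun h =>
  hd.index (h.trans (Subgroup.index_dvd_of_le (le_inertiaSub θ)))

/-- An invariant character lies over an invariant character of `Q`. -/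
theorem OpData.exists_inv_below (hd : OpData p φ Q) (χ : Cfsg.IrrCharacter K)
    (hχ : InvFun φ χ.1) :
    ∃ θ : Cfsg.IrrCharacter Q, InvFun hd.act θ.1 ∧ restrMult Q χ θ ≠ 0 := by
  classical
  have : Fact p.Prime := ⟨hd.prime⟩
  letI := H43.irrAction hd.act
  obtain ⟨θ₀, hθ₀⟩ := H43.exists_restrMult_ne_zero Q χ
  let O := {θ : Cfsg.IrrCharacter Q // restrMult Q χ θ ≠ 0}
  letI : MulAction S O :=
    { smul := fun s θ => ⟨s • θ.1, (hd.restrMult_irrCongr χ hχ s⁻¹ θ.1).trans_ne θ.2⟩
      one_smul := fun θ => Subtype.ext (one_smul S θ.1)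
      mul_smul := fun s t θ => Subtype.ext (mul_smul s t θ.1) }
  have hcard : Nat.card O = (inertiaSub θ₀).index := by
    rw [← card_conj_orbit θ₀]
    refine Nat.card_congr (Equiv.subtypeEquivRight fun θ => ⟨fun h => ?_, ?_⟩)
    · obtain ⟨g, hg⟩ := H43.exists_irrConj_of_restrMult_ne_zero Q χ hθ₀ h
      exact ⟨g, hg⟩
    · rintro ⟨g, rfl⟩
      rwa [H43.restrMult_irrConj]
  obtain ⟨θ, hθ⟩ := hd.pgroup.nonempty_fixed_point_of_prime_not_dvd_card O
    (hcard ▸ hd.not_dvd_inertia_index θ₀)
  exact ⟨θ.1, (H43.mem_fixedPoints_irrAction hd.act θ.1).1 fun s => congrArg Subtype.val (hθ s),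
    θ.2⟩

omit [Fintype Q] in
/-- Conjugate invariant characters of `Q` are conjugate by an element fixed modulo `Q`. -/
theorem OpData.exists_fixed_conj (hd : OpData p φ Q) {θ θ' : Cfsg.IrrCharacter Q}
    (hθ : InvFun hd.act θ.1) (hθ' : InvFun hd.act θ'.1) {g : K} (hg : irrConj Q g θ = θ') :
    ∃ c : K, irrConj Q c θ = θ' ∧ ∀ s, φ s c * c⁻¹ ∈ Q := by
  classical
  have : Fact p.Prime := ⟨hd.prime⟩
  let X := {x : K ⧸ Q // ∃ k : K, (k : K ⧸ Q) = x ∧ irrConj Q k θ = θ'}
  have hmove : ∀ s k, irrConj Q k θ = θ' → irrConj Q (φ s k) θ = θ' := by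
    intro s k hk
    have h := hd.irrCongr_irrConj s k θ
    rw [H43.irrCongr_eq_self_of_invFun hθ s, hk] at h
    exact (H43.irrCongrEquiv (hd.act s)).injective
      (h.trans (H43.irrCongr_eq_self_of_invFun hθ' s).symm)
  letI : MulAction S X :=
    { smul := fun s x => ⟨quotMulAut φ Q hd.qinv s x.1, by
        obtain ⟨k, hk, hkθ⟩ := x.2
        exact ⟨φ s k, by rw [← hk]; rfl, hmove s k hkθ⟩⟩
      one_smul := fun x => Subtype.ext (by
        show quotMulAut φ Q hd.qinv 1 x.1 = x.1
        rw [map_one, MulAut.one_apply])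
      mul_smul := fun s t x => Subtype.ext (by
        show quotMulAut φ Q hd.qinv (s * t) x.1 = _
        rw [map_mul, MulAut.mul_apply]
        rfl) }
  have hcard : Nat.card X = (Q.subgroupOf (inertiaSub θ)).index := by
    refine (Nat.card_eq_of_bijective
      (fun y : ↥(inertiaSub θ) ⧸ Q.subgroupOf (inertiaSub θ) => (⟨Quotient.liftOn' y
        (fun t => (((t : K) * g : K) : K ⧸ Q)) ?_, ?_⟩ : X)) ⟨?_, ?_⟩).symm
    · intro a b hab
      have h := Subgroup.mem_subgroupOf.1 (QuotientGroup.leftRel_apply.1 hab)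
      rw [QuotientGroup.eq, mul_inv_rev,
        show g⁻¹ * (a : K)⁻¹ * ((b : K) * g) = g⁻¹ * ((a : K)⁻¹ * b) * g⁻¹⁻¹ by group]
      exact Subgroup.Normal.conj_mem inferInstance _ h g⁻¹
    · induction y using QuotientGroup.induction_on with | _ t =>
      refine ⟨(t : K) * g, rfl, ?_⟩
      rw [← H43.irrConj_irrConj Q g (t : K) θ, mem_inertiaSub.1 t.2, hg]
    · intro x y hxy
      induction x using QuotientGroup.induction_on with | _ a =>
      induction y using QuotientGroup.induction_on with | _ b =>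
      have h := QuotientGroup.eq.1 (congrArg Subtype.val hxy)
      rw [mul_inv_rev] at h
      refine QuotientGroup.eq.2 (Subgroup.mem_subgroupOf.2 ?_)
      have h2 := Subgroup.Normal.conj_mem inferInstance _ h g
      rw [show g * (g⁻¹ * (a : K)⁻¹ * ((b : K) * g)) * g⁻¹ = (a : K)⁻¹ * b by group] at h2
      exact h2
    · rintro ⟨x, k, rfl, hk⟩
      have ht : k * g⁻¹ ∈ inertiaSub θ := by
        rw [mem_inertiaSub, ← H43.irrConj_irrConj Q g⁻¹ k θ, hk, ← hg, H43.irrConj_irrConj,
          mul_inv_cancel]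
        exact Subtype.ext (funext fun n => by rw [H43.irrConj_apply, map_one, MulAut.one_apply])
      refine ⟨((⟨k * g⁻¹, ht⟩ : inertiaSub θ) : ↥(inertiaSub θ) ⧸ Q.subgroupOf (inertiaSub θ)),
        Subtype.ext ?_⟩
      show ((k * g⁻¹ * g : K) : K ⧸ Q) = (k : K ⧸ Q)
      rw [inv_mul_cancel_right]
  have hnd : ¬ p ∣ Nat.card X := by
    rw [hcard]
    exact fun h => hd.index (h.trans (Subgroup.relIndex_dvd_index_of_normal Q _))
  obtain ⟨⟨x, k, hk, hkθ⟩, hfix⟩ := hd.pgroup.nonempty_fixed_point_of_prime_not_dvd_card X hnd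
  refine ⟨k, hkθ, fun s => ?_⟩
  have h1 : quotMulAut φ Q hd.qinv s x = x := congrArg Subtype.val (hfix s)
  rw [← hk, quotMulAut_mk] at h1
  rw [← QuotientGroup.eq_one_iff, QuotientGroup.mk_mul, QuotientGroup.mk_inv, h1, mul_inv_cancel]

/-- The character of `Q` transported into a subgroup containing it. -/
noncomputable def resIrr (T : Subgroup K) (hQT : Q ≤ T) (θ : Cfsg.IrrCharacter Q) :
    Cfsg.IrrCharacter ↥(Q.subgroupOf T) :=
  irrCongr (Subgroup.subgroupOfEquivOfLe hQT) θ

/-- An invariant extension to the inertia group exists. -/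
theorem OpData.exists_ext (hd : OpData p φ Q) {θ : Cfsg.IrrCharacter Q}
    (hθ : InvFun hd.act θ.1) :
    ∃ E : Cfsg.IrrCharacter ↥(inertiaSub θ),
      (∀ n : Q, E.1 (Subgroup.inclusion (le_inertiaSub θ) n) = θ.1 n) ∧
      InvFun (restrictAut φ (inertiaSub θ) (hd.inertia_inv hθ)) E.1 := by
  classical
  set T := inertiaSub θ with hT
  have hQT : Q ≤ T := le_inertiaSub θ
  have : Fintype T := Fintype.ofFinite _
  have : Fintype (Q.subgroupOf T) := Fintype.ofFinite _
  set θt := resIrr T hQT θ with hθt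
  have hinv : ∀ x : T, irrConj (Q.subgroupOf T) x θt = θt := fun x =>
    Subtype.ext (funext fun n => by
      rw [H43.irrConj_apply]
      show θ.1 _ = θ.1 _
      conv_rhs => rw [← mem_inertiaSub.1 x.2, H43.irrConj_apply]
      exact congrArg θ.1 (Subtype.ext (by simp [MulAut.conjNormal_apply])))
  have hcop : ∀ m, m ∣ Nat.card (Q.subgroupOf T) → Nat.Coprime (Q.subgroupOf T).index m := by
    intro m hm
    rw [Nat.card_congr (Subgroup.subgroupOfEquivOfLe hQT).toEquiv] at hm
    obtain ⟨k, hk⟩ := (haveI : Fact p.Prime := ⟨hd.prime⟩; IsPGroup.iff_card.1 hd.qgroup)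
    rw [hk] at hm
    refine Nat.Coprime.coprime_dvd_right hm (((Nat.Prime.coprime_iff_not_dvd hd.prime).2 ?_).symm.pow_right k)
    exact fun h => hd.index (h.trans (Subgroup.relIndex_dvd_index_of_normal Q T))
  have hdegcop : Nat.Coprime (Q.subgroupOf T).index (Cfsg.charDegree θt.1) :=
    hcop _ (H43.irr_charDegree_dvd θt)
  have hdetcop : Nat.Coprime (Q.subgroupOf T).index (Cfsg.detOrder θt.1) :=
    hcop _ (H43.detOrder_dvd_card (H26.irr_isCharacter θt))
  obtain ⟨E, hEres, hEdet⟩ := H43.exists_coprime_ext θt hinv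
    (Nat.Coprime.mul_right hdetcop hdegcop)
  refine ⟨E, fun n => (hEres ⟨Subgroup.inclusion hQT n, n.2⟩).trans rfl, fun s g => ?_⟩
  set a := restrictAut φ T (hd.inertia_inv hθ) s
  have h' : ∀ n : Q.subgroupOf T, (irrCongr a E).1 n = θt.1 n := by
    intro n
    have hn : φ s ((n : T) : K) ∈ Q := hd.qinv s _ (Subgroup.mem_subgroupOf.1 n.2)
    rw [H43.irrCongr_apply]
    have h1 := hEres ⟨a n, Subgroup.mem_subgroupOf.2 hn⟩
    exact h1.trans (hθ s ⟨((n : T) : K), Subgroup.mem_subgroupOf.1 n.2⟩)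
  have h1 := H43.coprime_ext_unique θt E (irrCongr a E) hdegcop hEres h'
    (hEdet ▸ hdetcop) (by
      show Nat.Coprime _ (Cfsg.detOrder fun x => E.1 (a x))
      rw [H43.detOrder_comp_equiv a (H26.irr_isCharacter E), hEdet]
      exact hdetcop)
  exact congrFun (congrArg Subtype.val h1) g

end Cfsg.Agent.H45
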