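import Cfsg.Agent.H45.CliffordLinear
import Cfsg.Agent.H43.CharKer

/-!
# Gallagher's bijection from orthogonality on cosets

Multiplying by an irreducible character with irreducible restriction to `N` preserves the inner
product of functions on `G / N`, and reaches every constituent over the restriction.
-/

set_option autoImplicit false

open scoped ComplexConjugate

namespace Cfsg.Agent.H45

variable {G : Type*} [Group G] [Fintype G]

/-- Multiplicities transport along isomorphisms. -/
theorem mult_congr {H : Type*} [Group H] [Fintype H] (e : H ≃* G) (f : G → ℂ)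
    (θ : Cfsg.IrrCharacter G) :
    H43.mult (fun h => f (e h)) (H43.irrCongr e θ) = H43.mult f θ := by
  unfold H43.mult
  congr 2
  exact H43.classInner_congr e f θ.1

/-- A character with irreducible restriction to a subgroup is irreducible. -/
theorem isIrrCharacter_of_restrict (H : Subgroup G) [Fintype H] {φ : G → ℂ}
    (hφ : Cfsg.IsCharacter G φ) (hirr : Cfsg.IsIrrCharacter H fun h : H => φ h) :
    Cfsg.IsIrrCharacter G φ := by
  classical
  set θ : Cfsg.IrrCharacter H := ⟨_, hirr⟩ with hθ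
  have h1 : H43.mult (fun h : H => φ h) θ = 1 := by
    refine H43.mult_eq_of_classInner ?_
    rw [Nat.cast_one]
    exact (H26.classInner_irr θ θ).trans (if_pos rfl)
  have hexp : H43.mult (fun h : H => φ h) θ =
      ∑ ψ : Cfsg.IrrCharacter G, H43.mult φ ψ * H43.mult (fun h : H => ψ.1 h) θ :=
    H43.mult_comp H.subtype hφ θ
  obtain ⟨ψ, -, hψ⟩ := Finset.exists_ne_zero_of_sum_ne_zero (hexp.symm.trans h1 ▸ one_ne_zero :
    ∑ ψ : Cfsg.IrrCharacter G, H43.mult φ ψ * H43.mult (fun h : H => ψ.1 h) θ ≠ 0)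
  obtain ⟨hm, hk⟩ : H43.mult φ ψ ≠ 0 ∧ H43.mult (fun h : H => ψ.1 h) θ ≠ 0 :=
    ⟨left_ne_zero_of_mul hψ, right_ne_zero_of_mul hψ⟩
  have hdψ : Cfsg.charDegree θ.1 ≤ Cfsg.charDegree ψ.1 := by
    have h := H43.apply_one_eq_sum_mult (φ := fun h : H => ψ.1 h)
      (H26.isCharacter_comp (H26.irr_isCharacter ψ) H.subtype)
    simp only [OneMemClass.coe_one, H43.irr_charDegree_spec] at h
    have h' : Cfsg.charDegree ψ.1 = ∑ η : Cfsg.IrrCharacter H,
        H43.mult (fun h : H => ψ.1 h) η * Cfsg.charDegree η.1 := by exact_mod_cast h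
    rw [h']
    refine le_trans ?_ (Finset.single_le_sum (fun _ _ => Nat.zero_le _) (Finset.mem_univ θ))
    exact Nat.le_mul_of_pos_left _ (Nat.pos_of_ne_zero hk)
  have hd := H43.apply_one_eq_sum_mult hφ
  have hφ1 : φ 1 = (Cfsg.charDegree θ.1 : ℂ) := by
    rw [← H43.irr_charDegree_spec θ]
    simp [hθ]
  have hd' : Cfsg.charDegree θ.1 = ∑ η : Cfsg.IrrCharacter G,
      H43.mult φ η * Cfsg.charDegree η.1 := by
    rw [hφ1] at hd
    exact_mod_cast hd
  rw [← Finset.add_sum_erase _ _ (Finset.mem_univ ψ)] at hd'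
  have hpos := H43.irr_charDegree_pos ψ
  have hm1 : H43.mult φ ψ = 1 := by
    by_contra hne
    have : 2 * Cfsg.charDegree ψ.1 ≤ H43.mult φ ψ * Cfsg.charDegree ψ.1 :=
      Nat.mul_le_mul_right _ (by omega)
    omega
  rw [hm1, one_mul] at hd'
  have hrest : ∀ η ∈ Finset.univ.erase ψ, H43.mult φ η = 0 := by
    intro η hη
    have h0 : ∑ η ∈ Finset.univ.erase ψ, H43.mult φ η * Cfsg.charDegree η.1 = 0 := by omega
    exact (Nat.mul_eq_zero.1 (Finset.sum_eq_zero_iff.1 h0 η hη)).resolve_right
      (H43.irr_charDegree_pos η).ne'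
  rw [H43.eq_sum_mult hφ, ← Finset.add_sum_erase _ _ (Finset.mem_univ ψ), hm1, Nat.cast_one,
    one_smul, Finset.sum_eq_zero fun η hη => by rw [hrest η hη, Nat.cast_zero, zero_smul],
    add_zero]
  exact ψ.2

variable (N : Subgroup G) [N.Normal] [Fintype N] [Fintype (G ⧸ N)] (E : Cfsg.IrrCharacter G)

/-- The product of an extension and an inflated function. -/
def extMul (f : G ⧸ N → ℂ) : G → ℂ := fun g => E.1 g * f (QuotientGroup.mk g)

variable (hE : Cfsg.IsIrrCharacter N fun n : N => E.1 n)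
include hE

/-- Multiplying by the extension preserves inner products. -/
theorem classInner_extMul (f h : G ⧸ N → ℂ) :
    Cfsg.classInner (extMul N E f) (extMul N E h) = Cfsg.classInner f h := by
  classical
  have hs : ∀ x : G ⧸ N,
      ∑ n : N, E.1 (x.out * n) * conj (E.1 (x.out * n)) = (Nat.card N : ℂ) := by
    intro x
    have h1 := coset_norm_eq_card N E hE x.out
    have h2 : ∀ n : N, E.1 (x.out * n) = E.1 ((n : G) * x.out) := fun n => by
      rw [← H26.irr_conj E (x.out * n) (x.out⁻¹)]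
      simp [mul_assoc]
    simp only [h2, Complex.mul_conj, Complex.normSq_eq_norm_sq, ← Complex.ofReal_sum, h1,
      Complex.ofReal_natCast]
  simp only [Cfsg.classInner, extMul]
  have hmk : ∀ (x : G ⧸ N) (n : N), ((x.out * n : G) : G ⧸ N) = x := fun x n => by
    rw [QuotientGroup.mk_mul_of_mem _ n.2]
    exact QuotientGroup.out_eq' x
  let e : (G ⧸ N) × N ≃ G :=
    { toFun := fun y => y.1.out * y.2
      invFun := fun g => (QuotientGroup.mk g, ⟨(QuotientGroup.mk g : G ⧸ N).out⁻¹ * g,
        QuotientGroup.eq.1 (QuotientGroup.out_eq' _)⟩)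
      left_inv := fun y => Prod.ext (hmk y.1 y.2) (Subtype.ext (by
        show (QuotientGroup.mk (y.1.out * (y.2 : G)) : G ⧸ N).out⁻¹ * (y.1.out * y.2) = y.2
        rw [hmk, inv_mul_cancel_left]))
      right_inv := fun g => by simp }
  rw [← e.sum_comp (fun g => E.1 g * f g * conj (E.1 g * h g)), Fintype.sum_prod_type]
  have hsymm : ∀ (x : G ⧸ N) (n : N), e (x, n) = x.out * n := fun x n => rfl
  simp only [hsymm, hmk, map_mul]
  have hfac : ∀ x : G ⧸ N, ∑ n : N, E.1 (x.out * n) * f x * (conj (E.1 (x.out * n)) * conj (h x)) =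
      (Nat.card N : ℂ) * (f x * conj (h x)) := fun x => by
    rw [← hs x, Finset.sum_mul]
    exact Finset.sum_congr rfl fun n _ => by ring
  simp only [hfac, ← Finset.mul_sum]
  have hN : (Nat.card N : ℂ) ≠ 0 := Nat.cast_ne_zero.2 Nat.card_pos.ne'
  rw [N.card_eq_card_quotient_mul_card_subgroup, Nat.cast_mul]
  field_simp

/-- Gallagher: products with irreducible characters of the quotient are irreducible. -/
theorem isIrrCharacter_extMul (η : Cfsg.IrrCharacter (G ⧸ N)) :
    Cfsg.IsIrrCharacter G (extMul N E η.1) := by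
  classical
  refine H26.isIrrCharacter_of_norm_one (H26.isCharacter_mul (H26.irr_isCharacter E)
    (H26.isCharacter_comp (H26.irr_isCharacter η) (QuotientGroup.mk' N))) ?_
  exact (classInner_extMul N E hE η.1 η.1).trans ((H26.classInner_irr η η).trans (if_pos rfl))

/-- Gallagher: the product determines the character of the quotient. -/
theorem extMul_injective (η η' : Cfsg.IrrCharacter (G ⧸ N))
    (h : extMul N E η.1 = extMul N E η'.1) : η = η' := by
  classical
  have h1 := classInner_extMul N E hE η.1 η'.1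
  rw [h, classInner_extMul N E hE, H26.classInner_irr, H26.classInner_irr, if_pos rfl] at h1
  by_contra hne
  rw [if_neg hne] at h1
  exact one_ne_zero h1

/-- Gallagher: every irreducible character over the restriction is such a product. -/
theorem exists_extMul (ψ : Cfsg.IrrCharacter G)
    (h : Cfsg.classInner (fun n : N => ψ.1 n) (fun n : N => E.1 n) ≠ 0) :
    ∃ η : Cfsg.IrrCharacter (G ⧸ N), extMul N E η.1 = ψ.1 := by
  classical
  by_contra hne
  push Not at hne
  have hz : ∀ η : Cfsg.IrrCharacter (G ⧸ N), Cfsg.classInner ψ.1 (extMul N E η.1) = 0 := by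
    intro η
    have h1 := H26.classInner_irr ψ ⟨_, isIrrCharacter_extMul N E hE η⟩
    rwa [if_neg fun e => hne η (congrArg Subtype.val e).symm] at h1
  have hcol : ∀ g : G, ∑ η : Cfsg.IrrCharacter (G ⧸ N), η.1 1 * conj (η.1 (g : G ⧸ N)) =
      if g ∈ N then (Nat.card (G ⧸ N) : ℂ) else 0 := by
    intro g
    have h1 := congrArg conj (H26.column_orthogonality (g : G ⧸ N) 1)
    simp only [map_sum, map_mul, Complex.conj_conj, Complex.conj_natCast] at h1
    rw [Finset.sum_congr rfl fun η _ => mul_comm (conj (η.1 (g : G ⧸ N))) _] at h1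
    rw [h1, H26.classIndicator]
    by_cases hg : g ∈ N
    · rw [if_pos hg, if_pos (by rw [(QuotientGroup.eq_one_iff g).2 hg]), map_one, mul_one]
      congr 1
      rw [Subgroup.centralizer_eq_top_iff_subset.2 (by simp [Set.subset_def]),
        Subgroup.card_top]
    · rw [if_neg hg, if_neg fun e => hg ((QuotientGroup.eq_one_iff g).1 (isConj_one_left.1 e)),
        map_zero, mul_zero]
  have hsum : ∑ η : Cfsg.IrrCharacter (G ⧸ N),
      η.1 1 * Cfsg.classInner ψ.1 (extMul N E η.1) =
        Cfsg.classInner (fun n : N => ψ.1 n) (fun n : N => E.1 n) := by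
    simp only [Cfsg.classInner, extMul, Finset.mul_sum, map_mul]
    rw [Finset.sum_comm]
    have hg : ∀ g : G, ∑ η : Cfsg.IrrCharacter (G ⧸ N), η.1 1 * ((Nat.card G : ℂ)⁻¹ *
        (ψ.1 g * (conj (E.1 g) * conj (η.1 (g : G ⧸ N))))) =
        if g ∈ N then (Nat.card G : ℂ)⁻¹ * (Nat.card (G ⧸ N) : ℂ) * (ψ.1 g * conj (E.1 g))
          else 0 := by
      intro g
      rw [Finset.sum_congr rfl fun η _ => show η.1 1 * ((Nat.card G : ℂ)⁻¹ *
        (ψ.1 g * (conj (E.1 g) * conj (η.1 (g : G ⧸ N))))) = (Nat.card G : ℂ)⁻¹ *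
        (ψ.1 g * conj (E.1 g)) * (η.1 1 * conj (η.1 (g : G ⧸ N))) by ring, ← Finset.mul_sum, hcol]
      split_ifs <;> ring
    simp only [hg]
    rw [← Finset.sum_filter, Finset.sum_subtype (p := fun g => g ∈ N) _ (by simp)]
    refine Finset.sum_congr rfl fun n _ => ?_
    congr 1
    have hN : (Nat.card N : ℂ) ≠ 0 := Nat.cast_ne_zero.2 Nat.card_pos.ne'
    have hQ : (Nat.card (G ⧸ N) : ℂ) ≠ 0 := Nat.cast_ne_zero.2 Nat.card_pos.ne'
    rw [N.card_eq_card_quotient_mul_card_subgroup, Nat.cast_mul]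
    field_simp
  simp only [hz, mul_zero, Finset.sum_const_zero] at hsum
  exact h hsum.symm

end Cfsg.Agent.H45
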