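import Mathlib
import Cfsg.Prelude.Def_Characters
import Cfsg.Agent.H26.CharBasic

/-!
# Inflation of irreducible characters along surjective homomorphisms
-/

set_option autoImplicit false

namespace Cfsg.Agent.H45

variable {G H : Type*} [Group G] [Group H]

/-- The composite of an irreducible character with a surjective homomorphism is irreducible. -/
theorem isIrrCharacter_comp_surjective (π : G →* H) (hπ : Function.Surjective π) {χ : H → ℂ}
    (h : Cfsg.IsIrrCharacter H χ) : Cfsg.IsIrrCharacter G (χ ∘ π) := by
  obtain ⟨n, ρ, hρ, rfl⟩ := h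
  refine ⟨n, ρ.comp π, ?_, rfl⟩
  have h1 := (H26.isIrreducible_iff_forall ρ).1 hρ
  refine (H26.isIrreducible_iff_forall _).2 ⟨h1.1, fun U hU => h1.2 U fun y v hv => ?_⟩
  obtain ⟨x, rfl⟩ := hπ y
  exact hU x v hv

/-- Inflation of irreducible characters along a surjective homomorphism. -/
noncomputable def inflIrr (π : G →* H) (hπ : Function.Surjective π) (χ : Cfsg.IrrCharacter H) :
    Cfsg.IrrCharacter G :=
  ⟨χ.1 ∘ π, isIrrCharacter_comp_surjective π hπ χ.2⟩

/-- Inflation is injective. -/
theorem inflIrr_injective (π : G →* H) (hπ : Function.Surjective π) :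
    Function.Injective (inflIrr π hπ) := fun a b h =>
  Subtype.ext (hπ.injective_comp_right (congrArg Subtype.val h))

end Cfsg.Agent.H45
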