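import Mathlib
import Cfsg.Prelude.Def_Characters
import Cfsg.Prelude.Def_Blocks
import Cfsg.Agent.H25.CharValues
import Cfsg.Agent.H25.CharIntegral
import Cfsg.Agent.H26.CharBasic
import Cfsg.Agent.H26.CharOrtho
import Cfsg.Agent.H27.Imprimitive

/-!
# Characters and abelian normal Sylow subgroups

Degrees prime to `p` for an abelian normal Sylow `p`-subgroup, nonvanishing of such characters at
`p`-elements, and column sums of squared absolute values.
-/

set_option autoImplicit false

open scoped ComplexConjugate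

namespace Cfsg.Agent.H45

/-- A rational prime is not a unit among the algebraic integers. -/
theorem natCast_prime_not_isUnit (p : ℕ) [Fact p.Prime] : ¬ IsUnit (p : Cfsg.AlgInt) := by
  intro h
  obtain ⟨w, hw⟩ := isUnit_iff_exists_inv.1 h
  have hw' : (p : ℂ) * (w : ℂ) = 1 := by
    simpa using congrArg Subtype.val hw
  have hp : (p : ℂ) ≠ 0 := Nat.cast_ne_zero.2 (Fact.out : p.Prime).ne_zero
  have hwq : (w : ℂ) = algebraMap ℚ ℂ (1 / p : ℚ) := by
    rw [eq_ratCast]
    push_cast
    field_simp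
    linear_combination hw'
  have hint : IsIntegral ℤ (algebraMap ℚ ℂ (1 / p : ℚ)) := hwq ▸ w.2
  rw [isIntegral_algebraMap_iff (algebraMap ℚ ℂ).injective] at hint
  obtain ⟨n, hn⟩ := IsIntegrallyClosed.isIntegral_iff.1 hint
  have h1 : (n : ℚ) * p = 1 := by
    have : (n : ℚ) = 1 / p := by simpa using hn
    rw [this, one_div, inv_mul_cancel₀ (Nat.cast_ne_zero.2 (Fact.out : p.Prime).ne_zero)]
  have h2 : n * (p : ℤ) = 1 := by exact_mod_cast h1
  have h3 := Int.eq_one_of_mul_eq_one_left (by positivity) h2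
  have h4 : p = 1 := by exact_mod_cast h3
  exact (Fact.out : p.Prime).ne_one h4

/-- A sum of `d` roots of unity of `p`-power order is nonzero when `p` does not divide `d`. -/
theorem sum_roots_ne_zero {ι : Type*} [Fintype ι] (p : ℕ) [Fact p.Prime] {k : ℕ} (μ : ι → ℂ)
    (hμ : ∀ i, μ i ^ p ^ k = 1) (hd : ¬ p ∣ Fintype.card ι) : ∑ i, μ i ≠ 0 := by
  intro h0
  haveI := CharP.quotient Cfsg.AlgInt p (natCast_prime_not_isUnit p)
  let u : ι → Cfsg.AlgInt := fun i =>
    ⟨μ i, IsIntegral.of_pow (pow_pos (Fact.out : p.Prime).pos k) (by rw [hμ]; exact isIntegral_one)⟩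
  have hu : ∀ i, u i ^ p ^ k = 1 := fun i => Subtype.ext (by simpa [u] using hμ i)
  have hsum : ∑ i, u i = 0 := Subtype.ext (by simpa [u] using h0)
  have h := congrArg
    (fun z => (Ideal.Quotient.mk (Ideal.span {(p : Cfsg.AlgInt)}) z) ^ p ^ k) hsum
  simp only [map_sum, map_zero, sum_pow_char_pow, ← map_pow, hu, map_one, Finset.sum_const,
    Finset.card_univ, nsmul_eq_mul, mul_one,
    zero_pow (pow_ne_zero k (Fact.out : p.Prime).ne_zero)] at h
  exact hd ((CharP.cast_eq_zero_iff _ p _).1 h)

variable {G : Type*} [Group G] [Finite G]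

/-- An irreducible character of degree prime to `p` is nonzero at every `p`-element. -/
theorem char_ne_zero_of_prime_to_degree {V : Type*} [AddCommGroup V] [Module ℂ V]
    [FiniteDimensional ℂ V] (ρ : Representation ℂ G V) (p : ℕ) [Fact p.Prime]
    (hd : ¬ p ∣ Module.finrank ℂ V) (g : G) {k : ℕ} (hg : g ^ p ^ k = 1) :
    ρ.character g ≠ 0 := by
  obtain ⟨μ, hμ, hs⟩ := H25.exists_char_eq_sum_roots ρ g
  rw [hs]
  refine sum_roots_ne_zero p (k := k) μ (fun i => ?_) (by rwa [Fintype.card_fin])
  obtain ⟨c, hc⟩ := orderOf_dvd_of_pow_eq_one hg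
  rw [hc, pow_mul, hμ, one_pow]

/-- With an abelian normal Sylow `p`-subgroup, irreducible degrees are prime to `p`. -/
theorem not_dvd_finrank_of_abelian_normal_sylow {V : Type*} [AddCommGroup V] [Module ℂ V]
    [FiniteDimensional ℂ V] (ρ : Representation ℂ G V) [ρ.IsIrreducible] (p : ℕ) [Fact p.Prime]
    (A : Subgroup G) [A.Normal] (hA : IsPGroup p A) (hidx : ¬ p ∣ A.index)
    (hab : ∀ a ∈ A, ∀ b ∈ A, a * b = b * a) : ¬ p ∣ Module.finrank ℂ V := by
  haveI : Fintype G := Fintype.ofFinite G
  obtain ⟨μ, T, W, σ, hAT, -, hσ, hσv, hμW, -, hdim⟩ := H27.exists_indFun_of_commutative_image ρ A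
    (fun a ha b hb => by rw [← map_mul, ← map_mul, hab a ha b hb])
  have hp := (Fact.out : p.Prime)
  have hTidx : ¬ p ∣ T.index := fun h => hidx (h.trans (Subgroup.index_dvd_of_le hAT))
  have hW : ¬ p ∣ Module.finrank ℂ W := by
    have hcop : Nat.Coprime (Nat.card (A.subgroupOf T)) (A.subgroupOf T).index := by
      obtain ⟨m, hm⟩ := IsPGroup.iff_card.1 (hA.of_equiv (Subgroup.subgroupOfEquivOfLe hAT).symm)
      rw [hm]
      refine Nat.Coprime.pow_left m ((hp.coprime_iff_not_dvd).2 fun h => hidx ?_)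
      exact h.trans (Subgroup.relIndex_dvd_index_of_normal A T)
    obtain ⟨H, hH⟩ := Subgroup.exists_right_complement'_of_coprime hcop
    haveI : Representation.IsIrreducible (σ.comp H.subtype : Representation ℂ H W) := by
      have h1 := (H26.isIrreducible_iff_forall σ).1 hσ
      refine (H26.isIrreducible_iff_forall _).2 ⟨h1.1, fun U hU => h1.2 U fun t u hu => ?_⟩
      obtain ⟨⟨a, h⟩, rfl⟩ := hH.2 t
      rw [map_mul, Module.End.mul_apply]
      have hscal : ∀ w : W, σ (a : T) w = (μ ⟨((a : T) : G), a.2⟩ : ℂ) • w := fun w => by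
        apply Subtype.ext
        rw [hσv, Submodule.coe_smul]
        exact hμW ⟨((a : T) : G), a.2⟩ w w.2
      rw [hscal]
      exact U.smul_mem _ (hU h u hu)
    intro h
    have h2 := h.trans (H25.finrank_dvd_card (σ.comp H.subtype))
    rw [← hH.symm.index_eq_card] at h2
    exact hidx (h2.trans (Subgroup.relIndex_dvd_index_of_normal A T))
  rw [hdim]
  exact fun h => (hp.dvd_mul.1 h).elim hTidx hW

/-- With an abelian normal Sylow `p`-subgroup, no irreducible character degree is divisible by `p`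
and no irreducible character vanishes at a `p`-element. -/
theorem irr_ne_zero_of_abelian_normal_sylow (p : ℕ) [Fact p.Prime] (A : Subgroup G) [A.Normal]
    (hA : IsPGroup p A) (hidx : ¬ p ∣ A.index) (hab : ∀ a ∈ A, ∀ b ∈ A, a * b = b * a)
    (χ : Cfsg.IrrCharacter G) {v : G} (hv : v ∈ A) : χ.1 v ≠ 0 := by
  obtain ⟨n, ρ, hρ, h⟩ := χ.2
  rw [← h]
  obtain ⟨k, hk⟩ := hA ⟨v, hv⟩
  exact char_ne_zero_of_prime_to_degree ρ p
    (not_dvd_finrank_of_abelian_normal_sylow ρ p A hA hidx hab) v
    (by simpa using congrArg Subtype.val hk)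

/-- The squared absolute values in a column of the character table sum to the centralizer order. -/
theorem sum_irr_norm_sq (g : G) :
    ∑ χ : Cfsg.IrrCharacter G, ‖χ.1 g‖ ^ 2 =
      (Nat.card (Subgroup.centralizer ({g} : Set G)) : ℝ) := by
  classical
  have : Fintype G := Fintype.ofFinite G
  have h := congrArg Complex.re (H26.column_orthogonality g g)
  rw [show H26.classIndicator g g = 1 from if_pos (IsConj.refl g), mul_one,
    Complex.natCast_re] at h
  simpa only [Complex.mul_conj, Complex.normSq_eq_norm_sq, Complex.re_sum, Complex.ofReal_re]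
    using h

end Cfsg.Agent.H45
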