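import Cfsg.Agent.H26.CharOrtho
import Cfsg.Agent.H43.CharKer
import Cfsg.Agent.H45.NormalSylow
import Cfsg.Agent.H45.Inflation
import Cfsg.Agent.H22.Tate

/-!
# Extendible `p'`-degree characters of a Sylow normaliser give a normal complement
-/

set_option autoImplicit false

open scoped ComplexConjugate commutatorElement

namespace Cfsg.Agent.H45

variable {G : Type*} [Group G] [Finite G]

/-- A nonidentity element is outside the kernel of some irreducible character. -/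
theorem exists_irr_apply_ne {g : G} (hg : g ≠ 1) : ∃ χ : Cfsg.IrrCharacter G, χ.1 g ≠ χ.1 1 := by
  classical
  have := Fintype.ofFinite G
  by_contra h
  push Not at h
  have h1 := H26.column_orthogonality g 1
  have h2 := H26.column_orthogonality (1 : G) 1
  have h3 : H26.classIndicator (1 : G) g = 0 := by
    rw [H26.classIndicator, if_neg]
    exact fun hc => hg (isConj_one_left.1 hc)
  rw [h3, mul_zero] at h1
  simp only [h] at h1
  rw [h1] at h2
  rw [H26.classIndicator, if_pos (IsConj.refl _), mul_one] at h2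
  exact Nat.card_pos.ne' (Nat.cast_eq_zero.1 h2.symm)

/-- The extension hypothesis: every irreducible character of degree prime to `p` of the normalizer
of `P` is a restriction. -/
def PPrimeExtends (p : ℕ) (P : Subgroup G) : Prop :=
  ∀ θ : Cfsg.IrrCharacter ↥(Subgroup.normalizer (P : Set G)),
    ¬ p ∣ Cfsg.charDegree (θ : ↥(Subgroup.normalizer (P : Set G)) → ℂ) →
      ∃ χ : Cfsg.IrrCharacter G, ∀ x : ↥(Subgroup.normalizer (P : Set G)), χ.1 x = θ.1 x

/-- A normal subgroup of the normalizer above `P'` is cut out by a normal subgroup of `G`. -/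
theorem exists_normal_inf_eq (p : ℕ) [Fact p.Prime] (P : Sylow p G) (hext : PPrimeExtends p (P : Subgroup G))
    (R : Subgroup ↥(Subgroup.normalizer ((P : Subgroup G) : Set G))) [hR : R.Normal]
    (hPR : ⁅(P : Subgroup G).subgroupOf (Subgroup.normalizer ((P : Subgroup G) : Set G)),
      (P : Subgroup G).subgroupOf (Subgroup.normalizer ((P : Subgroup G) : Set G))⁆ ≤ R) :
    ∃ K : Subgroup G, K.Normal ∧
      K ⊓ Subgroup.normalizer ((P : Subgroup G) : Set G) = R.map (Subgroup.subtype _) := by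
  classical
  set Pn := (P : Subgroup G).subgroupOf (Subgroup.normalizer ((P : Subgroup G) : Set G)) with hPn
  have : Pn.Normal := Subgroup.normal_subgroupOf_of_le_normalizer le_rfl
  set π := QuotientGroup.mk' R
  have hπ := QuotientGroup.mk'_surjective R
  have hA : IsPGroup p (Pn.map π) :=
    (P.2.comap_of_injective (Subgroup.normalizer ((P : Subgroup G) : Set G)).subtype Subtype.coe_injective).map π
  have hAn : (Pn.map π).Normal := Subgroup.Normal.map inferInstance π hπ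
  have hidx : ¬ p ∣ (Pn.map π).index := by
    intro h
    have h1 := h.trans (Subgroup.index_map_dvd Pn hπ)
    exact (P.subtype Subgroup.le_normalizer).not_dvd_index (by rwa [Sylow.coe_subtype])
  have hab : ∀ a ∈ Pn.map π, ∀ b ∈ Pn.map π, a * b = b * a := by
    rintro _ ⟨a, ha, rfl⟩ _ ⟨b, hb, rfl⟩
    rw [← commutatorElement_eq_one_iff_mul_comm, ← map_commutatorElement]
    exact (QuotientGroup.eq_one_iff _).2 (hPR (Subgroup.commutator_mem_commutator ha hb))
  have hψ : ∀ ψ : Cfsg.IrrCharacter (↥(Subgroup.normalizer ((P : Subgroup G) : Set G)) ⧸ R),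
      ∃ χ : Cfsg.IrrCharacter G, ∀ x : ↥(Subgroup.normalizer ((P : Subgroup G) : Set G)), χ.1 x = ψ.1 (π x) := by
    intro ψ
    refine hext (inflIrr π hπ ψ) fun h => ?_
    obtain ⟨n, ρ, hρ, e⟩ := ψ.2
    haveI := hρ
    refine not_dvd_finrank_of_abelian_normal_sylow ρ p (Pn.map π) hA hidx hab ?_
    have h1 : Cfsg.charDegree (inflIrr π hπ ψ).1 = Module.finrank ℂ (Fin n → ℂ) := by
      show Cfsg.charDegree (ψ.1 ∘ π) = _
      rw [← e, Cfsg.charDegree, Function.comp_apply, map_one, Representation.char_one,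
        Complex.natCast_re, Nat.floor_natCast]
    rwa [← h1]
  choose χ hχ using hψ
  refine ⟨⨅ ψ, H43.charKer (χ ψ), Subgroup.normal_iInf_normal fun ψ => inferInstance, ?_⟩
  ext x
  simp only [Subgroup.mem_inf, Subgroup.mem_iInf, Subgroup.mem_map, Subgroup.coe_subtype]
  constructor
  · rintro ⟨hx, hxN⟩
    refine ⟨⟨x, hxN⟩, ?_, rfl⟩
    by_contra hxR
    obtain ⟨ψ, hψ⟩ := exists_irr_apply_ne (G := ↥(Subgroup.normalizer ((P : Subgroup G) : Set G)) ⧸ R) (g := π ⟨x, hxN⟩)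
      (fun h => hxR ((QuotientGroup.eq_one_iff _).1 h))
    refine hψ ?_
    have h1 : (χ ψ).1 x = (χ ψ).1 1 := hx ψ
    have h2 := hχ ψ ⟨x, hxN⟩
    have h3 := hχ ψ 1
    rw [map_one] at h3
    simp only [OneMemClass.coe_one] at h3
    rw [← h2, ← h3]
    exact h1
  · rintro ⟨y, hy, rfl⟩
    refine ⟨fun ψ => ?_, y.2⟩
    show (χ ψ).1 (y : G) = (χ ψ).1 1
    have h3 := hχ ψ 1
    rw [map_one] at h3
    simp only [OneMemClass.coe_one] at h3
    rw [hχ ψ y, show π y = 1 from (QuotientGroup.eq_one_iff _).2 hy, h3]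

/-- Extendibility gives a normal complement. -/
theorem exists_complement_of_pPrimeExtends (p : ℕ) [Fact p.Prime] (P : Sylow p G)
    (hext : PPrimeExtends p (P : Subgroup G)) :
    ∃ L : Subgroup G, L.Normal ∧ L ⊔ Subgroup.normalizer ((P : Subgroup G) : Set G) = ⊤ ∧
      L ⊓ Subgroup.normalizer ((P : Subgroup G) : Set G) = ⊥ := by
  classical
  set Pn := (P : Subgroup G).subgroupOf (Subgroup.normalizer ((P : Subgroup G) : Set G)) with hPn
  have : Pn.Normal := Subgroup.normal_subgroupOf_of_le_normalizer le_rfl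
  have hPN : (P : Subgroup G) ≤ (Subgroup.normalizer ((P : Subgroup G) : Set G)) := Subgroup.le_normalizer
  have hmapPn : Pn.map (Subgroup.normalizer ((P : Subgroup G) : Set G)).subtype = (P : Subgroup G) := by
    rw [hPn, Subgroup.subgroupOf_map_subtype, inf_eq_left.2 hPN]
  obtain ⟨K₂, hK₂n, hK₂⟩ := exists_normal_inf_eq p P hext Pn (Subgroup.commutator_le_right _ _)
  rw [hmapPn] at hK₂
  obtain ⟨K, hKn, hK⟩ := exists_normal_inf_eq p P hext ⁅Pn, Pn⁆ le_rfl
  rw [Subgroup.map_commutator, hmapPn] at hK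
  have hPK₂ : (P : Subgroup G) ≤ K₂ := hK₂ ▸ inf_le_left
  have htop : (Subgroup.normalizer ((P : Subgroup G) : Set G)) ⊔ K₂ = ⊤ := Sylow.normalizer_sup_eq_top' P hPK₂
  -- everything else happens inside `K₂`
  set P₂ : Sylow p ↥K₂ := P.subtype hPK₂ with hP₂
  have hP₂c : (P₂ : Subgroup ↥K₂) = (P : Subgroup G).subgroupOf K₂ := Sylow.coe_subtype _ _
  set K' := K.subgroupOf K₂ with hK'
  have : K'.Normal := hKn.subgroupOf K₂
  set π := QuotientGroup.mk' K'
  have hπ := QuotientGroup.mk'_surjective K'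
  set PQ := P₂.mapSurjective hπ with hPQ
  have hPQc : (PQ : Subgroup (↥K₂ ⧸ K')) = (P₂ : Subgroup ↥K₂).map π := rfl
  have habel : ∀ a ∈ (PQ : Subgroup (↥K₂ ⧸ K')), ∀ b ∈ (PQ : Subgroup (↥K₂ ⧸ K')),
      a * b = b * a := by
    rw [hPQc]
    rintro _ ⟨a, ha, rfl⟩ _ ⟨b, hb, rfl⟩
    rw [← commutatorElement_eq_one_iff_mul_comm, ← map_commutatorElement]
    refine (QuotientGroup.eq_one_iff _).2 ?_
    rw [hP₂c] at ha hb
    have h1 : ((⁅a, b⁆ : ↥K₂) : G) ∈ K ⊓ (Subgroup.normalizer ((P : Subgroup G) : Set G)) := by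
      rw [hK]
      rw [show ((⁅a, b⁆ : ↥K₂) : G) = ⁅(a : G), (b : G)⁆ from map_commutatorElement K₂.subtype a b]
      exact Subgroup.commutator_mem_commutator (Subgroup.mem_subgroupOf.1 ha)
          (Subgroup.mem_subgroupOf.1 hb)
    exact Subgroup.mem_subgroupOf.2 h1.1
  have hnc : Subgroup.normalizer ((PQ : Subgroup (↥K₂ ⧸ K')) : Set (↥K₂ ⧸ K')) ≤
      Subgroup.centralizer ((PQ : Subgroup (↥K₂ ⧸ K')) : Set (↥K₂ ⧸ K')) := by
    intro y hy
    obtain ⟨k, rfl⟩ := hπ y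
    suffices h : π k ∈ (PQ : Subgroup (↥K₂ ⧸ K')) by
      rw [Subgroup.mem_centralizer_iff]
      exact fun z hz => habel z hz _ h
    -- `k` normalises the preimage `T` of the image of `P`
    set T := ((P₂ : Subgroup ↥K₂).map π).comap π with hT
    have hPT : (P₂ : Subgroup ↥K₂) ≤ T := Subgroup.le_comap_map _ _
    have hconj : ∀ x : ↥K₂, x ∈ T ↔ k * x * k⁻¹ ∈ T := fun x => by
      simp only [hT, Subgroup.mem_comap, map_mul, map_inv]
      exact Subgroup.mem_normalizer_iff.1 hy (π x)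
    have hkT : (MulAut.conj k • P₂ : Sylow p ↥K₂).toSubgroup ≤ T := by
      rintro _ ⟨x, hx, rfl⟩
      exact (hconj x).1 (hPT hx)
    obtain ⟨⟨a, haT⟩, ha⟩ := MulAction.exists_smul_eq ↥T
      ((MulAut.conj k • P₂ : Sylow p ↥K₂).subtype hkT) (P₂.subtype hPT)
    have ha' : ∀ x : ↥K₂, x ∈ (P₂ : Subgroup ↥K₂) →
        (a * k) * x * (a * k)⁻¹ ∈ (P₂ : Subgroup ↥K₂) := by
      intro x hx
      have hkx : k * x * k⁻¹ ∈ (MulAut.conj k • P₂ : Sylow p ↥K₂).toSubgroup := ⟨x, hx, rfl⟩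
      have h1 : (⟨a, haT⟩ : ↥T) * ⟨k * x * k⁻¹, hkT hkx⟩ * (⟨a, haT⟩ : ↥T)⁻¹ ∈
          ((P₂.subtype hPT : Sylow p ↥T) : Subgroup ↥T) := by
        rw [← ha]
        exact ⟨⟨k * x * k⁻¹, hkT hkx⟩, hkx, rfl⟩
      have h2 : a * (k * x * k⁻¹) * a⁻¹ ∈ (P₂ : Subgroup ↥K₂) := h1
      convert h2 using 1
      group
    have hakN : ((a * k : ↥K₂) : G) ∈ (Subgroup.normalizer ((P : Subgroup G) : Set G)) := by
      refine Subgroup.mem_normalizer_fintype fun x hx => ?_
      exact ha' ⟨x, hPK₂ hx⟩ hx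
    have hak : (a * k : ↥K₂) ∈ (P₂ : Subgroup ↥K₂) := by
      rw [hP₂c, Subgroup.mem_subgroupOf]
      exact hK₂ ▸ ⟨(a * k).2, hakN⟩
    have h3 : π a ∈ (PQ : Subgroup (↥K₂ ⧸ K')) := haT
    have h4 : π (a * k) ∈ (PQ : Subgroup (↥K₂ ⧸ K')) := ⟨_, hak, rfl⟩
    rw [map_mul] at h4
    exact (Subgroup.mul_mem_cancel_left _ h3).1 h4
  have hfocal : ∀ x : ↥K₂, x ∈ (P₂ : Subgroup ↥K₂) → x ∈ commutator ↥K₂ →
      (x : G) ∈ ⁅(P : Subgroup G), (P : Subgroup G)⁆ := by
    intro x hxP hxc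
    have hcomm : commutator (↥K₂ ⧸ K') ≤ (MonoidHom.transferSylow PQ hnc).ker := by
      rw [commutator_def, Subgroup.commutator_le]
      intro a _ b _
      rw [MonoidHom.mem_ker, map_commutatorElement, commutatorElement_eq_one_iff_mul_comm]
      exact Subtype.ext (habel _ (SetLike.coe_mem _) _ (SetLike.coe_mem _))
    have h1 : π x ∈ (MonoidHom.transferSylow PQ hnc).ker := by
      refine hcomm ?_
      rw [commutator_def] at hxc ⊢
      have := Subgroup.mem_map_of_mem π hxc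
      rw [Subgroup.map_commutator] at this
      exact Subgroup.commutator_mono le_top le_top this
    have h2 := (MonoidHom.ker_transferSylow_isComplement' PQ hnc).disjoint
    have h3 : π x = 1 := (Subgroup.disjoint_def.1 h2) h1 ⟨x, hxP, rfl⟩
    rw [hP₂c] at hxP
    exact hK ▸ ⟨Subgroup.mem_subgroupOf.1 ((QuotientGroup.eq_one_iff _).1 h3),
      hPN (Subgroup.mem_subgroupOf.1 hxP)⟩
  have hTate : ∀ M : Subgroup (P₂ : Subgroup ↥K₂), M.Normal → M.index = p →
      (P₂ : Subgroup ↥K₂) ⊓ commutator ↥K₂ ≤ M.map (P₂ : Subgroup ↥K₂).subtype := by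
    intro M hM hMp x hx
    refine ⟨⟨x, hx.1⟩, ?_, rfl⟩
    have hle : commutator (P₂ : Subgroup ↥K₂) ≤ M := by
      have hcard : Nat.card ((P₂ : Subgroup ↥K₂) ⧸ M) = p := by
        rw [← Subgroup.index_eq_card, hMp]
      haveI : IsCyclic ((P₂ : Subgroup ↥K₂) ⧸ M) := isCyclic_of_prime_card hcard
      exact Subgroup.Normal.quotient_commutative_iff_commutator_le.mp inferInstance
    apply hle
    have h1 := hfocal x hx.1 hx.2
    have h2 : ⁅(P : Subgroup G), (P : Subgroup G)⁆ =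
        ((commutator (P₂ : Subgroup ↥K₂)).map (P₂ : Subgroup ↥K₂).subtype).map K₂.subtype := by
      rw [Subgroup.map_subtype_commutator, Subgroup.map_commutator, hP₂c,
        Subgroup.subgroupOf_map_subtype, inf_eq_left.2 hPK₂]
    rw [h2] at h1
    obtain ⟨_, ⟨z, hz, rfl⟩, hzx⟩ := h1
    have e : (⟨x, hx.1⟩ : (P₂ : Subgroup ↥K₂)) = z := Subtype.ext (Subtype.ext hzx.symm)
    rw [e]
    exact hz
  have h1 := H22.tate P₂ (P₂ : Subgroup ↥K₂) le_rfl hTate
  rw [H22.pResidual_eq_bot_of_isPGroup P₂.isPGroup', Subgroup.map_bot, le_bot_iff] at h1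
  set L₂ := Cfsg.pResidual p ↥K₂ with hL₂
  have hcop : ¬ p ∣ Nat.card L₂ := H22.not_dvd_card_of_sylow_inf_eq_bot P₂ _ h1
  obtain ⟨e, he⟩ := H22.exists_index_pResidual_eq (p := p) (G := ↥K₂)
  have : (L₂.map K₂.subtype).Normal := ConjAct.normal_of_characteristic_of_normal
  refine ⟨L₂.map K₂.subtype, this, ?_, ?_⟩
  · have hsup : L₂ ⊔ (P₂ : Subgroup ↥K₂) = ⊤ := by
      rw [← Subgroup.index_eq_one]
      refine Nat.eq_one_of_dvd_coprimes ?_ (Subgroup.index_dvd_of_le le_sup_left)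
        (Subgroup.index_dvd_of_le le_sup_right)
      rw [he]
      exact ((Nat.Prime.coprime_iff_not_dvd Fact.out).2 P₂.not_dvd_index).pow_left e
    refine eq_top_iff.2 (htop ▸ sup_le le_sup_right ?_)
    intro x hx
    have hx' : (⟨x, hx⟩ : ↥K₂) ∈ L₂ ⊔ (P₂ : Subgroup ↥K₂) := hsup ▸ Subgroup.mem_top _
    have h2 := Subgroup.mem_map_of_mem K₂.subtype hx'
    rw [Subgroup.map_sup, hP₂c, Subgroup.subgroupOf_map_subtype, inf_eq_left.2 hPK₂] at h2
    exact sup_le_sup_left hPN _ h2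
  · rw [eq_bot_iff]
    rintro _ ⟨⟨y, hy, rfl⟩, hyN⟩
    have hyP : y ∈ (P₂ : Subgroup ↥K₂) := by
      rw [hP₂c, Subgroup.mem_subgroupOf]
      exact hK₂ ▸ ⟨y.2, hyN⟩
    have : y ∈ (P₂ : Subgroup ↥K₂) ⊓ L₂ := ⟨hyP, hy⟩
    rw [h1, Subgroup.mem_bot] at this
    rw [this]
    exact Subgroup.one_mem _

end Cfsg.Agent.H45
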