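import Cfsg.Agent.H45.EtaFamily
import Cfsg.Agent.H43.CoprimeExt
import Cfsg.Agent.H45.Gallagher

/-!
# The Heisenberg group of a skew invariant form, extended by the acting group
-/

set_option autoImplicit false

open scoped ComplexConjugate
open LinearMap (BilinForm)

namespace Cfsg.Agent.H45

universe u v

variable {p : ℕ} [Fact p.Prime] {H : Type u} [Group H] {M : Type v} [AddCommGroup M]
  [Module (ZMod p) M]

/-- A nondegenerate skew invariant form. -/
structure HData (p : ℕ) (H : Type u) [Group H] (M : Type v) [AddCommGroup M]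
    [Module (ZMod p) M] where
  /-- the action -/
  ρ : Representation (ZMod p) H M
  /-- the form -/
  β : BilinForm (ZMod p) M
  /-- invariance -/
  inv : ∀ h x y, β (ρ h x) (ρ h y) = β x y
  /-- skew symmetry -/
  skew : ∀ x y, β x y = -β y x
  /-- nondegeneracy -/
  nd : ∀ x, (∀ y, β x y = 0) → x = 0

/-- The group `Heis(β) ⋊ H`. -/
@[ext]
structure HGrp (D : HData p H M) where
  /-- module component -/
  u : M
  /-- central component -/
  a : ZMod p
  /-- acting component -/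
  h : H

variable {D : HData p H M}

instance : Group (HGrp D) where
  mul x y := ⟨x.u + D.ρ x.h y.u, x.a + y.a + D.β x.u (D.ρ x.h y.u), x.h * y.h⟩
  one := ⟨0, 0, 1⟩
  inv x := ⟨-D.ρ x.h⁻¹ x.u, -x.a + D.β x.u x.u, x.h⁻¹⟩
  mul_assoc x y z := by
    refine HGrp.ext ?_ ?_ (mul_assoc _ _ _)
    · show x.u + D.ρ x.h y.u + D.ρ (x.h * y.h) z.u = x.u + D.ρ x.h (y.u + D.ρ y.h z.u)
      rw [map_mul, Module.End.mul_apply, map_add, add_assoc]
    · show x.a + y.a + D.β x.u (D.ρ x.h y.u) + z.a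
          + D.β (x.u + D.ρ x.h y.u) (D.ρ (x.h * y.h) z.u)
        = x.a + (y.a + z.a + D.β y.u (D.ρ y.h z.u)) + D.β x.u (D.ρ x.h (y.u + D.ρ y.h z.u))
      rw [map_mul, Module.End.mul_apply, map_add (D.ρ x.h), map_add (D.β x.u), map_add D.β,
        LinearMap.add_apply, D.inv]
      ring
  one_mul x := by
    refine HGrp.ext ?_ ?_ (one_mul _)
    · show (0 : M) + D.ρ 1 x.u = x.u
      simp
    · show (0 : ZMod p) + x.a + D.β 0 (D.ρ 1 x.u) = x.a
      simp
  mul_one x := by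
    refine HGrp.ext ?_ ?_ (mul_one _)
    · show x.u + D.ρ x.h 0 = x.u
      simp
    · show x.a + 0 + D.β x.u (D.ρ x.h 0) = x.a
      simp
  inv_mul_cancel x := by
    refine HGrp.ext ?_ ?_ (inv_mul_cancel _)
    · show -D.ρ x.h⁻¹ x.u + D.ρ x.h⁻¹ x.u = 0
      simp
    · show -x.a + D.β x.u x.u + x.a + D.β (-D.ρ x.h⁻¹ x.u) (D.ρ x.h⁻¹ x.u) = 0
      rw [map_neg, LinearMap.neg_apply, D.inv]
      ring

theorem hgrp_mul_u (x y : HGrp D) : (x * y).u = x.u + D.ρ x.h y.u := rfl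

theorem hgrp_mul_a (x y : HGrp D) : (x * y).a = x.a + y.a + D.β x.u (D.ρ x.h y.u) := rfl

theorem hgrp_mul_h (x y : HGrp D) : (x * y).h = x.h * y.h := rfl

theorem hgrp_one : (1 : HGrp D) = ⟨0, 0, 1⟩ := rfl

/-- Coordinates. -/
def hgrpEquiv (D : HData p H M) : HGrp D ≃ M × ZMod p × H where
  toFun x := (x.u, x.a, x.h)
  invFun q := ⟨q.1, q.2.1, q.2.2⟩
  left_inv _ := rfl
  right_inv _ := rfl

instance [Finite M] [Finite H] : Finite (HGrp D) := Finite.of_equiv _ (hgrpEquiv D).symm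

/-- The acting group inside. -/
def hι (D : HData p H M) : H →* HGrp D where
  toFun h := ⟨0, 0, h⟩
  map_one' := rfl
  map_mul' a b := HGrp.ext (by simp [hgrp_mul_u]) (by simp [hgrp_mul_a]) rfl

/-- The projection. -/
def hproj (D : HData p H M) : HGrp D →* H where
  toFun x := x.h
  map_one' := rfl
  map_mul' _ _ := rfl

/-- The central elements. -/
def hz (D : HData p H M) (t : ZMod p) : HGrp D := ⟨0, t, 1⟩

/-- The translations. -/
def hT (D : HData p H M) (w : M) : HGrp D := ⟨w, 0, 1⟩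

theorem hz_mul (t : ZMod p) (x : HGrp D) : hz D t * x = ⟨x.u, t + x.a, x.h⟩ :=
  HGrp.ext (by simp [hz, hgrp_mul_u]) (by simp [hz, hgrp_mul_a]) (one_mul _)

theorem hz_central (t : ZMod p) (x : HGrp D) : hz D t * x = x * hz D t := by
  rw [hz_mul]
  exact HGrp.ext (by simp [hz, hgrp_mul_u]) (by simp [hz, hgrp_mul_a, add_comm]) (mul_one _).symm

theorem hz_pow (n : ℕ) : hz D 1 ^ n = hz D n := by
  induction n with
  | zero => simp [hz, hgrp_one]
  | succ n ih => rw [pow_succ, ih, hz_mul]; simp [hz]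

/-- The commutation rule for a fixed translation. -/
theorem hT_conj (x : HGrp D) (w : M) (hw : D.ρ x.h w = w) :
    hT D w * x = hz D (2 * D.β w x.u) * x * hT D w := by
  rw [hz_mul]
  refine HGrp.ext ?_ ?_ ?_
  · simp [hT, hgrp_mul_u, hw, add_comm]
  · simp only [hT, hgrp_mul_a, map_one, Module.End.one_apply, hw, add_zero, zero_add]
    rw [D.skew x.u w]
    ring
  · simp [hT, hgrp_mul_h]

/-- A central element acts by a scalar in an irreducible character. -/
theorem irr_central_mul {G : Type*} [Group G] [Finite G] (χ : Cfsg.IrrCharacter G) {z : G}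
    (hz : ∀ g, z * g = g * z) :
    ∃ c : ℂ, c ^ orderOf z = 1 ∧ χ.1 z = c * χ.1 1 ∧ ∀ g, χ.1 (z * g) = c * χ.1 g := by
  obtain ⟨n, ρ, hρ, e⟩ := χ.2
  have hT := H25.eq_smul_id_of_comm ρ (ρ z) fun g => by
    rw [← Module.End.mul_eq_comp, ← Module.End.mul_eq_comp, ← map_mul, ← map_mul, hz]
  set c := LinearMap.trace ℂ _ (ρ z) / (Module.finrank ℂ (Fin n → ℂ) : ℂ)
  have hall : ∀ g, χ.1 (z * g) = c * χ.1 g := fun g => by
    rw [← e]
    show LinearMap.trace ℂ _ (ρ (z * g)) = c * LinearMap.trace ℂ _ (ρ g)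
    rw [map_mul, hT, smul_mul_assoc, map_smul, smul_eq_mul, ← Module.End.one_eq_id, one_mul]
  refine ⟨c, ?_, by simpa using hall 1, hall⟩
  have h1 : ρ z ^ orderOf z = 1 := by rw [← map_pow, pow_orderOf_eq_one, map_one]
  rw [hT, ← Module.End.one_eq_id, smul_pow, one_pow] at h1
  haveI := H25.nontrivial_of_isIrreducible ρ
  exact smul_left_injective ℂ (one_ne_zero (α := Module.End ℂ (Fin n → ℂ)))
    (h1.trans (one_smul ℂ _).symm)

variable [Finite M] [Finite H]

/-- The data of an irreducible character with nontrivial central character. -/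
theorem exists_central_char (hp2 : p ≠ 2) (ξ : Cfsg.IrrCharacter (HGrp D))
    (hξ : ξ.1 (hz D 1) ≠ ξ.1 1) :
    ∃ c : ℂ, c ^ p = 1 ∧ c ≠ 1 ∧ (∀ t x, ξ.1 (hz D t * x) = c ^ t.val * ξ.1 x) ∧
      ∀ x, ∀ w, D.ρ x.h w = w → D.β w x.u ≠ 0 → ξ.1 x = 0 := by
  have hp := (Fact.out : p.Prime)
  haveI : NeZero p := ⟨hp.ne_zero⟩
  obtain ⟨c, hc, hc1, hcall⟩ := irr_central_mul ξ (hz_central (D := D) 1)
  have hord : orderOf (hz D 1) ∣ p := orderOf_dvd_of_pow_eq_one (by
    rw [hz_pow, ZMod.natCast_self]; rfl)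
  have hcp : c ^ p = 1 := by
    obtain ⟨k, hk⟩ := hord
    rw [hk, pow_mul, hc, one_pow]
  have hcne : c ≠ 1 := fun h => hξ (by rw [hc1, h, one_mul])
  have hprim : IsPrimitiveRoot c p := IsPrimitiveRoot.iff_orderOf.2 (orderOf_eq_prime hcp hcne)
  have hzall : ∀ t x, ξ.1 (hz D t * x) = c ^ t.val * ξ.1 x := by
    intro t x
    conv_lhs => rw [← ZMod.natCast_rightInverse t, ← hz_pow]
    induction t.val with
    | zero => simp
    | succ n ih => rw [pow_succ', mul_assoc, hcall, ih, pow_succ', mul_assoc]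
  refine ⟨c, hcp, hcne, hzall, fun x w hw hβ => ?_⟩
  have h2 : (2 : ZMod p) ≠ 0 := by
    intro h0
    have := (ZMod.natCast_eq_zero_iff 2 p).1 (by exact_mod_cast h0)
    exact hp2 ((Nat.prime_dvd_prime_iff_eq hp Nat.prime_two).1 this)
  have h := hT_conj x w hw
  have h' : hT D w * x * (hT D w)⁻¹ = hz D (2 * D.β w x.u) * x := by
    rw [h, mul_inv_cancel_right]
  have e := hzall (2 * D.β w x.u) x
  rw [← h', H26.irr_conj] at e
  by_contra hne
  have hcv : c ^ (2 * D.β w x.u).val = 1 :=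
    mul_right_cancel₀ hne (by rw [one_mul]; exact e.symm)
  exact mul_ne_zero h2 hβ ((ZMod.val_eq_zero _).1 (Nat.eq_zero_of_dvd_of_lt
    ((hprim.pow_eq_one_iff_dvd _).1 hcv) (ZMod.val_lt _)))

end Cfsg.Agent.H45
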