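import Cfsg.Agent.H45.HeisGroup
import Cfsg.Agent.H45.CliffordLinear
import Cfsg.Agent.H25.CharIntegral

/-!
# Eta families of skew forms in odd characteristic

Extensions `ξ` of the faithful characters of the Heisenberg group give the family
`h ↦ ξ 1 * ξ h / |C_M(h)|`.
-/

set_option autoImplicit false

open scoped ComplexConjugate
open LinearMap (BilinForm)

namespace Cfsg.Agent.H45

universe u v

variable {p : ℕ} [Fact p.Prime] {H : Type u} [Group H] [Finite H] {M : Type v} [AddCommGroup M]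
  [Module (ZMod p) M] [Finite M] {D : HData p H M}

omit [Finite H] [Finite M] in
theorem hker_mem (n : (hproj D).ker) : (n : HGrp D).h = 1 := n.2

/-- Coordinates of the kernel. -/
def kerEquiv (D : HData p H M) : (hproj D).ker ≃ M × ZMod p where
  toFun n := ((n : HGrp D).u, (n : HGrp D).a)
  invFun q := ⟨⟨q.1, q.2, 1⟩, rfl⟩
  left_inv n := Subtype.ext (HGrp.ext rfl rfl (hker_mem n).symm)
  right_inv _ := rfl

omit [Finite H] [Finite M] in
theorem hproj_surjective : Function.Surjective (hproj D) := fun h => ⟨hι D h, rfl⟩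

omit [Finite H] [Finite M] in
theorem card_hker : Nat.card (hproj D).ker = Nat.card M * p := by
  rw [Nat.card_congr (kerEquiv D), Nat.card_prod, Nat.card_zmod]

omit [Finite H] [Finite M] in
theorem exists_pair_ne_zero {x : M} (hx : x ≠ 0) : ∃ w, D.β w x ≠ 0 := by
  by_contra h
  push Not at h
  exact hx (D.nd x fun y => by rw [D.skew, h, neg_zero])

/-- The squared norm on the kernel. -/
theorem sum_hker_norm_sq [Fintype (hproj D).ker] (hp2 : p ≠ 2) (ξ : Cfsg.IrrCharacter (HGrp D))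
    (hξ : ξ.1 (hz D 1) ≠ ξ.1 1) :
    ∑ n : (hproj D).ker, ‖ξ.1 n‖ ^ 2 = (p : ℝ) * ‖ξ.1 1‖ ^ 2 := by
  classical
  haveI : NeZero p := ⟨(Fact.out : p.Prime).ne_zero⟩
  have := Fintype.ofFinite M
  obtain ⟨c, hc, -, hzall, hvan⟩ := exists_central_char hp2 ξ hξ
  rw [← Equiv.sum_comp (kerEquiv D).symm, Fintype.sum_prod_type,
    Fintype.sum_eq_single (0 : M)]
  · have hone : ∀ t : ZMod p, ‖ξ.1 ((kerEquiv D).symm (0, t))‖ = ‖ξ.1 1‖ := fun t => by
      show ‖ξ.1 (hz D t)‖ = _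
      rw [← mul_one (hz D t), hzall, norm_mul, norm_pow,
        Complex.norm_eq_one_of_pow_eq_one hc (Fact.out : p.Prime).ne_zero, one_pow, one_mul]
    simp [hone]
  · intro x hx
    obtain ⟨w, hw⟩ := exists_pair_ne_zero (D := D) hx
    refine Finset.sum_eq_zero fun t _ => ?_
    rw [show ξ.1 ((kerEquiv D).symm (x, t)) = 0 from
      hvan _ w (by simp [kerEquiv]) hw, norm_zero, zero_pow two_ne_zero]

/-- The degree square root: an extension restricts irreducibly. -/
theorem isIrr_restrict_hker [Fintype (hproj D).ker] (hp2 : p ≠ 2)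
    (ξ : Cfsg.IrrCharacter (HGrp D)) (hξ : ξ.1 (hz D 1) ≠ ξ.1 1)
    (hdeg : ξ.1 1 ^ 2 = (Nat.card M : ℂ)) :
    Cfsg.IsIrrCharacter (hproj D).ker fun n : (hproj D).ker => ξ.1 n := by
  refine H26.isIrrCharacter_of_norm_one
    (H26.isCharacter_comp (H26.irr_isCharacter ξ) (hproj D).ker.subtype) ?_
  have h := sum_hker_norm_sq hp2 ξ hξ
  have hn : ‖ξ.1 1‖ ^ 2 = (Nat.card M : ℝ) := by
    rw [← norm_pow, hdeg, Complex.norm_natCast]
  rw [hn] at h
  have h' : ∑ n : (hproj D).ker, ξ.1 (n : HGrp D) * conj (ξ.1 (n : HGrp D))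
      = (p : ℂ) * (Nat.card M : ℂ) := by
    simp only [Complex.mul_conj, Complex.normSq_eq_norm_sq]
    exact_mod_cast h
  show (Nat.card (hproj D).ker : ℂ)⁻¹ * _ = 1
  rw [h', card_hker, Nat.cast_mul, mul_comm (Nat.card M : ℂ)]
  exact inv_mul_cancel₀ (mul_ne_zero (Nat.cast_ne_zero.2 (Fact.out : p.Prime).ne_zero)
    (Nat.cast_ne_zero.2 Nat.card_pos.ne'))

/-- A fixed vector pairs nontrivially with every vector having a nonzero fixed component. -/
theorem exists_fixed_pair (hcop : ¬ p ∣ Nat.card H) (h : H)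
    {k r : M} (hk : D.ρ h k = k) (hr : r ∈ LinearMap.range (D.ρ h - 1)) (hk0 : k ≠ 0) :
    ∃ w, D.ρ h w = w ∧ D.β w (k + r) ≠ 0 := by
  by_contra hcon
  push Not at hcon
  have hrange : ∀ w, D.ρ h w = w → ∀ y, D.β w ((D.ρ h - 1) y) = 0 := fun w hw y => by
    rw [LinearMap.sub_apply, Module.End.one_apply, map_sub, sub_eq_zero]
    conv_lhs => rw [← hw, D.inv]
  refine hk0 (D.nd k fun y => ?_)
  obtain ⟨⟨w, s⟩, rfl⟩ :=
    (Submodule.prodEquivOfIsCompl _ _ (isCompl_ker_range hcop D.ρ h)).surjective y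
  obtain ⟨y', hy'⟩ := LinearMap.mem_range.1 s.2
  obtain ⟨y'', hy''⟩ := LinearMap.mem_range.1 hr
  have hw := (mem_ker_sub_one D.ρ h (w : M)).1 w.2
  have h1 := hcon w hw
  rw [map_add, ← hy'', hrange _ hw, add_zero] at h1
  rw [Submodule.coe_prodEquivOfIsCompl', map_add, ← hy', hrange k hk, D.skew, h1]
  simp

/-- The absolute value at an acting element. -/
theorem norm_sq_hι (hp2 : p ≠ 2) (hcop : ¬ p ∣ Nat.card H) (ξ : Cfsg.IrrCharacter (HGrp D))
    (hξ : ξ.1 (hz D 1) ≠ ξ.1 1) (hdeg : ξ.1 1 ^ 2 = (Nat.card M : ℂ)) (h : H) :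
    ‖ξ.1 (hι D h)‖ ^ 2 = (fixCard D.ρ h : ℝ) := by
  classical
  haveI : NeZero p := ⟨(Fact.out : p.Prime).ne_zero⟩
  have := Fintype.ofFinite M
  have := Fintype.ofFinite (hproj D).ker
  obtain ⟨c, hc, -, hzall, hvan⟩ := exists_central_char hp2 ξ hξ
  have hirr := isIrr_restrict_hker hp2 ξ hξ hdeg
  have hsum := coset_norm_eq_card _ ξ hirr (hι D h)
  have hel : ∀ q : M × ZMod p,
      ((kerEquiv D).symm q : HGrp D) * hι D h = ⟨q.1, q.2, h⟩ := fun q => by
    refine HGrp.ext ?_ ?_ (one_mul h)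
    · simp [kerEquiv, hι, hgrp_mul_u]
    · simp [kerEquiv, hι, hgrp_mul_a]
  rw [← Equiv.sum_comp (kerEquiv D).symm] at hsum
  simp only [hel] at hsum
  rw [Fintype.sum_prod_type] at hsum
  let e := Submodule.prodEquivOfIsCompl _ _ (isCompl_ker_range hcop D.ρ h)
  rw [← Equiv.sum_comp e.toEquiv, Fintype.sum_prod_type, Fintype.sum_eq_single 0] at hsum
  · have hval : ∀ (r : LinearMap.range (D.ρ h - 1)) (a : ZMod p),
        ‖ξ.1 ⟨e (0, r), a, h⟩‖ = ‖ξ.1 (hι D h)‖ := by
      intro r a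
      obtain ⟨y, hy⟩ := LinearMap.mem_range.1 r.2
      set b := a + D.β (r : M) (D.ρ h (-y)) with hb
      have hconj : hT D (-y) * (hz D b * hι D h) * (hT D (-y))⁻¹ = ⟨e (0, r), a, h⟩ := by
        rw [mul_inv_eq_iff_eq_mul, hz_mul]
        refine HGrp.ext ?_ ?_ ?_
        · simp only [hT, hι, MonoidHom.coe_mk, OneHom.coe_mk, hgrp_mul_u, map_zero, add_zero,
            Submodule.coe_prodEquivOfIsCompl', e, ZeroMemClass.coe_zero, zero_add, ← hy,
            LinearMap.sub_apply, Module.End.one_apply, map_neg]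
          abel
        · simp only [hT, hι, MonoidHom.coe_mk, OneHom.coe_mk, hgrp_mul_a, map_zero, add_zero,
            Submodule.coe_prodEquivOfIsCompl', e, ZeroMemClass.coe_zero, zero_add, hb]
        · simp [hT, hι, hgrp_mul_h]
      rw [← hconj, H26.irr_conj, hzall, norm_mul, norm_pow,
        Complex.norm_eq_one_of_pow_eq_one hc (Fact.out : p.Prime).ne_zero, one_pow, one_mul]
    simp only [LinearEquiv.coe_toEquiv, hval, Finset.sum_const, Finset.card_univ, ZMod.card,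
      nsmul_eq_mul] at hsum
    rw [card_hker, ← fixCard_mul_range D.ρ h, ← Nat.card_eq_fintype_card] at hsum
    push_cast at hsum
    have hR : (0 : ℝ) < Nat.card (LinearMap.range (D.ρ h - 1)) := Nat.cast_pos.2 Nat.card_pos
    have hp0 : (0 : ℝ) < p := Nat.cast_pos.2 (Fact.out : p.Prime).pos
    apply mul_left_cancel₀ (mul_ne_zero hR.ne' hp0.ne')
    linarith
  · intro k hk
    refine Finset.sum_eq_zero fun r _ => Finset.sum_eq_zero fun a _ => ?_
    obtain ⟨w, hw, hwne⟩ := exists_fixed_pair hcop h ((mem_ker_sub_one D.ρ h (k : M)).1 k.2) r.2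
      (fun h0 => hk (Subtype.ext h0))
    rw [hvan _ w hw (by simpa [e, Submodule.coe_prodEquivOfIsCompl'] using hwne), norm_zero,
      zero_pow two_ne_zero]

/-- With trivial action of an abelian group: the degree, and the values at the acting elements. -/
theorem hgrp_trivial_action (hp2 : p ≠ 2) (htriv : ∀ h, D.ρ h = 1)
    (hcomm : ∀ a b : H, a * b = b * a)
    (ξ : Cfsg.IrrCharacter (HGrp D)) (hξ : ξ.1 (hz D 1) ≠ ξ.1 1) :
    ξ.1 1 ^ 2 = (Nat.card M : ℂ) ∧
      ∀ h, ∃ ω, IsIntegral ℤ ω ∧ ξ.1 (hι D h) = ξ.1 1 * ω := by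
  classical
  have := Fintype.ofFinite M
  have := Fintype.ofFinite H
  have := Fintype.ofFinite (hproj D).ker
  have := Fintype.ofFinite (HGrp D)
  have hcent : ∀ h x, hι D h * x = x * hι D h := by
    intro h x
    refine HGrp.ext ?_ ?_ ?_
    · simp [hι, hgrp_mul_u, htriv]
    · simp [hι, hgrp_mul_a, htriv]
    · exact hcomm h x.h
  have hroot : ∀ h, ∃ c : ℂ, ‖c‖ = 1 ∧ IsIntegral ℤ c ∧
      ∀ g, ξ.1 (hι D h * g) = c * ξ.1 g := fun h => by
    obtain ⟨c, hc, -, hall⟩ := irr_central_mul ξ (hcent h)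
    exact ⟨c, Complex.norm_eq_one_of_pow_eq_one hc (orderOf_pos _).ne',
      H56.isIntegral_of_pow_eq_one (orderOf_pos _) hc, hall⟩
  refine ⟨?_, fun h => ?_⟩
  · have hn : ∑ x : HGrp D, ‖ξ.1 x‖ ^ 2
        = (Nat.card H : ℝ) * ((p : ℝ) * ‖ξ.1 1‖ ^ 2) := by
      let e : H × (hproj D).ker ≃ HGrp D :=
        { toFun := fun q => hι D q.1 * q.2
          invFun := fun x => (x.h, ⟨(hι D x.h)⁻¹ * x, by
            rw [MonoidHom.mem_ker, map_mul, map_inv]
            exact inv_mul_cancel x.h⟩)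
          left_inv := fun q => by
            have e1 : (hι D q.1 * (q.2 : HGrp D)).h = q.1 := by
              rw [hgrp_mul_h, hker_mem q.2, mul_one]
              rfl
            refine Prod.ext e1 (Subtype.ext ?_)
            show (hι D (hι D q.1 * (q.2 : HGrp D)).h)⁻¹ * (hι D q.1 * (q.2 : HGrp D)) = q.2
            rw [e1, inv_mul_cancel_left]
          right_inv := fun x => mul_inv_cancel_left _ _ }
      rw [← e.sum_comp, Fintype.sum_prod_type, ← sum_hker_norm_sq hp2 ξ hξ,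
        Nat.card_eq_fintype_card, ← nsmul_eq_mul, ← Finset.card_univ, ← Finset.sum_const]
      refine Finset.sum_congr rfl fun h _ => Finset.sum_congr rfl fun n _ => ?_
      obtain ⟨c, hc, -, hall⟩ := hroot h
      show ‖ξ.1 (hι D h * (n : HGrp D))‖ ^ 2 = _
      rw [hall, norm_mul, hc, one_mul]
    have h1 := congrArg Complex.re (H26.classInner_irr ξ ξ)
    rw [if_pos rfl, Cfsg.classInner] at h1
    simp only [Complex.mul_conj, Complex.normSq_eq_norm_sq] at h1
    rw [← Complex.ofReal_sum, hn, Nat.card_congr (hgrpEquiv D), Nat.card_prod, Nat.card_prod,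
      Nat.card_zmod, ← Complex.ofReal_natCast, ← Complex.ofReal_inv, ← Complex.ofReal_mul,
      Complex.ofReal_re, Complex.one_re, Nat.cast_mul, Nat.cast_mul] at h1
    obtain ⟨e₀, he₀⟩ := H26.exists_nat_char_one (H26.irr_isCharacter ξ)
    rw [he₀, Complex.norm_natCast] at h1
    have hM : (0 : ℝ) < Nat.card M := Nat.cast_pos.2 Nat.card_pos
    have hH : (0 : ℝ) < Nat.card H := Nat.cast_pos.2 Nat.card_pos
    have hp0 : (0 : ℝ) < p := Nat.cast_pos.2 (Fact.out : p.Prime).pos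
    field_simp at h1
    rw [he₀]
    have h2 : (e₀ : ℝ) ^ 2 = Nat.card M := by linarith
    exact_mod_cast h2
  · obtain ⟨c, -, hc, hall⟩ := hroot h
    exact ⟨c, hc, by rw [← mul_one (hι D h), hall, mul_comm]⟩

/-- The data on the fixed space of a single element. -/
noncomputable def fixData (hcop : ¬ p ∣ Nat.card H) (D : HData p H M) (h : H) :
    HData p (Subgroup.zpowers h) ↥(LinearMap.ker (D.ρ h - 1)) where
  ρ := 1
  β := D.β.compl₁₂ (LinearMap.ker (D.ρ h - 1)).subtype (LinearMap.ker (D.ρ h - 1)).subtype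
  inv _ _ _ := rfl
  skew x y := D.skew x y
  nd x hx := by
    by_contra h0
    obtain ⟨w, hw, hne⟩ := exists_fixed_pair (D := D) hcop h ((mem_ker_sub_one D.ρ h (x : M)).1 x.2)
      (Submodule.zero_mem _) (fun e => h0 (Subtype.ext e))
    rw [add_zero, D.skew] at hne
    exact hne (neg_eq_zero.2 (hx ⟨w, (mem_ker_sub_one D.ρ h w).2 hw⟩))

/-- The fixed space group inside. -/
noncomputable def fixEmb (hcop : ¬ p ∣ Nat.card H) (D : HData p H M) (h : H) :
    HGrp (fixData hcop D h) →* HGrp D where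
  toFun x := ⟨x.u, x.a, x.h⟩
  map_one' := rfl
  map_mul' x y := by
    have hstab : D.ρ (x.h : H) (y.u : M) = y.u := by
      have hsub : Subgroup.zpowers h ≤ (MulAction.stabilizer (Equiv.Perm M) (y.u : M)).comap
          (repPerm D.ρ) := by
        rw [Subgroup.zpowers_le]
        show repPerm D.ρ h (y.u : M) = y.u
        exact (mem_ker_sub_one D.ρ h _).1 y.u.2
      exact hsub x.h.2
    refine HGrp.ext ?_ ?_ rfl
    · show ((x.u + y.u : ↥(LinearMap.ker (D.ρ h - 1))) : M) = x.u + D.ρ (x.h : H) (y.u : M)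
      rw [hstab, Submodule.coe_add]
    · show x.a + y.a + D.β (x.u : M) (y.u : M) = x.a + y.a + D.β x.u (D.ρ (x.h : H) (y.u : M))
      rw [hstab]

/-- The value at an acting element is `√|C|` times an algebraic integer. -/
theorem exists_sqrt_fixCard (hp2 : p ≠ 2) (hcop : ¬ p ∣ Nat.card H)
    (ξ : Cfsg.IrrCharacter (HGrp D)) (hξ : ξ.1 (hz D 1) ≠ ξ.1 1) (h : H) :
    ∃ (d : ℕ) (ω : ℂ), d ^ 2 = fixCard D.ρ h ∧ IsIntegral ℤ ω ∧ ξ.1 (hι D h) = d * ω := by
  classical
  set D' := fixData hcop D h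
  set κ := fixEmb hcop D h
  have := Fintype.ofFinite (HGrp D')
  obtain ⟨c, hc, hcne, hzall, -⟩ := exists_central_char hp2 ξ hξ
  obtain ⟨m, hm, hexp⟩ := H26.exists_nat_coeffs (H26.isCharacter_comp (H26.irr_isCharacter ξ) κ)
  haveI : NeZero p := ⟨(Fact.out : p.Prime).ne_zero⟩
  haveI : Fact (1 < p) := ⟨(Fact.out : p.Prime).one_lt⟩
  have hkz : ∀ x, ξ.1 (κ (hz D' 1 * x)) = c * ξ.1 (κ x) := fun x => by
    rw [map_mul, show κ (hz D' 1) = hz D 1 from rfl, hzall, ZMod.val_one, pow_one]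
  have hψ : ∀ ψ : Cfsg.IrrCharacter (HGrp D'), m ψ ≠ 0 → ψ.1 (hz D' 1) ≠ ψ.1 1 := by
    intro ψ hψm he
    obtain ⟨c', -, hc1', hall'⟩ := irr_central_mul ψ (hz_central (D := D') 1)
    rw [he] at hc1'
    have hc' : c' = 1 := (mul_eq_right₀ (H26.irr_one_ne_zero ψ)).1 hc1'.symm
    subst hc'
    have e := hm ψ
    have e2 : Cfsg.classInner (fun x => ξ.1 (κ x)) ψ.1
        = c * Cfsg.classInner (fun x => ξ.1 (κ x)) ψ.1 := by
      simp only [Cfsg.classInner]
      rw [mul_left_comm]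
      congr 1
      rw [Finset.mul_sum]
      exact (Fintype.sum_equiv (Equiv.mulLeft (hz D' 1)) _ _ fun x => by
        show c * (ξ.1 (κ x) * conj (ψ.1 x)) = ξ.1 (κ (hz D' 1 * x)) * conj (ψ.1 (hz D' 1 * x))
        rw [hkz, hall', one_mul, mul_assoc]).symm
    rw [show (fun x => ξ.1 (κ x)) = ξ.1 ∘ κ from rfl] at e2
    have e' : Cfsg.classInner (ξ.1 ∘ κ) ψ.1 = (m ψ : ℂ) := e
    rw [e'] at e2
    exact hψm (Nat.cast_eq_zero.1 (mul_left_eq_self₀.1 e2.symm |>.resolve_left hcne))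
  have hex : ∃ ψ, m ψ ≠ 0 := by
    by_contra hall
    push Not at hall
    refine H26.irr_one_ne_zero ξ ?_
    have := congrFun hexp 1
    simpa [hall] using this
  obtain ⟨ψ₀, hψ₀⟩ := hex
  have htriv : ∀ g, D'.ρ g = 1 := fun _ => rfl
  have hab : ∀ a b : Subgroup.zpowers h, a * b = b * a := fun a b =>
    IsMulCommutative.is_comm.comm a b
  obtain ⟨d, hd⟩ := H26.exists_nat_char_one (H26.irr_isCharacter ψ₀)
  have hd2 := (hgrp_trivial_action hp2 htriv hab ψ₀ (hψ ψ₀ hψ₀)).1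
  rw [hd, ← fixCard_eq] at hd2
  have hd2' : d ^ 2 = fixCard D.ρ h := by exact_mod_cast hd2
  have hw : ∀ ψ : Cfsg.IrrCharacter (HGrp D'), ∃ ω, IsIntegral ℤ ω ∧
      (m ψ : ℂ) * ψ.1 (hι D' ⟨h, Subgroup.mem_zpowers h⟩) = d * ω := by
    intro ψ
    by_cases hψm : m ψ = 0
    · exact ⟨0, isIntegral_zero, by simp [hψm]⟩
    obtain ⟨h1, h2⟩ := hgrp_trivial_action hp2 htriv hab ψ (hψ ψ hψm)
    obtain ⟨ω, hω, hωe⟩ := h2 ⟨h, Subgroup.mem_zpowers h⟩
    obtain ⟨d', hd'⟩ := H26.exists_nat_char_one (H26.irr_isCharacter ψ)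
    rw [hd', ← fixCard_eq] at h1
    have hdd : d' = d := Nat.pow_left_injective two_ne_zero
      ((show d' ^ 2 = fixCard D.ρ h by exact_mod_cast h1).trans hd2'.symm)
    refine ⟨(m ψ : ℂ) * ω, ((map_natCast (algebraMap ℤ ℂ) (m ψ) ▸ isIntegral_algebraMap)).mul hω, ?_⟩
    rw [hωe, hd', hdd]
    ring
  choose ω hω hωe using hw
  refine ⟨d, ∑ ψ, ω ψ, hd2', IsIntegral.sum _ fun ψ _ => hω ψ, ?_⟩
  have h3 := congrFun hexp (hι D' ⟨h, Subgroup.mem_zpowers h⟩)
  simp only [Finset.sum_apply, Pi.smul_apply, smul_eq_mul, hωe, ← Finset.mul_sum] at h3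
  exact h3

/-- An extension of a faithful Heisenberg character exists. -/
theorem exists_hext (hp2 : p ≠ 2) (hcop : ¬ p ∣ Nat.card H) :
    ∃ ξ : Cfsg.IrrCharacter (HGrp D),
      ξ.1 1 ^ 2 = (Nat.card M : ℂ) ∧ ξ.1 (hz D 1) ≠ ξ.1 1 := by
  classical
  have hp := (Fact.out : p.Prime)
  haveI : NeZero p := ⟨hp.ne_zero⟩
  haveI : Fact (1 < p) := ⟨hp.one_lt⟩
  have := Fintype.ofFinite M
  have := Fintype.ofFinite (hproj D).ker
  have := Fintype.ofFinite (HGrp D)
  let z : (hproj D).ker := ⟨hz D 1, rfl⟩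
  have hzc : ∀ n, z * n = n * z := fun n => Subtype.ext (hz_central 1 _)
  obtain ⟨θ, hθ⟩ : ∃ θ : Cfsg.IrrCharacter (hproj D).ker, θ.1 z ≠ θ.1 1 := by
    by_contra hall
    push Not at hall
    have h1 := isConj_one_left.1 ((H26.isConj_iff_forall_irr z 1).2 hall)
    exact one_ne_zero (congrArg (fun n : (hproj D).ker => (n : HGrp D).a) h1)
  obtain ⟨c, hc, hc1, hcall⟩ := irr_central_mul θ hzc
  have hzp : z ^ p = 1 := Subtype.ext (by
    rw [SubmonoidClass.coe_pow]
    show hz D 1 ^ p = 1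
    rw [hz_pow, ZMod.natCast_self]
    rfl)
  have hcp : c ^ p = 1 := by
    obtain ⟨k, hk⟩ := orderOf_dvd_of_pow_eq_one hzp
    rw [hk, pow_mul, hc, one_pow]
  have hcne : c ≠ 1 := fun e => hθ (by rw [hc1, e, one_mul])
  have hprim : IsPrimitiveRoot c p := IsPrimitiveRoot.iff_orderOf.2 (orderOf_eq_prime hcp hcne)
  have hzall : ∀ (k : ℕ) n, θ.1 (z ^ k * n) = c ^ k * θ.1 n := by
    intro k n
    induction k with
    | zero => simp
    | succ k ih => rw [pow_succ', mul_assoc, hcall, ih, pow_succ', mul_assoc]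
  have hvan : ∀ n : (hproj D).ker, (n : HGrp D).u ≠ 0 → θ.1 n = 0 := by
    intro n hn
    obtain ⟨w, hw⟩ := exists_pair_ne_zero (D := D) hn
    set t := 2 * D.β w (n : HGrp D).u with ht
    have ht0 : t ≠ 0 := by
      refine mul_ne_zero (fun h0 => hp2 ?_) hw
      exact (Nat.prime_dvd_prime_iff_eq hp Nat.prime_two).1
        ((ZMod.natCast_eq_zero_iff 2 p).1 (by exact_mod_cast h0))
    let T : (hproj D).ker := ⟨hT D w, rfl⟩
    have h : T * n * T⁻¹ = z ^ t.val * n := by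
      refine Subtype.ext ?_
      show hT D w * (n : HGrp D) * (hT D w)⁻¹ = hz D 1 ^ t.val * (n : HGrp D)
      rw [hT_conj (n : HGrp D) w (by rw [hker_mem]; simp), mul_inv_cancel_right, hz_pow,
        ZMod.natCast_rightInverse]
    have e := hzall t.val n
    rw [← h, H26.irr_conj] at e
    by_contra hne
    have hcv : c ^ t.val = 1 := mul_right_cancel₀ hne (by rw [one_mul]; exact e.symm)
    exact ht0 ((ZMod.val_eq_zero _).1 (Nat.eq_zero_of_dvd_of_lt
      ((hprim.pow_eq_one_iff_dvd _).1 hcv) (ZMod.val_lt _)))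
  have hcz : ∀ n : (hproj D).ker, (n : HGrp D).u = 0 → n = z ^ (n : HGrp D).a.val := fun n hn => by
    refine Subtype.ext ?_
    rw [SubmonoidClass.coe_pow]
    show _ = hz D 1 ^ _
    rw [hz_pow, ZMod.natCast_rightInverse]
    exact HGrp.ext hn rfl (hker_mem n)
  obtain ⟨e₀, he₀⟩ := H26.exists_nat_char_one (H26.irr_isCharacter θ)
  have hdeg : e₀ ^ 2 = Nat.card M := by
    have h1 := congrArg Complex.re (H26.classInner_irr θ θ)
    rw [if_pos rfl, Cfsg.classInner] at h1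
    simp only [Complex.mul_conj, Complex.normSq_eq_norm_sq] at h1
    have hs : ∑ n : (hproj D).ker, ‖θ.1 n‖ ^ 2 = (p : ℝ) * (e₀ : ℝ) ^ 2 := by
      rw [← Equiv.sum_comp (kerEquiv D).symm, Fintype.sum_prod_type,
        Fintype.sum_eq_single (0 : M)]
      · have hone : ∀ t : ZMod p, ‖θ.1 ((kerEquiv D).symm (0, t))‖ = (e₀ : ℝ) := fun t => by
          rw [hcz ((kerEquiv D).symm (0, t)) rfl, ← mul_one (z ^ _), hzall, norm_mul, norm_pow,
            Complex.norm_eq_one_of_pow_eq_one hcp hp.ne_zero, one_pow, one_mul, he₀,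
            Complex.norm_natCast]
        simp [hone]
      · intro x hx
        exact Finset.sum_eq_zero fun t _ => by
          rw [hvan ((kerEquiv D).symm (x, t)) hx, norm_zero, zero_pow two_ne_zero]
    rw [← Complex.ofReal_sum, hs, card_hker, ← Complex.ofReal_natCast, ← Complex.ofReal_inv,
      ← Complex.ofReal_mul, Complex.ofReal_re, Complex.one_re, Nat.cast_mul] at h1
    have hM : (0 : ℝ) < Nat.card M := Nat.cast_pos.2 Nat.card_pos
    have hp0 : (0 : ℝ) < p := Nat.cast_pos.2 hp.pos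
    field_simp at h1
    have h2 : (e₀ : ℝ) ^ 2 = Nat.card M := by linarith
    exact_mod_cast h2
  have hinv : ∀ x : HGrp D, H43.irrConj (hproj D).ker x θ = θ := by
    intro x
    refine Subtype.ext (funext fun n => ?_)
    rw [H43.irrConj_apply]
    by_cases hn : (n : HGrp D).u = 0
    · have hc0 : MulAut.conjNormal x n = n := by
        refine Subtype.ext ?_
        rw [MulAut.conjNormal_apply, hcz n hn, SubmonoidClass.coe_pow]
        show x * hz D 1 ^ _ * x⁻¹ = hz D 1 ^ _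
        rw [hz_pow, ← hz_central, mul_inv_cancel_right]
      rw [hc0]
    · have hc0 : (MulAut.conjNormal x n : HGrp D).u ≠ 0 := by
        rw [MulAut.conjNormal_apply]
        intro h0
        have e1 : x * (n : HGrp D) * x⁻¹ * x = x * (n : HGrp D) := inv_mul_cancel_right _ _
        have e2 := congrArg HGrp.u e1
        have hh : (x * (n : HGrp D) * x⁻¹).h = 1 := by
          show hproj D (x * (n : HGrp D) * x⁻¹) = 1
          rw [map_mul, map_mul, map_inv, show hproj D (n : HGrp D) = 1 from n.2, mul_one,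
            mul_inv_cancel]
        rw [hgrp_mul_u (x * (n : HGrp D) * x⁻¹) x, h0, hh, map_one, Module.End.one_apply, zero_add,
          hgrp_mul_u, left_eq_add] at e2
        refine hn ((LinearMap.injective_iff_surjective.2 ?_) (e2.trans (map_zero _).symm))
        intro y
        exact ⟨D.ρ x.h⁻¹ y, by
          rw [← Module.End.mul_apply, ← map_mul, mul_inv_cancel, map_one, Module.End.one_apply]⟩
      rw [hvan _ hc0, hvan _ hn]
  have hidx : (hproj D).ker.index = Nat.card H := by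
    rw [Subgroup.index_ker, MonoidHom.range_eq_top.2 hproj_surjective, Subgroup.card_top]
  have hdegc : Cfsg.charDegree θ.1 = e₀ := by
    rw [Cfsg.charDegree, he₀, Complex.natCast_re, Nat.floor_natCast]
  have hcopH : Nat.Coprime (Nat.card H) p := (hp.coprime_iff_not_dvd.2 hcop).symm
  have hcopM : Nat.Coprime (Nat.card H) (Nat.card M) := by
    rw [Module.natCard_eq_pow_finrank (K := ZMod p) (V := M), Nat.card_zmod]
    exact hcopH.pow_right _
  obtain ⟨f, -, hf⟩ := H43.exists_detHom (H26.irr_isCharacter θ)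
  have hodvd : Cfsg.detOrder θ.1 ∣ Nat.card (hproj D).ker := by
    rw [hf]
    exact orderOf_dvd_of_pow_eq_one (MonoidHom.ext fun n => by
      rw [MonoidHom.pow_apply, ← map_pow, pow_card_eq_one', map_one, MonoidHom.one_apply])
  obtain ⟨ξ, hres, -⟩ := H43.exists_coprime_ext θ hinv (by
    rw [hidx, hdegc]
    refine Nat.Coprime.mul_right (Nat.Coprime.coprime_dvd_right hodvd ?_)
      (Nat.Coprime.coprime_dvd_right ⟨e₀, by rw [← sq, hdeg]⟩ hcopM)
    rw [card_hker]
    exact hcopM.mul_right hcopH)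
  refine ⟨ξ, ?_, ?_⟩
  · rw [show (1 : HGrp D) = ((1 : (hproj D).ker) : HGrp D) from rfl, hres, he₀]
    exact_mod_cast hdeg
  · intro e
    exact hθ (by rw [← hres, ← hres]; exact e)

/-- The index set: extensions of faithful Heisenberg characters. -/
abbrev HExt (D : HData p H M) : Type (max u v) :=
  {ξ : Cfsg.IrrCharacter (HGrp D) // ξ.1 1 ^ 2 = (Nat.card M : ℂ) ∧ ξ.1 (hz D 1) ≠ ξ.1 1}

/-- The member attached to an extension. -/
noncomputable def heisEta (D : HData p H M) (e : HExt D) (h : H) : ℂ :=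
  e.1.1 1 * e.1.1 (hι D h) / (fixCard D.ρ h : ℂ)

theorem etaFamily_heis [Fintype H] (hp2 : p ≠ 2) (hcop : ¬ p ∣ Nat.card H) {ε : ℂ}
    (hε : IsPrimitiveRoot ε p) : EtaFamily D.ρ ε (heisEta D) := by
  classical
  have hp := (Fact.out : p.Prime)
  have hval : ∀ (e : HExt D) h, ∃ (q : ℕ) (ω : ℂ), IsIntegral ℤ ω ∧ heisEta D e h = q * ω ∧
      q ^ 2 = Nat.card ↥(LinearMap.range (D.ρ h - 1)) := by
    rintro ⟨ξ, hdeg, hξ⟩ h
    obtain ⟨d, ω, hd, hω, hωe⟩ := exists_sqrt_fixCard hp2 hcop ξ hξ h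
    obtain ⟨e₀, he₀⟩ := H26.exists_nat_char_one (H26.irr_isCharacter ξ)
    have hM : e₀ ^ 2 = Nat.card M := by
      rw [he₀] at hdeg
      exact_mod_cast hdeg
    rw [← fixCard_mul_range D.ρ h, ← hd] at hM
    obtain ⟨q, rfl⟩ := (Nat.pow_dvd_pow_iff two_ne_zero).1 ⟨_, hM⟩
    have hd0 : d ≠ 0 := by
      rintro rfl
      have := fixCard_pos D.ρ h
      rw [← hd] at this
      simp at this
    refine ⟨q, ω, hω, ?_, ?_⟩
    · show ξ.1 1 * ξ.1 (hι D h) / (fixCard D.ρ h : ℂ) = _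
      rw [he₀, hωe, ← hd]
      have : (d : ℂ) ≠ 0 := Nat.cast_ne_zero.2 hd0
      push_cast
      field_simp
    · exact Nat.eq_of_mul_eq_mul_left (pow_pos (Nat.pos_of_ne_zero hd0) 2) (by rw [← mul_pow, hM])
  refine ⟨?_, fun e => ?_, fun e h => ?_, fun e => ?_, fun e h hh => ?_, fun σ => ?_⟩
  · obtain ⟨ξ, h⟩ := exists_hext (D := D) hp2 hcop
    exact ⟨⟨ξ, h⟩⟩
  · obtain ⟨e₀, he₀⟩ := H26.exists_nat_char_one (H26.irr_isCharacter e.1)
    refine IntMod.div ?_ (fixCard D.ρ) (intMod_fixCard D.ρ) (fixCard_coprime hcop D.ρ) fun h => by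
      obtain ⟨q, ω, hω, hq, -⟩ := hval e h
      show IsIntegral ℤ (heisEta D e h)
      rw [hq]
      exact (map_natCast (algebraMap ℤ ℂ) q ▸ isIntegral_algebraMap).mul hω
    rw [he₀]
    exact (intMod_of_isCharacter (H26.isCharacter_comp (H26.irr_isCharacter e.1) (hι D))).smul
      (map_natCast (algebraMap ℤ ℂ) e₀ ▸ isIntegral_algebraMap)
  · rw [heisEta, norm_div, norm_mul, Complex.norm_natCast, div_pow, mul_pow,
      norm_sq_hι hp2 hcop e.1 e.2.2 e.2.1 h, ← norm_pow, e.2.1, Complex.norm_natCast]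
    have : (fixCard D.ρ h : ℝ) ≠ 0 := Nat.cast_ne_zero.2 (fixCard_pos D.ρ h).ne'
    field_simp
  · rw [heisEta, map_one, fixCard_one, ← sq, e.2.1, div_self (Nat.cast_ne_zero.2 Nat.card_pos.ne')]
  · obtain ⟨q, ω, hω, hq, hq2⟩ := hval e h
    have hdvd : p ∣ Nat.card ↥(LinearMap.range (D.ρ h - 1)) := by
      rw [Module.natCard_eq_pow_finrank (K := ZMod p), Nat.card_zmod]
      refine dvd_pow_self p fun h0 => ?_
      rw [Submodule.finrank_eq_zero, LinearMap.range_eq_bot, sub_eq_zero] at h0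
      obtain ⟨x, hx⟩ := hh
      exact hx (by rw [h0, Module.End.one_apply])
    rw [← hq2] at hdvd
    obtain ⟨m, rfl⟩ := hp.dvd_of_dvd_pow hdvd
    obtain ⟨w₀, hw₀, hw₀e⟩ := exists_prime_eq_one_sub_mul hε
    exact ⟨w₀ * (m : ℂ) * ω, (hw₀.mul (map_natCast (algebraMap ℤ ℂ) m ▸
      isIntegral_algebraMap)).mul hω, by rw [hq, Nat.cast_mul, hw₀e]; ring⟩
  · obtain ⟨k, hk, hσ⟩ := exists_pow_of_ringAut σ (Nat.card_pos (α := HGrp D)).ne'
    have hg : ∀ (e : HExt D) g, σ (e.1.1 g) = (galIrr hk e.1).1 g := fun e g =>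
      ringAut_char (H26.irr_isCharacter e.1) σ hσ g
    let F : HExt D → HExt D := fun e => ⟨galIrr hk e.1, by
      rw [← hg, ← map_pow, e.2.1, map_natCast], by
      rw [← hg, ← hg]
      exact fun h => e.2.2 (σ.injective h)⟩
    have hF : Function.Injective F := fun a b hab =>
      Subtype.ext (galIrr_injective hk (congrArg Subtype.val hab))
    refine ⟨Equiv.ofBijective F (Finite.injective_iff_bijective.1 hF), fun e h => ?_⟩
    simp only [heisEta, map_div₀, map_mul, map_natCast, hg]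
    rfl

end Cfsg.Agent.H45
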