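import Mathlib

/-!
# Self-dual representations of coprime order split into symplectic and orthogonal parts
-/

set_option autoImplicit false

namespace Cfsg.Agent.H45

open LinearMap (BilinForm)

variable {F : Type*} [Field F] {G : Type*} [Group G] [Finite G]

section

variable {V : Type*} [AddCommGroup V] [Module F V] (ρ : Representation F G V)

/-- Invariant subspace. -/
def SDInv (X : Submodule F V) : Prop := ∀ g, ∀ x ∈ X, ρ g x ∈ X

variable {ρ}

omit [Finite G] in
theorem SDInv.sup {X Y : Submodule F V} (hX : SDInv ρ X) (hY : SDInv ρ Y) :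
    SDInv ρ (X ⊔ Y) := by
  intro g z hz
  obtain ⟨x, hx, y, hy, rfl⟩ := Submodule.mem_sup.1 hz
  rw [map_add]
  exact Submodule.add_mem_sup (hX g x hx) (hY g y hy)

/-- Maschke: invariant complements. -/
theorem SDInv.exists_compl (hG : (Nat.card G : F) ≠ 0) {X : Submodule F V} (hX : SDInv ρ X) :
    ∃ Y : Submodule F V, SDInv ρ Y ∧ IsCompl X Y := by
  classical
  have := Fintype.ofFinite G
  obtain ⟨X', hX'⟩ := Submodule.exists_isCompl X
  set π : V →ₗ[F] V := X.subtype ∘ₗ Submodule.projectionOnto X X' hX'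
  set P : V →ₗ[F] V := (Nat.card G : F)⁻¹ • ∑ g : G, ρ g ∘ₗ π ∘ₗ ρ g⁻¹ with hPdef
  have hP : ∀ v, P v = (Nat.card G : F)⁻¹ • ∑ g : G, ρ g (π (ρ g⁻¹ v)) := fun v => by
    simp [hPdef]
  have hmem : ∀ v, P v ∈ X := fun v => by
    rw [hP]
    exact X.smul_mem _ (X.sum_mem fun g _ => hX g _ (SetLike.coe_mem _))
  have hid : ∀ x ∈ X, P x = x := fun x hx => by
    have h : ∀ g : G, ρ g (π (ρ g⁻¹ x)) = x := fun g => by
      have : π (ρ g⁻¹ x) = ρ g⁻¹ x := by
        simp [π, Submodule.projectionOnto_apply_of_mem_left hX' (hX g⁻¹ x hx)]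
      rw [this, ← Module.End.mul_apply, ← map_mul, mul_inv_cancel, map_one, Module.End.one_apply]
    rw [hP, Finset.sum_congr rfl fun g _ => h g, Finset.sum_const, Finset.card_univ,
      ← Nat.card_eq_fintype_card, ← Nat.cast_smul_eq_nsmul F, smul_smul, inv_mul_cancel₀ hG,
      one_smul]
  have hcomm : ∀ h v, P (ρ h v) = ρ h (P v) := fun h v => by
    rw [hP, hP, map_smul, map_sum]
    congr 1
    refine Fintype.sum_equiv (Equiv.mulLeft h⁻¹) _ _ fun g => ?_
    show ρ g (π (ρ g⁻¹ (ρ h v))) = ρ h (ρ (h⁻¹ * g) (π (ρ (h⁻¹ * g)⁻¹ v)))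
    rw [show ρ g⁻¹ (ρ h v) = ρ (h⁻¹ * g)⁻¹ v by
        rw [← Module.End.mul_apply, ← map_mul, mul_inv_rev, inv_inv],
      ← Module.End.mul_apply (ρ h) (ρ (h⁻¹ * g)), ← map_mul, mul_inv_cancel_left]
  refine ⟨LinearMap.ker P, fun g v hv => ?_, ?_⟩
  · rw [LinearMap.mem_ker] at hv ⊢
    rw [hcomm, hv, map_zero]
  · exact LinearMap.IsProj.isCompl ⟨hmem, hid⟩

omit [Finite G] in
/-- Projections along invariant subspaces are equivariant. -/
theorem SDInv.projection_comm {X Y : Submodule F V} (hX : SDInv ρ X) (hY : SDInv ρ Y)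
    (h : IsCompl X Y) (g : G) (v : V) :
    X.projection Y h (ρ g v) = ρ g (X.projection Y h v) := by
  conv_lhs => rw [← Submodule.projection_add_projection_eq_self h v, map_add, map_add]
  rw [Submodule.projection_apply_of_mem_left h (hX g _ (Submodule.projection_apply_mem h v)),
    (Submodule.projection_apply_eq_zero_iff h).2 (hY g _ (Submodule.projection_apply_mem h.symm v)),
    add_zero]

omit [Finite G] in
/-- A complement of `X ⊔ U` gives a complement of `X` containing `U`. -/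
theorem sd_isCompl_sup {X U R : Submodule F V} (hd : Disjoint X U) (h : IsCompl (X ⊔ U) R) :
    IsCompl X (U ⊔ R) :=
  ⟨hd.disjoint_sup_right_of_disjoint_sup_left h.disjoint,
    codisjoint_iff.2 (by rw [← sup_assoc, h.sup_eq_top])⟩

/-- Invariance of a form on a subspace. -/
def SDFormInv (ρ : Representation F G V) (B : BilinForm F V) (X : Submodule F V) : Prop :=
  ∀ g : G, ∀ x ∈ X, ∀ y ∈ X, B (ρ g x) (ρ g y) = B x y

/-- Left nondegeneracy on a subspace. -/
def SDNondeg (B : BilinForm F V) (X : Submodule F V) : Prop :=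
  ∀ x ∈ X, (∀ y ∈ X, B x y = 0) → x = 0

/-- The conclusion of the splitting theorem. -/
def SDSplit (ρ : Representation F G V) : Prop :=
  ∃ U W : Submodule F V, IsCompl U W ∧ SDInv ρ U ∧ SDInv ρ W ∧
    (∃ A : BilinForm F V, (∀ x, A x x = 0) ∧ SDFormInv ρ A U ∧ SDNondeg A U) ∧
    (∃ S : BilinForm F V, (∀ x y, S x y = S y x) ∧ SDFormInv ρ S W ∧ SDNondeg S W) ∧
    ((2 : F) = 0 → ∀ g, ∀ w ∈ W, ρ g w = w)

/-- A single piece: alternating, or symmetric (with trivial action in characteristic two). -/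
def SDPiece (ρ : Representation F G V) (X : Submodule F V) : Prop :=
  (∃ A : BilinForm F V, (∀ x, A x x = 0) ∧ SDFormInv ρ A X ∧ SDNondeg A X) ∨
    ((∃ S : BilinForm F V, (∀ x y, S x y = S y x) ∧ SDFormInv ρ S X ∧ SDNondeg S X) ∧
      ((2 : F) = 0 → ∀ g, ∀ w ∈ X, ρ g w = w))

end

section Join

variable {V : Type*} [AddCommGroup V] [Module F V] {ρ : Representation F G V}

omit [Finite G] in
/-- Forms with a given property on two complementary invariant subspaces add up. -/
theorem sd_join_form {X Y : Submodule F V} (hX : SDInv ρ X) (hY : SDInv ρ Y) (h : IsCompl X Y)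
    {U : Submodule F V} {U' : Submodule F ↥Y} (hU : U ≤ X) (hUi : SDInv ρ U)
    (hU' : SDInv ρ (U'.map Y.subtype))
    (A : BilinForm F V) (A' : BilinForm F ↥Y)
    (hA : SDFormInv ρ A U) (hA0 : SDNondeg A U)
    (hA' : ∀ g : G, ∀ x ∈ U', ∀ y ∈ U', A' ⟨ρ g x, hY g _ x.2⟩ ⟨ρ g y, hY g _ y.2⟩ = A' x y)
    (hA'0 : SDNondeg A' U') :
    ∃ C : BilinForm F V, SDInv ρ (U ⊔ U'.map Y.subtype) ∧ SDFormInv ρ C (U ⊔ U'.map Y.subtype) ∧
      SDNondeg C (U ⊔ U'.map Y.subtype) ∧
      ((∀ x, A x x = 0) → (∀ y, A' y y = 0) → ∀ x, C x x = 0) ∧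
      ((∀ x z, A x z = A z x) → (∀ y z, A' y z = A' z y) → ∀ x z, C x z = C z x) := by
  set a := X.projection Y h
  set b := Submodule.projectionOnto Y X h.symm
  refine ⟨A.compl₁₂ a a + A'.compl₁₂ b b, hUi.sup hU', ?_, ?_, ?_, ?_⟩
  all_goals try simp only [LinearMap.add_apply, LinearMap.compl₁₂_apply]
  · intro g x hx y hy
    simp only [LinearMap.add_apply, LinearMap.compl₁₂_apply]
    have key : ∀ v ∈ U ⊔ U'.map Y.subtype, a v ∈ U ∧ b v ∈ U' ∧ a (ρ g v) = ρ g (a v) ∧
        (b (ρ g v) : V) = ρ g (b v) := by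
      intro v hv
      obtain ⟨u, hu, _, ⟨u', hu', rfl⟩, rfl⟩ := Submodule.mem_sup.1 hv
      refine ⟨?_, ?_, hX.projection_comm hY h g _, ?_⟩
      · rw [map_add, Submodule.subtype_apply, Submodule.projection_apply_of_mem_left h (hU hu),
          (Submodule.projection_apply_eq_zero_iff h).2 u'.2, add_zero]
        exact hu
      · rw [map_add, show b u = 0 from (Submodule.projectionOnto_apply_eq_zero_iff h.symm).2 (hU hu),
          zero_add, show b (Y.subtype u') = u' from Submodule.projectionOnto_apply_left h.symm u']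
        exact hu'
      · rw [Submodule.coe_projectionOnto_apply, Submodule.coe_projectionOnto_apply]
        exact hY.projection_comm hX h.symm g _
    obtain ⟨hxa, hxb, hxa', hxb'⟩ := key x hx
    obtain ⟨hya, hyb, hya', hyb'⟩ := key y hy
    rw [hxa', hya', hA g _ hxa _ hya,
      show b (ρ g x) = ⟨ρ g (b x), hY g _ (b x).2⟩ from Subtype.ext hxb',
      show b (ρ g y) = ⟨ρ g (b y), hY g _ (b y).2⟩ from Subtype.ext hyb', hA' g _ hxb _ hyb]
  · intro x hx hx0
    obtain ⟨u, hu, _, ⟨u', hu', rfl⟩, rfl⟩ := Submodule.mem_sup.1 hx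
    have ha : ∀ w ∈ X, ∀ w' : ↥Y, a (w + w') = w := fun w hw w' => by
      rw [map_add, Submodule.projection_apply_of_mem_left h hw,
        (Submodule.projection_apply_eq_zero_iff h).2 w'.2, add_zero]
    have hb : ∀ w ∈ X, ∀ w' : ↥Y, b (w + w') = w' := fun w hw w' => by
      rw [map_add, show b w = 0 from (Submodule.projectionOnto_apply_eq_zero_iff h.symm).2 hw,
        zero_add, show b (w' : V) = w' from Submodule.projectionOnto_apply_left h.symm w']
    have e1 : u = 0 := hA0 u hu fun y hy => by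
      have := hx0 (y + (0 : ↥Y)) (Submodule.add_mem_sup hy ⟨0, U'.zero_mem, rfl⟩)
      simp only [LinearMap.add_apply, LinearMap.compl₁₂_apply] at this
      rw [ha y (hU hy), hb y (hU hy), Submodule.subtype_apply, ha u (hU hu), hb u (hU hu)] at this
      simpa using this
    have e2 : u' = 0 := hA'0 u' hu' fun y hy => by
      have := hx0 (0 + (y : V)) (Submodule.add_mem_sup U.zero_mem ⟨y, hy, rfl⟩)
      simp only [LinearMap.add_apply, LinearMap.compl₁₂_apply] at this
      rw [ha 0 X.zero_mem, hb 0 X.zero_mem, Submodule.subtype_apply, ha u (hU hu), hb u (hU hu)]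
        at this
      simpa using this
    simp [e1, e2]
  · intro h1 h2 x
    rw [h1, h2, add_zero]
  · intro h1 h2 x z
    exact congrArg₂ (· + ·) (h1 _ _) (h2 _ _)

/-- A piece joins a split complement. -/
theorem sd_join (hG : (Nat.card G : F) ≠ 0) {X Y : Submodule F V} (hX : SDInv ρ X)
    (hY : SDInv ρ Y) (h : IsCompl X Y) (hp : SDPiece ρ X)
    (ρY : Representation F G ↥Y) (hρY : ∀ g y, (ρY g y : V) = ρ g y) (hs : SDSplit ρY) :
    SDSplit ρ := by
  obtain ⟨U', W', hUW, hU'i, hW'i, ⟨A', hA'a, hA'i, hA'n⟩, ⟨S', hS's, hS'i, hS'n⟩, htriv⟩ := hs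
  have hmapU : SDInv ρ (U'.map Y.subtype) := by
    rintro g _ ⟨u, hu, rfl⟩
    exact ⟨ρY g u, hU'i g u hu, hρY g u⟩
  have hmapW : SDInv ρ (W'.map Y.subtype) := by
    rintro g _ ⟨u, hu, rfl⟩
    exact ⟨ρY g u, hW'i g u hu, hρY g u⟩
  have hA'2 : ∀ g : G, ∀ x ∈ U', ∀ y ∈ U',
      A' ⟨ρ g x, hY g _ x.2⟩ ⟨ρ g y, hY g _ y.2⟩ = A' x y := fun g x hx y hy => by
    rw [show (⟨ρ g x, hY g _ x.2⟩ : ↥Y) = ρY g x from Subtype.ext (hρY g x).symm,
      show (⟨ρ g y, hY g _ y.2⟩ : ↥Y) = ρY g y from Subtype.ext (hρY g y).symm]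
    exact hA'i g x hx y hy
  have hS'2 : ∀ g : G, ∀ x ∈ W', ∀ y ∈ W',
      S' ⟨ρ g x, hY g _ x.2⟩ ⟨ρ g y, hY g _ y.2⟩ = S' x y := fun g x hx y hy => by
    rw [show (⟨ρ g x, hY g _ x.2⟩ : ↥Y) = ρY g x from Subtype.ext (hρY g x).symm,
      show (⟨ρ g y, hY g _ y.2⟩ : ↥Y) = ρY g y from Subtype.ext (hρY g y).symm]
    exact hS'i g x hx y hy
  have hmapsup : U'.map Y.subtype ⊔ W'.map Y.subtype = Y := by
    rw [← Submodule.map_sup, hUW.sup_eq_top, Submodule.map_subtype_top]
  have hcompl : ∀ X₁ X₂ : Submodule F V, X₁ ⊔ X₂ = X → X₁ ⊓ X₂ = ⊥ →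
      IsCompl (X₁ ⊔ U'.map Y.subtype) (X₂ ⊔ W'.map Y.subtype) := by
    intro X₁ X₂ hsup hinf
    refine ⟨?_, ?_⟩
    · rw [disjoint_iff, eq_bot_iff]
      rintro z ⟨hz1, hz2⟩
      obtain ⟨a, ha, b, hb, rfl⟩ := Submodule.mem_sup.1 hz1
      obtain ⟨c, hc, d, hd, hcd⟩ := Submodule.mem_sup.1 hz2
      have hbY : b ∈ Y := Submodule.map_subtype_le Y U' hb
      have hdY : d ∈ Y := Submodule.map_subtype_le Y W' hd
      have h1 : a - c ∈ X ⊓ Y := by
        refine ⟨X.sub_mem (hsup ▸ Submodule.mem_sup_left ha) (hsup ▸ Submodule.mem_sup_right hc), ?_⟩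
        rw [show a - c = d - b by rw [sub_eq_sub_iff_add_eq_add, ← hcd, add_comm]]
        exact Y.sub_mem hdY hbY
      rw [h.inf_eq_bot, Submodule.mem_bot, sub_eq_zero] at h1
      subst h1
      have ha0 : a ∈ X₁ ⊓ X₂ := ⟨ha, hc⟩
      rw [hinf, Submodule.mem_bot] at ha0
      subst ha0
      rw [add_right_inj] at hcd
      subst hcd
      have hb0 : d ∈ U'.map Y.subtype ⊓ W'.map Y.subtype := ⟨hb, hd⟩
      rw [← Submodule.map_inf _ Y.injective_subtype, hUW.inf_eq_bot, Submodule.map_bot,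
        Submodule.mem_bot] at hb0
      simp [hb0]
    · rw [codisjoint_iff, sup_sup_sup_comm, hsup, hmapsup, h.sup_eq_top]
  have hbot : SDInv ρ (⊥ : Submodule F V) := fun g x hx => by
    simp [(Submodule.mem_bot F).1 hx]
  rcases hp with ⟨A, hAa, hAi, hAn⟩ | ⟨⟨S, hSs, hSi, hSn⟩, hXt⟩
  · obtain ⟨C, hCU, hCi, hCn, hCa, -⟩ :=
      sd_join_form hX hY h le_rfl hX hmapU A A' hAi hAn hA'2 hA'n
    obtain ⟨D, hDW, hDi, hDn, -, hDs⟩ :=
      sd_join_form hX hY h bot_le hbot hmapW 0 S' (fun g x hx y hy => rfl)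
        (fun x hx _ => (Submodule.mem_bot F).1 hx) hS'2 hS'n
    refine ⟨_, _, hcompl X ⊥ (sup_bot_eq X) (inf_bot_eq X), hCU, hDW, ⟨C, hCa hAa hA'a, hCi, hCn⟩,
      ⟨D, hDs (fun _ _ => rfl) hS's, hDi, hDn⟩, fun h2 g w hw => ?_⟩
    rw [bot_sup_eq] at hw
    obtain ⟨w', hw', rfl⟩ := hw
    rw [Submodule.subtype_apply, ← hρY, htriv h2 g w' hw']
  · obtain ⟨C, hCU, hCi, hCn, hCa, -⟩ :=
      sd_join_form hX hY h bot_le hbot hmapU 0 A' (fun g x hx y hy => rfl)
        (fun x hx _ => (Submodule.mem_bot F).1 hx) hA'2 hA'n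
    obtain ⟨D, hDW, hDi, hDn, -, hDs⟩ :=
      sd_join_form hX hY h le_rfl hX hmapW S S' hSi hSn hS'2 hS'n
    refine ⟨_, _, hcompl ⊥ X (bot_sup_eq X) (bot_inf_eq X), hCU, hDW,
      ⟨C, hCa (fun _ => rfl) hA'a, hCi, hCn⟩, ⟨D, hDs hSs hS's, hDi, hDn⟩, fun h2 g w hw => ?_⟩
    obtain ⟨x, hx, _, ⟨w', hw', rfl⟩, rfl⟩ := Submodule.mem_sup.1 hw
    rw [map_add, hXt h2 g x hx, Submodule.subtype_apply, ← hρY, htriv h2 g w' hw']

end Join

section Pairing

variable {V : Type*} [AddCommGroup V] [Module F V] [FiniteDimensional F V]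
  {ρ : Representation F G V}

omit [Finite G] [FiniteDimensional F V] in
theorem sd_inv_cancel (g : G) (v : V) : ρ g (ρ g⁻¹ v) = v := by
  rw [← Module.End.mul_apply, ← map_mul, mul_inv_cancel, map_one, Module.End.one_apply]

/-- The right orthogonal of `X`. -/
def sdPerp (B : BilinForm F V) (X : Submodule F V) : Submodule F V where
  carrier := {y | ∀ x ∈ X, B x y = 0}
  zero_mem' := fun x _ => map_zero _
  add_mem' := fun ha hb x hx => by rw [map_add, ha x hx, hb x hx, add_zero]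
  smul_mem' := fun c a ha x hx => by rw [map_smul, ha x hx, smul_zero]

omit [Finite G] [FiniteDimensional F V] in
theorem sdPerp_inv {B : BilinForm F V} (hB : ∀ g x y, B (ρ g x) (ρ g y) = B x y)
    {X : Submodule F V} (hX : SDInv ρ X) : SDInv ρ (sdPerp B X) := fun g y hy x hx => by
  rw [← sd_inv_cancel (ρ := ρ) g x, hB]
  exact hy _ (hX g⁻¹ x hx)

/-- A perfect pairing partner for `X`. -/
theorem sd_exists_partner (hG : (Nat.card G : F) ≠ 0) {B : BilinForm F V}
    (hB : ∀ g x y, B (ρ g x) (ρ g y) = B x y) (hB0 : SDNondeg B ⊤)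
    {X : Submodule F V} (hX : SDInv ρ X) :
    ∃ Y : Submodule F V, SDInv ρ Y ∧ IsCompl (sdPerp B X) Y ∧
      (∀ x ∈ X, (∀ y ∈ Y, B x y = 0) → x = 0) ∧
      (∀ y ∈ Y, (∀ x ∈ X, B x y = 0) → y = 0) := by
  obtain ⟨Y, hY, hc⟩ := (sdPerp_inv hB hX).exists_compl hG
  refine ⟨Y, hY, hc, fun x hx h => hB0 x trivial fun v _ => ?_,
    fun y hy h => (Submodule.disjoint_def.1 hc.disjoint) y h hy⟩
  have hv : v ∈ sdPerp B X ⊔ Y := hc.sup_eq_top ▸ Submodule.mem_top
  obtain ⟨a, ha, b, hb, rfl⟩ := Submodule.mem_sup.1 hv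
  rw [map_add, ha x hx, h b hb, add_zero]

omit [Finite G] in
/-- Lifting a form on `X` through a perfect pairing. -/
theorem sd_lift {B : BilinForm F V} (hB : ∀ g x y, B (ρ g x) (ρ g y) = B x y)
    {X X' Y : Submodule F V} (hX' : SDInv ρ X') (hX : SDInv ρ X) (hY : SDInv ρ Y)
    (h1 : ∀ x ∈ X', (∀ y ∈ Y, B x y = 0) → x = 0)
    (h2 : ∀ y ∈ Y, (∀ x ∈ X', B x y = 0) → y = 0)
    (Γ : BilinForm F V) (hΓ : ∀ g, ∀ x ∈ X', ∀ y ∈ X, Γ (ρ g x) (ρ g y) = Γ x y) :
    ∃ ψ : ↥X →ₗ[F] V, (∀ x, ψ x ∈ Y) ∧ (∀ g (x : ↥X), ψ ⟨ρ g x, hX g x x.2⟩ = ρ g (ψ x)) ∧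
      ∀ z ∈ X', ∀ x : ↥X, B z (ψ x) = Γ z x := by
  let L : ↥Y →ₗ[F] Module.Dual F ↥X' := (B.compl₁₂ X'.subtype Y.subtype).flip
  have hLi : Function.Injective L := by
    rw [← LinearMap.ker_eq_bot, eq_bot_iff]
    intro y hy
    exact Subtype.ext (h2 y y.2 fun x hx => LinearMap.congr_fun (LinearMap.mem_ker.1 hy) ⟨x, hx⟩)
  let L' : ↥X' →ₗ[F] Module.Dual F ↥Y := B.compl₁₂ X'.subtype Y.subtype
  have hL'i : Function.Injective L' := by
    rw [← LinearMap.ker_eq_bot, eq_bot_iff]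
    intro x hx
    exact Subtype.ext (h1 x x.2 fun y hy => LinearMap.congr_fun (LinearMap.mem_ker.1 hx) ⟨y, hy⟩)
  have hdim : Module.finrank F ↥Y = Module.finrank F (Module.Dual F ↥X') := by
    rw [Subspace.dual_finrank_eq]
    refine le_antisymm ?_ ?_
    · simpa [Subspace.dual_finrank_eq] using LinearMap.finrank_le_finrank_of_injective hLi
    · simpa [Subspace.dual_finrank_eq] using LinearMap.finrank_le_finrank_of_injective hL'i
  let e := LinearMap.linearEquivOfInjective L hLi hdim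
  let Γ' : ↥X →ₗ[F] Module.Dual F ↥X' := (Γ.compl₁₂ X'.subtype X.subtype).flip
  refine ⟨Y.subtype ∘ₗ e.symm.toLinearMap ∘ₗ Γ', fun x => SetLike.coe_mem _, ?_, ?_⟩
  · intro g x
    have hspec : ∀ x : ↥X, ∀ z : ↥X', B z (e.symm (Γ' x) : V) = Γ z x := fun x z => by
      exact LinearMap.congr_fun (e.apply_symm_apply (Γ' x)) z
    simp only [LinearMap.comp_apply, LinearEquiv.coe_coe, Submodule.subtype_apply]
    rw [← sub_eq_zero]
    refine h2 _ (Y.sub_mem (SetLike.coe_mem _) (hY g _ (SetLike.coe_mem _))) fun z hz => ?_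
    have e1 := hB g (ρ g⁻¹ z) ((e.symm (Γ' x) : ↥Y) : V)
    have e2 := hΓ g _ (hX' g⁻¹ z hz) x x.2
    rw [sd_inv_cancel] at e1 e2
    rw [map_sub, hspec _ ⟨z, hz⟩, e1, hspec x ⟨ρ g⁻¹ z, hX' g⁻¹ z hz⟩]
    show Γ z (ρ g x) - Γ (ρ g⁻¹ z) x = 0
    rw [e2, sub_self]
  · intro z hz x
    exact LinearMap.congr_fun (e.apply_symm_apply (Γ' x)) ⟨z, hz⟩

/-- A nondegenerate invariant subspace has a self-dual invariant complement. -/
theorem sd_compl_form {C : BilinForm F V} (hC : ∀ g x y, C (ρ g x) (ρ g y) = C x y)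
    (hC0 : SDNondeg C ⊤) {Z : Submodule F V} (hZ : SDInv ρ Z) (hZ0 : SDNondeg C Z) :
    ∃ (Y : Submodule F V) (D : BilinForm F V), SDInv ρ Y ∧ IsCompl Z Y ∧
      (∀ g x y, D (ρ g x) (ρ g y) = D x y) ∧ SDNondeg D Y := by
  have hZ0' : ∀ y ∈ Z, (∀ x ∈ Z, C x y = 0) → y = 0 := by
    intro y hy h
    let L : ↥Z →ₗ[F] Module.Dual F ↥Z := C.compl₁₂ Z.subtype Z.subtype
    have hL : Function.Injective L := by
      rw [← LinearMap.ker_eq_bot, eq_bot_iff]
      intro x hx
      exact Subtype.ext (hZ0 x x.2 fun w hw => LinearMap.congr_fun (LinearMap.mem_ker.1 hx) ⟨w, hw⟩)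
    have hsurj := (LinearMap.injective_iff_surjective_of_finrank_eq_finrank
      (Subspace.dual_finrank_eq (K := F) (V := ↥Z)).symm).1 hL
    by_contra hne
    obtain ⟨φ, hφ⟩ := Module.Projective.exists_dual_ne_zero F
      (show (⟨y, hy⟩ : ↥Z) ≠ 0 from fun e => hne (congrArg Subtype.val e))
    obtain ⟨x, rfl⟩ := hsurj φ
    exact hφ (h x x.2)
  set V₁ := sdPerp (LinearMap.flip C) Z
  set V₂ := sdPerp C Z
  have hcompl : ∀ D : BilinForm F V, (∀ y ∈ Z, (∀ x ∈ Z, D x y = 0) → y = 0) →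
      IsCompl Z (sdPerp D Z) := by
    intro D hD
    have hdis : Disjoint Z (sdPerp D Z) :=
      Submodule.disjoint_def.2 fun z hz hz' => hD z hz hz'
    refine ⟨hdis, codisjoint_iff.2 ?_⟩
    refine Submodule.eq_top_of_finrank_eq ?_
    have h1 := Submodule.finrank_sup_add_finrank_inf_eq Z (sdPerp D Z)
    rw [hdis.eq_bot, finrank_bot, add_zero] at h1
    let L : V →ₗ[F] Module.Dual F ↥Z := (D.compl₁₂ Z.subtype LinearMap.id).flip
    have hker : LinearMap.ker L = sdPerp D Z := by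
      ext v
      exact ⟨fun hv x hx => LinearMap.congr_fun (LinearMap.mem_ker.1 hv) ⟨x, hx⟩,
        fun hv => LinearMap.mem_ker.2 (LinearMap.ext fun x => hv x x.2)⟩
    have h2 := L.finrank_range_add_finrank_ker
    rw [hker] at h2
    have h3 := (LinearMap.range L).finrank_le
    rw [Subspace.dual_finrank_eq] at h3
    have h4 := (Z ⊔ sdPerp D Z).finrank_le
    omega
  have hc1 : IsCompl Z V₁ := hcompl (LinearMap.flip C) hZ0
  have hc2 : IsCompl Z V₂ := hcompl C hZ0'
  have hV1 : SDInv ρ V₁ := sdPerp_inv (B := (LinearMap.flip C)) (fun g x y => hC g y x) hZ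
  set π := V₁.projection Z hc1.symm
  refine ⟨V₂, C.compl₁₂ π LinearMap.id, sdPerp_inv hC hZ, hc2, fun g x y => ?_, fun x hx h => ?_⟩
  · simp only [LinearMap.compl₁₂_apply, LinearMap.id_apply, π, hV1.projection_comm hZ hc1.symm]
    exact hC g _ y
  · have hz : π x = 0 := hC0 _ trivial fun v _ => by
      have hv : v ∈ Z ⊔ V₂ := hc2.sup_eq_top ▸ Submodule.mem_top
      obtain ⟨a, ha, b, hb, rfl⟩ := Submodule.mem_sup.1 hv
      rw [map_add, show C (π x) b = 0 from h b hb, add_zero]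
      exact Submodule.projection_apply_mem hc1.symm x a ha
    exact (Submodule.disjoint_def.1 hc2.disjoint) x
      ((Submodule.projection_apply_eq_zero_iff hc1.symm).1 hz) hx

omit [Finite G] in
/-- An irreducible subspace with a nonzero invariant form is a piece. -/
theorem sd_piece {X : Submodule F V} (hX : SDInv ρ X)
    (hirr : ∀ Z : Submodule F V, SDInv ρ Z → Z ≤ X → Z = ⊥ ∨ Z = X)
    {C : BilinForm F V} (hC : SDFormInv ρ C X) (hC0 : SDNondeg C X) : SDPiece ρ X := by
  have hinvZ : ∀ D : BilinForm F V, SDFormInv ρ D X → (∃ x ∈ X, ∃ y ∈ X, D x y ≠ 0) →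
      SDNondeg D X := by
    intro D hD hne
    let Z : Submodule F V :=
      { carrier := {x | x ∈ X ∧ ∀ y ∈ X, D x y = 0}
        zero_mem' := ⟨X.zero_mem, fun y _ => by simp⟩
        add_mem' := fun ha hb => ⟨X.add_mem ha.1 hb.1, fun y hy => by
          rw [map_add, LinearMap.add_apply, ha.2 y hy, hb.2 y hy, add_zero]⟩
        smul_mem' := fun c a ha => ⟨X.smul_mem c ha.1, fun y hy => by
          rw [map_smul, LinearMap.smul_apply, ha.2 y hy, smul_zero]⟩ }
    rcases hirr Z (fun g x hx => ⟨hX g x hx.1, fun y hy => by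
        rw [← sd_inv_cancel (ρ := ρ) g y, hD g x hx.1 _ (hX g⁻¹ y hy)]
        exact hx.2 _ (hX g⁻¹ y hy)⟩) (fun x hx => hx.1) with h | h
    · exact fun x hx hx0 => (Submodule.mem_bot F).1 (h ▸ (⟨hx, hx0⟩ : x ∈ Z))
    · obtain ⟨x, hx, y, hy, hne'⟩ := hne
      exact absurd ((show x ∈ Z from h ▸ hx).2 y hy) hne'
  set C' : BilinForm F V := C + (LinearMap.flip C)
  have hC' : SDFormInv ρ C' X := fun g x hx y hy => by
    simp only [C', LinearMap.add_apply, LinearMap.flip_apply]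
    rw [hC g x hx y hy, hC g y hy x hx]
  by_cases hne : ∃ x ∈ X, ∃ y ∈ X, C' x y ≠ 0
  · by_cases h2 : (2 : F) = 0
    · refine Or.inl ⟨C', fun x => ?_, hC', hinvZ C' hC' hne⟩
      simp only [C', LinearMap.add_apply, LinearMap.flip_apply]
      rw [← two_mul, h2, zero_mul]
    · refine Or.inr ⟨⟨C', fun x y => ?_, hC', hinvZ C' hC' hne⟩, fun h => absurd h h2⟩
      simp only [C', LinearMap.add_apply, LinearMap.flip_apply]
      rw [add_comm]
  push Not at hne
  -- `C` is skew on `X`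
  have hskew : ∀ x ∈ X, ∀ y ∈ X, C x y + C y x = 0 := fun x hx y hy => hne x hx y hy
  obtain ⟨X₀, hX₀⟩ := Submodule.exists_isCompl X
  set π := X.projection X₀ hX₀
  have hπ : ∀ x ∈ X, π x = x := fun x hx => Submodule.projection_apply_of_mem_left hX₀ hx
  set CX : BilinForm F V := C.compl₁₂ π π
  have hCX : SDFormInv ρ CX X := fun g x hx y hy => by
    simp only [CX, LinearMap.compl₁₂_apply, hπ x hx, hπ y hy, hπ _ (hX g x hx), hπ _ (hX g y hy)]
    exact hC g x hx y hy
  have hCX0 : SDNondeg CX X := fun x hx h => hC0 x hx fun y hy => by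
    have := h y hy
    simpa only [CX, LinearMap.compl₁₂_apply, hπ x hx, hπ y hy] using this
  by_cases halt : ∀ x ∈ X, C x x = 0
  · exact Or.inl ⟨CX, fun v => halt _ (Submodule.projection_apply_mem hX₀ v), hCX, hCX0⟩
  push Not at halt
  obtain ⟨x₀, hx₀, hx₀ne⟩ := halt
  have h2 : (2 : F) = 0 := by
    by_contra h2
    exact hx₀ne ((mul_eq_zero.1 ((two_mul _).trans (hskew x₀ hx₀ x₀ hx₀))).resolve_left h2)
  refine Or.inr ⟨⟨CX, fun x y => ?_, hCX, hCX0⟩, fun _ g w hw => ?_⟩
  · have h := hskew _ (Submodule.projection_apply_mem hX₀ x) _ (Submodule.projection_apply_mem hX₀ y)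
    simp only [CX, LinearMap.compl₁₂_apply]
    rw [eq_neg_of_add_eq_zero_left h, neg_eq_iff_add_eq_zero, ← two_mul, h2, zero_mul]
  · let K : Submodule F V :=
      { carrier := {x | x ∈ X ∧ C x x = 0}
        zero_mem' := ⟨X.zero_mem, by simp⟩
        add_mem' := fun {a b} ha hb => ⟨X.add_mem ha.1 hb.1, by
          simp only [map_add, LinearMap.add_apply]
          rw [ha.2, hb.2, zero_add, add_zero, hskew b hb.1 a ha.1]⟩
        smul_mem' := fun c a ha => ⟨X.smul_mem c ha.1, by simp [ha.2]⟩ }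
    rcases hirr K (fun g x hx => ⟨hX g x hx.1, by rw [hC g x hx.1 x hx.1]; exact hx.2⟩)
        (fun x hx => hx.1) with h | h
    · have hmem : ρ g w - w ∈ K := by
        refine ⟨X.sub_mem (hX g w hw) hw, ?_⟩
        simp only [map_sub, LinearMap.sub_apply]
        have := hskew w hw _ (hX g w hw)
        rw [hC g w hw w hw]
        linear_combination (-1 : F) * this + (C w w) * h2
      rw [h, Submodule.mem_bot, sub_eq_zero] at hmem
      exact hmem
    · exact absurd (show x₀ ∈ K from h ▸ hx₀).2 hx₀ne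

end Pairing

/-- The splitting theorem. -/
theorem sd_split (hG : (Nat.card G : F) ≠ 0) :
    ∀ (n : ℕ) {V : Type*} [AddCommGroup V] [Module F V] [FiniteDimensional F V]
      (ρ : Representation F G V) (B : BilinForm F V), Module.finrank F V = n →
      (∀ g x y, B (ρ g x) (ρ g y) = B x y) → SDNondeg B ⊤ → SDSplit ρ := by
  intro n
  induction n using Nat.strong_induction_on with
  | _ n ih =>
  intro V _ _ _ ρ B hn hB hB0
  classical
  by_cases hsub : Subsingleton V
  · refine ⟨⊤, ⊥, isCompl_top_bot, fun g x _ => trivial,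
      fun g x hx => by simp [(Submodule.mem_bot F).1 hx],
      ⟨0, fun _ => rfl, fun _ _ _ _ _ => rfl, fun x _ _ => Subsingleton.elim x 0⟩,
      ⟨0, fun _ _ => rfl, fun _ _ _ _ _ => rfl, fun x _ _ => Subsingleton.elim x 0⟩,
      fun _ g w _ => Subsingleton.elim _ _⟩
  have : Nontrivial V := not_subsingleton_iff_nontrivial.1 hsub
  -- the induction step through a nondegenerate piece
  have step : ∀ (C : BilinForm F V), (∀ g x y, C (ρ g x) (ρ g y) = C x y) → SDNondeg C ⊤ →
      ∀ Z : Submodule F V, Z ≠ ⊥ → SDInv ρ Z → SDNondeg C Z → SDPiece ρ Z → SDSplit ρ := by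
    intro C hC hC0 Z hZne hZ hZ0 hp
    obtain ⟨Y, D, hY, hc, hD, hD0⟩ := sd_compl_form hC hC0 hZ hZ0
    let ρY : Representation F G ↥Y :=
      { toFun := fun g => (ρ g).restrict (fun y hy => hY g y hy)
        map_one' := LinearMap.ext fun y => Subtype.ext (by simp)
        map_mul' := fun a b => LinearMap.ext fun y => Subtype.ext (by simp) }
    refine sd_join hG hZ hY hc hp ρY (fun g y => rfl) ?_
    refine ih (Module.finrank F ↥Y) ?_ ρY (D.compl₁₂ Y.subtype Y.subtype) rfl ?_ ?_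
    · have h1 := Submodule.finrank_add_eq_of_isCompl hc
      have h2 : 0 < Module.finrank F ↥Z := by
        rw [Nat.pos_iff_ne_zero, Ne, Submodule.finrank_eq_zero]
        exact hZne
      omega
    · intro g x y
      simp only [LinearMap.compl₁₂_apply, Submodule.subtype_apply]
      exact hD g x y
    · intro x _ h
      exact Subtype.ext (hD0 x x.2 fun y hy => h ⟨y, hy⟩ trivial)
  -- an irreducible invariant subspace
  obtain ⟨X, ⟨hX, hXne⟩, hXmin⟩ := wellFounded_lt.has_min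
    {X : Submodule F V | SDInv ρ X ∧ X ≠ ⊥} ⟨⊤, fun _ _ _ => trivial, top_ne_bot⟩
  have hirr : ∀ Z : Submodule F V, SDInv ρ Z → Z ≤ X → Z = ⊥ ∨ Z = X := fun Z hZ hle => by
    by_contra h
    push Not at h
    exact hXmin Z ⟨hZ, h.1⟩ (lt_of_le_of_ne hle h.2)
  have hnd : ∀ D : BilinForm F V, SDFormInv ρ D X → (∃ x ∈ X, ∃ y ∈ X, D x y ≠ 0) →
      SDNondeg D X := by
    intro D hD hne x hx h
    by_contra hx0
    let Z : Submodule F V :=
      { carrier := {x | x ∈ X ∧ ∀ y ∈ X, D x y = 0}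
        zero_mem' := ⟨X.zero_mem, fun y _ => by simp⟩
        add_mem' := fun ha hb => ⟨X.add_mem ha.1 hb.1, fun y hy => by
          rw [map_add, LinearMap.add_apply, ha.2 y hy, hb.2 y hy, add_zero]⟩
        smul_mem' := fun c a ha => ⟨X.smul_mem c ha.1, fun y hy => by
          rw [map_smul, LinearMap.smul_apply, ha.2 y hy, smul_zero]⟩ }
    rcases hirr Z (fun g x hx => ⟨hX g x hx.1, fun y hy => by
        rw [← sd_inv_cancel (ρ := ρ) g y, hD g x hx.1 _ (hX g⁻¹ y hy)]
        exact hx.2 _ (hX g⁻¹ y hy)⟩) (fun x hx => hx.1) with hZ | hZ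
    · exact hx0 ((Submodule.mem_bot F).1 (hZ ▸ (⟨hx, h⟩ : x ∈ Z)))
    · obtain ⟨a, ha, b, hb, hne'⟩ := hne
      exact hne' ((show a ∈ Z from hZ ▸ ha).2 b hb)
  by_cases hBX : ∃ x ∈ X, ∃ y ∈ X, B x y ≠ 0
  · have hBXi : SDFormInv ρ B X := fun g x _ y _ => hB g x y
    exact step B hB hB0 X hXne hX (hnd B hBXi hBX) (sd_piece hX hirr hBXi (hnd B hBXi hBX))
  push Not at hBX
  obtain ⟨U₁, hU₁, hc₁, hp₁, hq₁⟩ := sd_exists_partner hG hB hB0 hX
  have hXU : Disjoint X U₁ :=
    hc₁.disjoint.mono_left (show X ≤ sdPerp B X from fun x hx z hz => hBX z hz x hx)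
  obtain ⟨X₀, hX₀, hX₀c⟩ : ∃ X₀ : Submodule F V, SDInv ρ X₀ ∧ IsCompl X X₀ :=
    hX.exists_compl hG
  by_cases hself : ∃ Γ : BilinForm F V, SDFormInv ρ Γ X ∧ ∃ x ∈ X, ∃ y ∈ X, Γ x y ≠ 0
  · obtain ⟨Γ, hΓ, hΓne⟩ := hself
    obtain ⟨ψ, hψY, hψe, hψ⟩ := sd_lift hB hX hX hU₁ hp₁ hq₁ Γ fun g x hx y hy => hΓ g x hx y hy
    -- a complement of `X` containing `U₁`
    obtain ⟨R, hR, hRc⟩ := (hX.sup hU₁).exists_compl hG
    have hX'c : IsCompl X (U₁ ⊔ R) := sd_isCompl_sup hXU hRc
    set π₀ := Submodule.projectionOnto X (U₁ ⊔ R) hX'c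
    set α : V →ₗ[F] V := LinearMap.id + ψ ∘ₗ π₀
    have hαi : Function.Injective α := by
      rw [← LinearMap.ker_eq_bot, eq_bot_iff]
      intro v hv
      have hv' : v + ψ (π₀ v) = 0 := hv
      have h0 : π₀ v = 0 := by
        rw [eq_neg_of_add_eq_zero_left hv', map_neg, neg_eq_zero]
        exact (Submodule.projectionOnto_apply_eq_zero_iff hX'c).2
          (Submodule.mem_sup_left (hψY _))
      rw [h0, map_zero, add_zero] at hv'
      exact hv'
    have hαe : ∀ g v, α (ρ g v) = ρ g (α v) := fun g v => by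
      simp only [α, LinearMap.add_apply, LinearMap.id_apply, LinearMap.comp_apply, map_add]
      rw [← hψe g (π₀ v)]
      congr 2
      refine Subtype.ext ?_
      rw [Submodule.coe_projectionOnto_apply]
      exact (hX.projection_comm (hU₁.sup hR) hX'c g v).trans (by
        rw [← Submodule.coe_projectionOnto_apply])
    set C : BilinForm F V := B.compl₁₂ LinearMap.id α
    have hC : ∀ g x y, C (ρ g x) (ρ g y) = C x y := fun g x y => by
      simp only [C, LinearMap.compl₁₂_apply, LinearMap.id_apply, hαe, hB]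
    have hC0 : SDNondeg C ⊤ := fun x _ h => hB0 x trivial fun v _ => by
      obtain ⟨w, rfl⟩ := (LinearMap.injective_iff_surjective.1 hαi) v
      exact h w trivial
    have hCX : ∀ x ∈ X, ∀ y ∈ X, C x y = Γ x y := fun x hx y hy => by
      simp only [C, α, LinearMap.compl₁₂_apply, LinearMap.id_apply, LinearMap.add_apply,
        LinearMap.comp_apply, map_add]
      rw [hBX x hx y hy, zero_add, hψ x hx]
      congr 1
      rw [Submodule.coe_projectionOnto_apply, Submodule.projection_apply_of_mem_left hX'c hy]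
    have hCXi : SDFormInv ρ C X := fun g x _ y _ => hC g x y
    have hCXn : SDNondeg C X := hnd C hCXi (by
      obtain ⟨x, hx, y, hy, h⟩ := hΓne
      exact ⟨x, hx, y, hy, by rwa [hCX x hx y hy]⟩)
    exact step C hC hC0 X hXne hX hCXn (sd_piece hX hirr hCXi hCXn)
  push Not at hself
  -- no invariant form on `X`: a hyperbolic pair
  obtain ⟨C, hC, hC0, hCXX, hCXU, hCUX⟩ : ∃ C : BilinForm F V,
      (∀ g x y, C (ρ g x) (ρ g y) = C x y) ∧ SDNondeg C ⊤ ∧
      (∀ x ∈ X, ∀ y ∈ X, C x y = 0) ∧ (∀ x ∈ X, (∀ u ∈ U₁, C x u = 0) → x = 0) ∧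
      (∀ u ∈ U₁, (∀ x ∈ X, C u x = 0) → u = 0) := by
    have huniv : ∀ D : BilinForm F V, (∀ g x y, D (ρ g x) (ρ g y) = D x y) →
        ∀ x ∈ X, ∀ y ∈ X, D x y = 0 := fun D hD x hx y hy =>
      hself D (fun g a _ b _ => hD g a b) x hx y hy
    by_cases hUX : ∀ u ∈ U₁, (∀ x ∈ X, B u x = 0) → u = 0
    · exact ⟨B, hB, hB0, hBX, hp₁, hUX⟩
    -- otherwise `U₁` pairs with `X` trivially
    have hzero : ∀ u ∈ U₁, ∀ x ∈ X, B u x = 0 := by
      let K : Submodule F V :=
        { carrier := {x | x ∈ X ∧ ∀ u ∈ U₁, B u x = 0}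
          zero_mem' := ⟨X.zero_mem, fun u _ => map_zero _⟩
          add_mem' := fun ha hb => ⟨X.add_mem ha.1 hb.1, fun u hu => by
            rw [map_add, ha.2 u hu, hb.2 u hu, add_zero]⟩
          smul_mem' := fun c a ha => ⟨X.smul_mem c ha.1, fun u hu => by
            rw [map_smul, ha.2 u hu, smul_zero]⟩ }
      rcases hirr K (fun g x hx => ⟨hX g x hx.1, fun u hu => by
          rw [← sd_inv_cancel (ρ := ρ) g u, hB]
          exact hx.2 _ (hU₁ g⁻¹ u hu)⟩) (fun x hx => hx.1) with h | h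
      · exfalso
        refine hUX fun u hu hu0 => ?_
        -- left-kernel trivial because the dimensions agree
        let L : ↥X →ₗ[F] Module.Dual F ↥U₁ := (B.compl₁₂ U₁.subtype X.subtype).flip
        have hL : Function.Injective L := by
          rw [← LinearMap.ker_eq_bot, eq_bot_iff]
          intro x hx
          refine Subtype.ext ((Submodule.mem_bot F).1 (h ▸ (⟨x.2, fun u hu => ?_⟩ : (x : V) ∈ K)))
          exact LinearMap.congr_fun (LinearMap.mem_ker.1 hx) ⟨u, hu⟩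
        have hdim : Module.finrank F ↥X = Module.finrank F (Module.Dual F ↥U₁) := by
          refine le_antisymm (LinearMap.finrank_le_finrank_of_injective hL) ?_
          rw [Subspace.dual_finrank_eq]
          let L' : ↥U₁ →ₗ[F] Module.Dual F ↥X := (B.compl₁₂ X.subtype U₁.subtype).flip
          have hL' : Function.Injective L' := by
            rw [← LinearMap.ker_eq_bot, eq_bot_iff]
            intro y hy
            exact Subtype.ext (hq₁ y y.2 fun x hx =>
              LinearMap.congr_fun (LinearMap.mem_ker.1 hy) ⟨x, hx⟩)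
          exact (LinearMap.finrank_le_finrank_of_injective hL').trans_eq Subspace.dual_finrank_eq
        have hs := (LinearMap.injective_iff_surjective_of_finrank_eq_finrank hdim).1 hL
        by_contra hne
        obtain ⟨φ, hφ⟩ := Module.Projective.exists_dual_ne_zero F
          (show (⟨u, hu⟩ : ↥U₁) ≠ 0 from fun e => hne (congrArg Subtype.val e))
        obtain ⟨x, rfl⟩ := hs φ
        exact hφ (hu0 x x.2)
      · exact fun u hu x hx => (show x ∈ K from h ▸ hx).2 u hu
    obtain ⟨U₂, hU₂, hc₂, hp₂, hq₂⟩ := sd_exists_partner hG hB hB0 hU₁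
    have hXU₂ : Disjoint X U₂ :=
      hc₂.disjoint.mono_left (show X ≤ sdPerp B U₁ from fun x hx u hu => hzero u hu x hx)
    obtain ⟨ψ, hψY, hψe, hψ⟩ := sd_lift hB hU₁ hX hU₂ hp₂ hq₂ (LinearMap.flip B)
      fun g u _ x _ => hB g x u
    obtain ⟨R, hR, hRc⟩ := (hX.sup hU₂).exists_compl hG
    have hX'c : IsCompl X (U₂ ⊔ R) := sd_isCompl_sup hXU₂ hRc
    set π₀ := Submodule.projectionOnto X (U₂ ⊔ R) hX'c
    set α : V →ₗ[F] V := LinearMap.id + ψ ∘ₗ π₀
    have hαi : Function.Injective α := by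
      rw [← LinearMap.ker_eq_bot, eq_bot_iff]
      intro v hv
      have hv' : v + ψ (π₀ v) = 0 := hv
      have h0 : π₀ v = 0 := by
        rw [eq_neg_of_add_eq_zero_left hv', map_neg, neg_eq_zero]
        exact (Submodule.projectionOnto_apply_eq_zero_iff hX'c).2
          (Submodule.mem_sup_left (hψY _))
      rw [h0, map_zero, add_zero] at hv'
      exact hv'
    have hαe : ∀ g v, α (ρ g v) = ρ g (α v) := fun g v => by
      simp only [α, LinearMap.add_apply, LinearMap.id_apply, LinearMap.comp_apply, map_add]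
      rw [← hψe g (π₀ v)]
      congr 2
      refine Subtype.ext ?_
      rw [Submodule.coe_projectionOnto_apply]
      exact (hX.projection_comm (hU₂.sup hR) hX'c g v).trans (by
        rw [← Submodule.coe_projectionOnto_apply])
    set C : BilinForm F V := B.compl₁₂ LinearMap.id α
    have hC : ∀ g x y, C (ρ g x) (ρ g y) = C x y := fun g x y => by
      simp only [C, LinearMap.compl₁₂_apply, LinearMap.id_apply, hαe, hB]
    refine ⟨C, hC, fun x _ h => hB0 x trivial fun v _ => ?_, huniv C hC, fun x hx h => ?_,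
      fun u hu h => ?_⟩
    · obtain ⟨w, rfl⟩ := (LinearMap.injective_iff_surjective.1 hαi) v
      exact h w trivial
    · refine hp₁ x hx fun u hu => ?_
      have h1 := h u hu
      simp only [C, α, LinearMap.compl₁₂_apply, LinearMap.id_apply, LinearMap.add_apply,
        LinearMap.comp_apply, map_add] at h1
      have h2 : B x (ψ (π₀ u)) = 0 := by
        have hΔ := huniv C hC x hx (π₀ u) (π₀ u).2
        simp only [C, α, LinearMap.compl₁₂_apply, LinearMap.id_apply, LinearMap.add_apply,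
          LinearMap.comp_apply, map_add] at hΔ
        rw [hBX x hx _ (π₀ u).2, zero_add] at hΔ
        rwa [show π₀ ((π₀ u : ↥X) : V) = π₀ u from Submodule.projectionOnto_apply_left hX'c _]
          at hΔ
      rwa [h2, add_zero] at h1
    · refine hq₁ u hu fun x hx => ?_
      have h1 := h x hx
      simp only [C, α, LinearMap.compl₁₂_apply, LinearMap.id_apply, LinearMap.add_apply,
        LinearMap.comp_apply, map_add] at h1
      rw [hzero u hu x hx, zero_add, show π₀ x = ⟨x, hx⟩ from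
        Submodule.projectionOnto_apply_left hX'c ⟨x, hx⟩, hψ u hu, LinearMap.flip_apply] at h1
      exact h1
  set Z := X ⊔ U₁
  have hZn : SDNondeg C Z := by
    intro z hz h
    obtain ⟨x, hx, u, hu, rfl⟩ := Submodule.mem_sup.1 hz
    have hu0 : u = 0 := hCUX u hu fun y hy => by
      have := h y (Submodule.mem_sup_left hy)
      rwa [map_add, LinearMap.add_apply, hCXX x hx y hy, zero_add] at this
    subst hu0
    rw [add_zero] at h ⊢
    exact hCXU x hx fun v hv => h v (Submodule.mem_sup_right hv)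
  obtain ⟨R, hR, hRc⟩ := (hX.sup hU₁).exists_compl hG
  have hXc : IsCompl X (U₁ ⊔ R) := sd_isCompl_sup hXU hRc
  set a := X.projection (U₁ ⊔ R) hXc
  set b := LinearMap.id - a
  set A : BilinForm F V := C.compl₁₂ a b - LinearMap.flip (C.compl₁₂ a b)
  have ha : ∀ x ∈ X, ∀ u ∈ U₁, a (x + u) = x ∧ b (x + u) = u := fun x hx u hu => by
    have h1 : a (x + u) = x := by
      rw [map_add, Submodule.projection_apply_of_mem_left hXc hx,
        (Submodule.projection_apply_eq_zero_iff hXc).2 (Submodule.mem_sup_left hu), add_zero]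
    refine ⟨h1, ?_⟩
    simp only [b, LinearMap.sub_apply, LinearMap.id_apply, h1, add_sub_cancel_left]
  have hae : ∀ g v, a (ρ g v) = ρ g (a v) := hX.projection_comm (hU₁.sup hR) hXc
  have hbe : ∀ g v, b (ρ g v) = ρ g (b v) := fun g v => by
    simp only [b, LinearMap.sub_apply, LinearMap.id_apply, hae, map_sub]
  have hAn : SDNondeg A Z := by
    intro z hz h
    obtain ⟨x, hx, u, hu, rfl⟩ := Submodule.mem_sup.1 hz
    have hx0 : x = 0 := hCXU x hx fun v hv => by
      have := h (0 + v) (Submodule.add_mem_sup X.zero_mem hv)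
      simp only [A, LinearMap.sub_apply, LinearMap.compl₁₂_apply, LinearMap.flip_apply,
        (ha x hx u hu).1, (ha x hx u hu).2, (ha 0 X.zero_mem v hv).1, (ha 0 X.zero_mem v hv).2]
        at this
      simpa using this
    subst hx0
    have hu0 : u = 0 := by
      have hu' : ∀ y ∈ X, C y u = 0 := fun y hy => by
        have := h (y + 0) (Submodule.add_mem_sup hy U₁.zero_mem)
        simp only [A, LinearMap.sub_apply, LinearMap.compl₁₂_apply, LinearMap.flip_apply,
          (ha 0 X.zero_mem u hu).1, (ha 0 X.zero_mem u hu).2, (ha y hy 0 U₁.zero_mem).1,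
          (ha y hy 0 U₁.zero_mem).2] at this
        simpa using this
      -- right kernel of the pairing `X × U₁`
      let L : ↥X →ₗ[F] Module.Dual F ↥U₁ := C.compl₁₂ X.subtype U₁.subtype
      have hL : Function.Injective L := by
        rw [← LinearMap.ker_eq_bot, eq_bot_iff]
        intro y hy
        exact Subtype.ext (hCXU y y.2 fun v hv =>
          LinearMap.congr_fun (LinearMap.mem_ker.1 hy) ⟨v, hv⟩)
      let L' : ↥U₁ →ₗ[F] Module.Dual F ↥X := C.compl₁₂ U₁.subtype X.subtype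
      have hL' : Function.Injective L' := by
        rw [← LinearMap.ker_eq_bot, eq_bot_iff]
        intro y hy
        exact Subtype.ext (hCUX y y.2 fun v hv =>
          LinearMap.congr_fun (LinearMap.mem_ker.1 hy) ⟨v, hv⟩)
      have hdim : Module.finrank F ↥X = Module.finrank F (Module.Dual F ↥U₁) :=
        le_antisymm (LinearMap.finrank_le_finrank_of_injective hL)
          (Subspace.dual_finrank_eq.trans_le
            ((LinearMap.finrank_le_finrank_of_injective hL').trans_eq Subspace.dual_finrank_eq))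
      have hs := (LinearMap.injective_iff_surjective_of_finrank_eq_finrank hdim).1 hL
      by_contra hne
      obtain ⟨φ, hφ⟩ := Module.Projective.exists_dual_ne_zero F
        (show (⟨u, hu⟩ : ↥U₁) ≠ 0 from fun e => hne (congrArg Subtype.val e))
      obtain ⟨y, rfl⟩ := hs φ
      exact hφ (hu' y y.2)
    rw [hu0, add_zero]
  refine step C hC hC0 Z ?_ (hX.sup hU₁) hZn (Or.inl ⟨A, fun v => ?_, fun g x _ y _ => ?_, hAn⟩)
  · exact fun h => hXne (le_bot_iff.1 (le_sup_left.trans_eq h))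
  · simp [A]
  · simp only [A, LinearMap.sub_apply, LinearMap.compl₁₂_apply, LinearMap.flip_apply, hae, hbe, hC]

end Cfsg.Agent.H45
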