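import Cfsg.Agent.H45.RelOperator

/-!
# Induction from the inertia group of an invariant character of the normal `p`-subgroup
-/

set_option autoImplicit false

open scoped ComplexConjugate

namespace Cfsg.Agent.H45

open H43 (InvFun irrConj irrCongr mult restrMult restrictAut)

variable {S K : Type*} [Group S] [Group K] [Fintype K] {p : ℕ} {φ : S →* MulAut K}
  {Q : Subgroup K} [Q.Normal] [Fintype Q]

/-- The extension restricts to `θ`. -/
def IsExt (θ : Cfsg.IrrCharacter Q) (E : Cfsg.IrrCharacter ↥(inertiaSub θ)) : Prop :=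
  ∀ n : Q, E.1 (Subgroup.inclusion (le_inertiaSub θ) n) = θ.1 n

variable (θ : Cfsg.IrrCharacter Q)

/-- A character of the inertia group lies over `θ`. -/
def OverInertia [Fintype ↥(inertiaSub θ)] (ζ : Cfsg.IrrCharacter ↥(inertiaSub θ)) : Prop :=
  mult (fun n : Q => ζ.1 (Subgroup.inclusion (le_inertiaSub θ) n)) θ ≠ 0

variable {θ}

theorem isCharacter_incl [Fintype ↥(inertiaSub θ)] (ζ : Cfsg.IrrCharacter ↥(inertiaSub θ)) :
    Cfsg.IsCharacter Q (fun n : Q => ζ.1 (Subgroup.inclusion (le_inertiaSub θ) n)) :=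
  H26.isCharacter_comp (H26.irr_isCharacter ζ) (Subgroup.inclusion (le_inertiaSub θ))

variable [Fintype ↥(inertiaSub θ)]

theorem classInner_resT_ne_zero [Fintype (Q.subgroupOf (inertiaSub θ))]
    {ζ : Cfsg.IrrCharacter ↥(inertiaSub θ)} (h : OverInertia θ ζ) :
    Cfsg.classInner (fun n : Q.subgroupOf (inertiaSub θ) => ζ.1 n)
      (H56.resT Q (inertiaSub θ) θ.1) ≠ 0 := by
  have e : Cfsg.classInner (fun n : Q.subgroupOf (inertiaSub θ) => ζ.1 n)
      (H56.resT Q (inertiaSub θ) θ.1) =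
      Cfsg.classInner (fun n : Q => ζ.1 (Subgroup.inclusion (le_inertiaSub θ) n)) θ.1 :=
    H43.classInner_congr (Subgroup.subgroupOfEquivOfLe (le_inertiaSub θ))
      (fun n : Q => ζ.1 (Subgroup.inclusion (le_inertiaSub θ) n)) θ.1
  rw [e, H43.classInner_eq_mult (isCharacter_incl ζ) θ, Nat.cast_ne_zero]
  exact h

/-- Induction from the inertia group is irreducible and injective. -/
theorem indFun_over {ζ : Cfsg.IrrCharacter ↥(inertiaSub θ)} (h : OverInertia θ ζ) :
    Cfsg.IsIrrCharacter K (Cfsg.indFun (inertiaSub θ) ζ.1) ∧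
      ∀ ζ' : Cfsg.IrrCharacter ↥(inertiaSub θ), OverInertia θ ζ' →
        Cfsg.indFun (inertiaSub θ) ζ.1 = Cfsg.indFun (inertiaSub θ) ζ'.1 → ζ = ζ' := by
  classical
  have : Fintype (Q.subgroupOf (inertiaSub θ)) := Fintype.ofFinite _
  have hcl := H56.clifford_induced Q (inertiaSub θ) θ.2 (fun _ => mem_inertiaSub_twist) ζ.2
    (classInner_resT_ne_zero h)
  exact ⟨hcl.1, fun ζ' h' e => Subtype.ext (hcl.2 ζ'.1 ζ'.2 (classInner_resT_ne_zero h') e)⟩

/-- A constituent over `θ` induces the character. -/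
theorem indFun_eq_of_constituent (χ : Cfsg.IrrCharacter K)
    {ζ : Cfsg.IrrCharacter ↥(inertiaSub θ)} (h : OverInertia θ ζ)
    (hm : mult (fun t : inertiaSub θ => χ.1 t) ζ ≠ 0) :
    Cfsg.indFun (inertiaSub θ) ζ.1 = χ.1 := by
  classical
  by_contra hne
  have h1 := H26.classInner_irr (⟨_, (indFun_over h).1⟩ : Cfsg.IrrCharacter K) χ
  rw [if_neg fun e => hne (congrArg Subtype.val e)] at h1
  simp only at h1
  rw [H25.classInner_indFun_left _ _ _ (H26.irr_isClassFunction χ)] at h1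
  have h2 := H43.classInner_eq_mult (φ := fun t : inertiaSub θ => χ.1 t)
    (H26.isCharacter_comp (H26.irr_isCharacter χ) (inertiaSub θ).subtype) ζ
  rw [H26.classInner_comm, h1, map_zero] at h2
  exact hm (Nat.cast_eq_zero.1 h2.symm)

/-- The inducing character occurs once in the restriction. -/
theorem mult_eq_one_of_indFun (χ : Cfsg.IrrCharacter K)
    {ζ : Cfsg.IrrCharacter ↥(inertiaSub θ)}
    (e : Cfsg.indFun (inertiaSub θ) ζ.1 = χ.1) :
    mult (fun t : inertiaSub θ => χ.1 t) ζ = 1 := by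
  classical
  refine H43.mult_eq_of_classInner ?_
  have h1 := H26.classInner_irr χ χ
  rw [if_pos rfl] at h1
  conv_lhs at h1 => arg 1; rw [← e]
  rw [H25.classInner_indFun_left _ _ _ (H26.irr_isClassFunction χ)] at h1
  rw [H26.classInner_comm, h1, map_one, Nat.cast_one]

/-- Only one constituent lies over `θ`. -/
theorem constituent_unique (χ : Cfsg.IrrCharacter K)
    {ζ ζ' : Cfsg.IrrCharacter ↥(inertiaSub θ)} (h : OverInertia θ ζ) (h' : OverInertia θ ζ')
    (hm : mult (fun t : inertiaSub θ => χ.1 t) ζ ≠ 0)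
    (hm' : mult (fun t : inertiaSub θ => χ.1 t) ζ' ≠ 0) : ζ = ζ' :=
  (indFun_over h).2 ζ' h'
    ((indFun_eq_of_constituent χ h hm).trans (indFun_eq_of_constituent χ h' hm').symm)

/-- The multiplicity of `θ` through the inertia group. -/
theorem restrMult_eq_sum (χ : Cfsg.IrrCharacter K) :
    restrMult Q χ θ = ∑ ζ : Cfsg.IrrCharacter ↥(inertiaSub θ),
      mult (fun t : inertiaSub θ => χ.1 t) ζ *
        mult (fun n : Q => ζ.1 (Subgroup.inclusion (le_inertiaSub θ) n)) θ :=
  H43.mult_comp (Subgroup.inclusion (le_inertiaSub θ))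
    (H26.isCharacter_comp (H26.irr_isCharacter χ) (inertiaSub θ).subtype) θ

theorem exists_constituent (χ : Cfsg.IrrCharacter K) (h : restrMult Q χ θ ≠ 0) :
    ∃ ζ : Cfsg.IrrCharacter ↥(inertiaSub θ), OverInertia θ ζ ∧
      mult (fun t : inertiaSub θ => χ.1 t) ζ ≠ 0 := by
  rw [restrMult_eq_sum] at h
  obtain ⟨ζ, -, hζ⟩ := Finset.exists_ne_zero_of_sum_ne_zero h
  exact ⟨ζ, right_ne_zero_of_mul hζ, left_ne_zero_of_mul hζ⟩

theorem restrMult_ne_zero_of_constituent (χ : Cfsg.IrrCharacter K)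
    {ζ : Cfsg.IrrCharacter ↥(inertiaSub θ)} (h : OverInertia θ ζ)
    (hm : mult (fun t : inertiaSub θ => χ.1 t) ζ ≠ 0) : restrMult Q χ θ ≠ 0 := by
  rw [restrMult_eq_sum]
  exact fun h0 => mul_ne_zero hm h (Finset.sum_eq_zero_iff.1 h0 ζ (Finset.mem_univ ζ))

variable {E : Cfsg.IrrCharacter ↥(inertiaSub θ)} [Fintype (Q.subgroupOf (inertiaSub θ))]
  [Fintype (↥(inertiaSub θ) ⧸ Q.subgroupOf (inertiaSub θ))]

omit [Fintype Q] [Fintype (Q.subgroupOf (inertiaSub θ))]
  [Fintype (↥(inertiaSub θ) ⧸ Q.subgroupOf (inertiaSub θ))] [Fintype ↥(inertiaSub θ)] in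
theorem IsExt.irr_restrict (hE : IsExt θ E) :
    Cfsg.IsIrrCharacter ↥(Q.subgroupOf (inertiaSub θ))
      fun n : Q.subgroupOf (inertiaSub θ) => E.1 n := by
  have h : (fun n : Q.subgroupOf (inertiaSub θ) => E.1 n) =
      (irrCongr (Subgroup.subgroupOfEquivOfLe (le_inertiaSub θ)) θ).1 :=
    funext fun n => hE ⟨_, Subgroup.mem_subgroupOf.1 n.2⟩
  rw [h]
  exact Subtype.prop _

/-- Products with the extension as irreducible characters. -/
noncomputable def extIrr (hE : IsExt θ E)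
    (η : Cfsg.IrrCharacter (↥(inertiaSub θ) ⧸ Q.subgroupOf (inertiaSub θ))) :
    Cfsg.IrrCharacter ↥(inertiaSub θ) :=
  ⟨extMul _ E η.1, isIrrCharacter_extMul _ E hE.irr_restrict η⟩

theorem overInertia_extIrr (hE : IsExt θ E)
    (η : Cfsg.IrrCharacter (↥(inertiaSub θ) ⧸ Q.subgroupOf (inertiaSub θ))) :
    OverInertia θ (extIrr hE η) := by
  classical
  obtain ⟨d, hd⟩ := H26.exists_nat_char_one (H26.irr_isCharacter η)
  have hd0 : d ≠ 0 := fun h => H26.irr_one_ne_zero η (by rw [hd, h, Nat.cast_zero])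
  suffices h : mult (fun n : Q => (extIrr hE η).1 (Subgroup.inclusion (le_inertiaSub θ) n)) θ = d by
    rw [OverInertia, h]
    exact hd0
  refine H43.mult_eq_of_classInner ?_
  have e : (fun n : Q => (extIrr hE η).1 (Subgroup.inclusion (le_inertiaSub θ) n)) =
      (d : ℂ) • θ.1 := by
    funext n
    show E.1 _ * η.1 _ = _
    rw [show ((Subgroup.inclusion (le_inertiaSub θ) n : ↥(inertiaSub θ)) : ↥(inertiaSub θ) ⧸ Q.subgroupOf (inertiaSub θ)) = 1 from (QuotientGroup.eq_one_iff _).2 (Subgroup.mem_subgroupOf.2 n.2), hd, hE n,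
      Pi.smul_apply, smul_eq_mul, mul_comm]
  rw [e, H26.classInner_smul_left, H26.classInner_irr, if_pos rfl, mul_one]

/-- A character of the inertia group over `θ` is a product with the extension. -/
theorem exists_extIrr (hE : IsExt θ E) {ζ : Cfsg.IrrCharacter ↥(inertiaSub θ)}
    (h : OverInertia θ ζ) :
    ∃ η : Cfsg.IrrCharacter (↥(inertiaSub θ) ⧸ Q.subgroupOf (inertiaSub θ)),
      extIrr hE η = ζ := by
  have h1 := classInner_resT_ne_zero h
  have e : (fun n : Q.subgroupOf (inertiaSub θ) => E.1 n) = H56.resT Q (inertiaSub θ) θ.1 :=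
    funext fun n => hE ⟨_, Subgroup.mem_subgroupOf.1 n.2⟩
  obtain ⟨η, hη⟩ := exists_extMul _ E hE.irr_restrict ζ (by rw [e]; exact h1)
  exact ⟨η, Subtype.ext hη⟩

/-- The action of the operators on the quotient of the inertia group. -/
noncomputable def OpData.quotAct (hd : OpData p φ Q) (hθ : InvFun hd.act θ.1) :
    S →* MulAut (↥(inertiaSub θ) ⧸ Q.subgroupOf (inertiaSub θ)) :=
  quotMulAut (restrictAut φ (inertiaSub θ) (hd.inertia_inv hθ)) _ fun s n hn =>
    Subgroup.mem_subgroupOf.2 (hd.qinv s _ (Subgroup.mem_subgroupOf.1 hn))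

/-- Invariance of the induced character is invariance of the quotient character. -/
theorem OpData.invFun_indFun_iff (hd : OpData p φ Q) (hθ : InvFun hd.act θ.1) (hE : IsExt θ E)
    (hEi : InvFun (restrictAut φ (inertiaSub θ) (hd.inertia_inv hθ)) E.1)
    (η : Cfsg.IrrCharacter (↥(inertiaSub θ) ⧸ Q.subgroupOf (inertiaSub θ)))
    (χ : Cfsg.IrrCharacter K) (e : Cfsg.indFun (inertiaSub θ) (extIrr hE η).1 = χ.1) :
    InvFun φ χ.1 ↔ InvFun (hd.quotAct hθ) η.1 := by
  have hm : ∀ s, mult (fun t : inertiaSub θ => (irrCongr (φ s) χ).1 t)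
      (extIrr hE (irrCongr (hd.quotAct hθ s) η)) = 1 := by
    intro s
    have e1 : extIrr hE (irrCongr (hd.quotAct hθ s) η) =
        irrCongr (restrictAut φ (inertiaSub θ) (hd.inertia_inv hθ) s) (extIrr hE η) :=
      Subtype.ext (funext fun t => by
        show E.1 t * η.1 (hd.quotAct hθ s (t : ↥(inertiaSub θ) ⧸ _)) =
          E.1 (restrictAut φ _ _ s t) * η.1 _
        rw [hEi s t]
        rfl)
    rw [e1]
    exact (mult_congr (restrictAut φ (inertiaSub θ) (hd.inertia_inv hθ) s)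
      (fun t : inertiaSub θ => χ.1 t) (extIrr hE η)).trans (mult_eq_one_of_indFun χ e)
  constructor
  · intro hχ s x
    have h1 := hm s
    rw [H43.irrCongr_eq_self_of_invFun hχ s] at h1
    have h2 := constituent_unique χ (overInertia_extIrr hE _) (overInertia_extIrr hE η)
      (by rw [h1]; exact one_ne_zero) (by rw [mult_eq_one_of_indFun χ e]; exact one_ne_zero)
    have h3 := extMul_injective _ E hE.irr_restrict _ _ (congrArg Subtype.val h2)
    exact congrFun (congrArg Subtype.val h3) x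
  · intro hη s g
    have h1 := hm s
    rw [H43.irrCongr_eq_self_of_invFun hη s] at h1
    have h2 := indFun_eq_of_constituent (irrCongr (φ s) χ) (overInertia_extIrr hE η)
      (by rw [h1]; exact one_ne_zero)
    exact (congrFun (e.symm.trans h2) g).symm

end Cfsg.Agent.H45
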