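import Cfsg.Agent.H45.IntMod
import Cfsg.Agent.H56.RootsOfUnity
import Cfsg.Agent.H45.Galois

/-!
# Families of class functions attached to self-dual modules of coprime order

An `EtaFamily` on a module `M` of `H` is a Galois stable family of class functions with integral
multiplicities, squared absolute value `|M| / |C_M(h)|` at `h`, value `1` at the identity and
values divisible by `1 - ε` at the elements acting nontrivially.
-/

set_option autoImplicit false

open scoped ComplexConjugate

namespace Cfsg.Agent.H45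

variable {p : ℕ} [Fact p.Prime] {H : Type*} [Group H] {M : Type*} [AddCommGroup M]
  [Module (ZMod p) M]

/-- The number of fixed points. -/
noncomputable def fixCard (ρ : Representation (ZMod p) H M) (h : H) : ℕ :=
  Nat.card {x : M // ρ h x = x}

/-- A family as described in the module docstring. -/
structure EtaFamily [Fintype H] (ρ : Representation (ZMod p) H M) (ε : ℂ) {E : Type*}
    (η : E → H → ℂ) : Prop where
  /-- there is a member -/
  nonempty : Nonempty E
  /-- integral multiplicities -/
  intMod : ∀ e, IntMod (η e)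
  /-- the absolute values -/
  normSq : ∀ e h, ‖η e h‖ ^ 2 * (fixCard ρ h : ℝ) = Nat.card M
  /-- value at one -/
  one : ∀ e, η e 1 = 1
  /-- divisibility -/
  cong : ∀ e h, (∃ x, ρ h x ≠ x) → ∃ ω, IsIntegral ℤ ω ∧ η e h = (1 - ε) * ω
  /-- Galois stability -/
  gal : ∀ σ : ℂ ≃+* ℂ, ∃ π : Equiv.Perm E, ∀ e h, σ (η e h) = η (π e) h

/-- A prime is divisible by `1 - ε`. -/
theorem exists_prime_eq_one_sub_mul {ε : ℂ} (hε : IsPrimitiveRoot ε p) :
    ∃ ω, IsIntegral ℤ ω ∧ (p : ℂ) = (1 - ε) * ω := by
  have hp := (Fact.out : p.Prime)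
  choose w hw hwe using fun j => H56.exists_one_sub_pow_eq_mul hp.pos hε.pow_eq_one j
  refine ⟨∑ j ∈ Finset.range p, w j, IsIntegral.sum _ fun j _ => hw j, ?_⟩
  rw [Finset.mul_sum, ← Finset.sum_congr rfl fun j _ => hwe j, Finset.sum_sub_distrib,
    hε.geom_sum_eq_zero hp.one_lt]
  simp

theorem mem_ker_sub_one (ρ : Representation (ZMod p) H M) (h : H) (x : M) :
    x ∈ LinearMap.ker (ρ h - 1) ↔ ρ h x = x := by
  rw [LinearMap.mem_ker, LinearMap.sub_apply, Module.End.one_apply, sub_eq_zero]

theorem fixCard_eq (ρ : Representation (ZMod p) H M) (h : H) :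
    fixCard ρ h = Nat.card ↥(LinearMap.ker (ρ h - 1)) :=
  Nat.card_congr (Equiv.subtypeEquivRight fun x => (mem_ker_sub_one ρ h x).symm)

theorem fixCard_one (ρ : Representation (ZMod p) H M) : fixCard ρ 1 = Nat.card M :=
  Nat.card_congr (Equiv.subtypeUnivEquiv fun x => by simp)

variable [Finite M]

theorem fixCard_pos (ρ : Representation (ZMod p) H M) (h : H) : 0 < fixCard ρ h := by
  haveI : Nonempty {x : M // ρ h x = x} := ⟨⟨0, map_zero _⟩⟩
  exact Nat.card_pos

/-- The coprime decomposition of a module under a single element. -/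
theorem isCompl_ker_range [Finite H] (hcop : ¬ p ∣ Nat.card H) (ρ : Representation (ZMod p) H M)
    (h : H) : IsCompl (LinearMap.ker (ρ h - 1)) (LinearMap.range (ρ h - 1)) := by
  have hdis : Disjoint (LinearMap.ker (ρ h - 1)) (LinearMap.range (ρ h - 1)) := by
    refine Submodule.disjoint_def.2 fun x hx hx' => ?_
    obtain ⟨y, rfl⟩ := LinearMap.mem_range.1 hx'
    rw [mem_ker_sub_one] at hx
    set x := (ρ h - 1) y with hxdef
    have hxy : ρ h y = y + x := by
      rw [hxdef, LinearMap.sub_apply, Module.End.one_apply, add_sub_cancel]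
    have hpow : ∀ j : ℕ, ρ (h ^ j) y = y + (j : ZMod p) • x := by
      intro j
      induction j with
      | zero => simp
      | succ j ih =>
        rw [pow_succ', map_mul, Module.End.mul_apply, ih, map_add, map_smul, hx, hxy, Nat.cast_succ,
          add_smul, one_smul]
        abel
    have h1 := hpow (Nat.card H)
    rw [pow_card_eq_one', map_one, Module.End.one_apply, left_eq_add] at h1
    exact (smul_eq_zero.1 h1).resolve_left fun h0 => hcop ((ZMod.natCast_eq_zero_iff _ p).1 h0)
  refine ⟨hdis, codisjoint_iff.2 (Submodule.eq_top_of_finrank_eq ?_)⟩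
  have h1 := (ρ h - 1).finrank_range_add_finrank_ker
  have h2 := Submodule.finrank_sup_add_finrank_inf_eq (LinearMap.ker (ρ h - 1))
    (LinearMap.range (ρ h - 1))
  rw [hdis.eq_bot, finrank_bot, add_zero] at h2
  rw [h2, add_comm]
  exact h1

theorem fixCard_mul_range (ρ : Representation (ZMod p) H M) (h : H) :
    fixCard ρ h * Nat.card ↥(LinearMap.range (ρ h - 1)) = Nat.card M := by
  rw [fixCard_eq, Module.natCard_eq_pow_finrank (K := ZMod p) (V := M),
    Module.natCard_eq_pow_finrank (K := ZMod p) (V := ↥(LinearMap.ker (ρ h - 1))),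
    Module.natCard_eq_pow_finrank (K := ZMod p) (V := ↥(LinearMap.range (ρ h - 1))), ← pow_add,
    add_comm, (ρ h - 1).finrank_range_add_finrank_ker]

theorem fixCard_coprime [Finite H] (hcop : ¬ p ∣ Nat.card H) (ρ : Representation (ZMod p) H M)
    (h : H) : (fixCard ρ h).Coprime (Nat.card H) := by
  rw [fixCard_eq, Module.natCard_eq_pow_finrank (K := ZMod p), Nat.card_zmod]
  exact ((Fact.out : p.Prime).coprime_iff_not_dvd.2 hcop).pow_left _

/-- The action on the module as permutations. -/
def repPerm (ρ : Representation (ZMod p) H M) : H →* Equiv.Perm M where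
  toFun h := ⟨ρ h, ρ h⁻¹, fun x => by
    rw [← Module.End.mul_apply, ← map_mul, inv_mul_cancel, map_one, Module.End.one_apply], fun x => by
    rw [← Module.End.mul_apply, ← map_mul, mul_inv_cancel, map_one, Module.End.one_apply]⟩
  map_one' := Equiv.ext fun x => by simp
  map_mul' a b := Equiv.ext fun x => by simp

omit [Finite M] in
theorem repPerm_apply (ρ : Representation (ZMod p) H M) (h : H) (x : M) :
    repPerm ρ h x = ρ h x := rfl

variable [Fintype H]

/-- The permutation character has integral multiplicities. -/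
theorem intMod_fixCard (ρ : Representation (ZMod p) H M) :
    IntMod fun h => (fixCard ρ h : ℂ) := by
  classical
  have := Fintype.ofFinite M
  have h := intMod_kernel (repPerm ρ) (fun u w => if u = w then (1 : ℂ) else 0)
    (fun u w => by
      split_ifs
      · exact isIntegral_one
      · exact isIntegral_zero)
    (fun h u w => if_congr (repPerm ρ h).injective.eq_iff rfl rfl)
  convert h using 1
  funext g
  rw [Finset.sum_boole, fixCard, Nat.card_eq_fintype_card, Fintype.card_subtype]
  simp only [repPerm_apply, eq_comm]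
  congr!

/-- Families of complementary invariant subspaces multiply. -/
theorem EtaFamily.prod {ρ : Representation (ZMod p) H M} {ε : ℂ} {U W : Submodule (ZMod p) M}
    (hUW : IsCompl U W) (ρU : Representation (ZMod p) H U) (ρW : Representation (ZMod p) H W)
    (hU : ∀ h u, (ρU h u : M) = ρ h u) (hW : ∀ h w, (ρW h w : M) = ρ h w)
    {E E' : Type*} {η : E → H → ℂ} {η' : E' → H → ℂ}
    (hη : EtaFamily ρU ε η) (hη' : EtaFamily ρW ε η') :
    EtaFamily ρ ε fun e : E × E' => η e.1 * η' e.2 := by
  let e := Submodule.prodEquivOfIsCompl U W hUW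
  have he : ∀ h q, ρ h (e q) = e (ρU h q.1, ρW h q.2) := fun h q => by
    simp [e, Submodule.coe_prodEquivOfIsCompl', hU, hW]
  have hfix : ∀ h, fixCard ρ h = fixCard ρU h * fixCard ρW h := fun h => by
    rw [fixCard, fixCard, fixCard, ← Nat.card_prod]
    exact (Nat.card_congr ((Equiv.subtypeProdEquivProd.symm.trans
      (e.toEquiv.subtypeEquiv fun q => show _ ↔ ρ h (e q) = e q by
        rw [he, e.injective.eq_iff, Prod.ext_iff])))).symm
  have hcard : Nat.card M = Nat.card U * Nat.card W := by
    rw [← Nat.card_prod]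
    exact Nat.card_congr e.toEquiv.symm
  refine ⟨⟨hη.nonempty.some, hη'.nonempty.some⟩, fun q => (hη.intMod _).mul (hη'.intMod _),
    fun q h => ?_, fun q => by simp [hη.one, hη'.one], fun q h ⟨x, hx⟩ => ?_, fun σ => ?_⟩
  · rw [hfix, hcard, Pi.mul_apply, norm_mul, Nat.cast_mul, Nat.cast_mul, ← hη.normSq q.1 h,
      ← hη'.normSq q.2 h]
    ring
  · obtain ⟨⟨a, b⟩, rfl⟩ := e.surjective x
    rw [he, Ne, e.injective.eq_iff, Prod.ext_iff, not_and_or] at hx
    rcases hx with hx | hx
    · obtain ⟨ω, hω, hωe⟩ := hη.cong q.1 h ⟨a, hx⟩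
      exact ⟨ω * η' q.2 h, hω.mul ((hη'.intMod _).isIntegral h), by
        rw [Pi.mul_apply, hωe, mul_assoc]⟩
    · obtain ⟨ω, hω, hωe⟩ := hη'.cong q.2 h ⟨b, hx⟩
      exact ⟨η q.1 h * ω, ((hη.intMod _).isIntegral h).mul hω, by
        rw [Pi.mul_apply, hωe, mul_left_comm]⟩
  · obtain ⟨π, hπ⟩ := hη.gal σ
    obtain ⟨π', hπ'⟩ := hη'.gal σ
    exact ⟨π.prodCongr π', fun q h => by simp [hπ, hπ']⟩

end Cfsg.Agent.H45
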