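import Cfsg.Agent.H45.Galois
import Cfsg.Agent.H26.CharOrtho
import Mathlib.FieldTheory.Galois.Infinite

/-!
# Fields of values

An algebraic number fixed by all automorphisms of `ℂ` fixing an algebraic subfield lies in it; the
automorphisms fixing the field of values at `g` are those with exponent `k` such that `g ^ k` is
conjugate to `g`.
-/

set_option autoImplicit false

open scoped ComplexConjugate

namespace Cfsg.Agent.H45

/-- An algebraic number fixed by all automorphisms fixing an algebraic field lies in the field. -/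
theorem mem_of_forall_ringAut_fix (A : IntermediateField ℚ ℂ) (hA : ∀ a ∈ A, IsIntegral ℚ a) {z : ℂ}
    (hz : IsIntegral ℚ z) (h : ∀ σ : ℂ ≃+* ℂ, (∀ a ∈ A, σ a = a) → σ z = z) : z ∈ A := by
  haveI : IsAlgClosure ℚ (algebraicClosure ℚ ℂ) := algebraicClosure.isAlgClosure ℚ ℂ
  haveI : Normal ℚ (algebraicClosure ℚ ℂ) := IsAlgClosure.normal ℚ _
  haveI : Algebra.IsAlgebraic ℚ (algebraicClosure ℚ ℂ) := IsAlgClosure.isAlgebraic
  haveI : Algebra.IsSeparable ℚ (algebraicClosure ℚ ℂ) := inferInstance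
  haveI : IsGalois ℚ (algebraicClosure ℚ ℂ) := ⟨⟩
  let A' : IntermediateField ℚ (algebraicClosure ℚ ℂ) := A.comap (algebraicClosure ℚ ℂ).val
  let z' : algebraicClosure ℚ ℂ := ⟨z, mem_algebraicClosure_iff.2 hz.isAlgebraic⟩
  suffices hz' : z' ∈ A' from hz'
  rw [← InfiniteGalois.fixedField_fixingSubgroup A', IntermediateField.mem_fixedField_iff]
  intro τ hτ
  obtain ⟨σ, hσ⟩ := exists_ringAut_extends τ.toRingEquiv
  apply Subtype.ext
  rw [show ((τ z' : algebraicClosure ℚ ℂ) : ℂ) = σ z from (hσ z').symm]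
  refine h σ fun a ha => ?_
  let a' : algebraicClosure ℚ ℂ := ⟨a, mem_algebraicClosure_iff.2 (hA a ha).isAlgebraic⟩
  have h1 : τ a' = a' := (IntermediateField.mem_fixingSubgroup_iff A' τ).1 hτ a' ha
  exact (hσ a').trans (congrArg Subtype.val h1)

/-- An automorphism fixing the generators fixes the generated field. -/
theorem ringAut_fix_adjoin (S : Set ℂ) (σ : ℂ ≃+* ℂ) (h : ∀ s ∈ S, σ s = s) :
    ∀ a ∈ IntermediateField.adjoin ℚ S, σ a = a := by
  intro a ha
  induction ha using IntermediateField.adjoin_induction with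
  | mem x hx => exact h x hx
  | algebraMap q => exact map_ratCast σ q
  | add x y _ _ hx hy => rw [map_add, hx, hy]
  | inv x _ hx => rw [map_inv₀, hx]
  | mul x y _ _ hx hy => rw [map_mul, hx, hy]

/-- A generated field of algebraic numbers is determined by the automorphisms fixing it. -/
theorem adjoin_le_of_fix (S T : Set ℂ) (hS : ∀ s ∈ S, IsIntegral ℚ s) (hT : ∀ t ∈ T, IsIntegral ℚ t)
    (h : ∀ σ : ℂ ≃+* ℂ, (∀ s ∈ S, σ s = s) → ∀ t ∈ T, σ t = t) :
    IntermediateField.adjoin ℚ T ≤ IntermediateField.adjoin ℚ S := by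
  rw [IntermediateField.adjoin_le_iff]
  intro t ht
  refine mem_of_forall_ringAut_fix _ (fun a ha => ?_) (hT t ht) fun σ hσ =>
    h σ (fun s hs => hσ s (IntermediateField.subset_adjoin ℚ S hs)) t ht
  have hle : IntermediateField.adjoin ℚ S ≤ algebraicClosure ℚ ℂ :=
    IntermediateField.adjoin_le_iff.2 fun s hs => mem_algebraicClosure_iff.2 (hS s hs).isAlgebraic
  exact (mem_algebraicClosure_iff.1 (hle ha)).isIntegral

variable {G : Type*} [Group G] [Finite G]

/-- Characters separate the classes. -/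
theorem isConj_of_forall_irr {g h : G}
    (e : ∀ χ : Cfsg.IrrCharacter G, (χ : G → ℂ) g = (χ : G → ℂ) h) : IsConj g h := by
  classical
  have : Fintype G := Fintype.ofFinite G
  by_contra hc
  have h1 := H26.column_orthogonality g h
  have h2 := H26.column_orthogonality h h
  simp only [e] at h1
  rw [h2, H26.classIndicator, if_pos (IsConj.refl h), H26.classIndicator, if_neg hc, mul_one,
    mul_zero, Nat.cast_eq_zero] at h1
  exact Nat.card_pos.ne' h1

/-- The automorphisms fixing the field of values at `g`. -/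
theorem fix_values_iff (σ : ℂ ≃+* ℂ) {k : ℕ} (hσ : ∀ z : ℂ, z ^ Nat.card G = 1 → σ z = z ^ k)
    (g : G) :
    (∀ s ∈ {z : ℂ | ∃ χ : Cfsg.IrrCharacter G, (χ : G → ℂ) g = z}, σ s = s) ↔
      IsConj (g ^ k) g := by
  constructor
  · intro h
    refine isConj_of_forall_irr fun χ => ?_
    rw [← ringAut_char (H26.irr_isCharacter χ) σ hσ g]
    exact h _ ⟨χ, rfl⟩
  · rintro h s ⟨χ, rfl⟩
    rw [ringAut_char (H26.irr_isCharacter χ) σ hσ g]
    obtain ⟨c, hc⟩ := isConj_iff.1 h
    conv_rhs => rw [← hc, H26.irr_conj]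

end Cfsg.Agent.H45
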