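import Cfsg.Agent.H45.Galois
import Cfsg.Agent.H43.DetChar
import Cfsg.Agent.H43.Constituents
import Cfsg.Agent.H40.PPart
import Cfsg.Agent.H42.DefectValues
import Cfsg.Agent.H42.BlockSpan
import Cfsg.Agent.H42.PrincipalCover

/-!
# The Galois action fixing the roots of unity of order prime to `p`

An exponent `k` acting as `1 + p` on the `p`-elements and as `1` on the `p`-regular elements gives
a permutation of `p`-power order of the irreducible characters, preserving degrees, determinantal
orders and blocks.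
-/

set_option autoImplicit false

namespace Cfsg.Agent.H45

open Cfsg (IrrCharacter)

variable {G : Type*} [Group G] {p k : ℕ} [hp : Fact p.Prime]

/-- `g ↦ g ^ k` is the map `g ↦ g ^ (1 + p)` on `p`-elements and the identity on the others. -/
structure GalExp (G : Type*) [Group G] (p k : ℕ) : Prop where
  sing : ∀ g : G, (∃ j : ℕ, orderOf g = p ^ j) → g ^ k = g ^ (1 + p)
  reg : ∀ g : G, ¬ p ∣ orderOf g → g ^ k = g

omit hp in
/-- The property passes to subgroups. -/
theorem GalExp.subgroup (hk : GalExp G p k) (H : Subgroup G) : GalExp H p k where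
  sing g h := by
    refine Subtype.ext ?_
    push_cast
    exact hk.sing g (by rwa [Subgroup.orderOf_coe])
  reg g h := by
    refine Subtype.ext ?_
    push_cast
    exact hk.reg g (by rwa [Subgroup.orderOf_coe])

variable [Finite G]

/-- The exponent is prime to the group order. -/
theorem GalExp.coprime (hk : GalExp G p k) : k.Coprime (Nat.card G) := by
  refine Nat.coprime_of_dvd fun q hq hqk hqG => ?_
  have : Fact q.Prime := ⟨hq⟩
  obtain ⟨g, hg⟩ := exists_prime_orderOf_dvd_card' q hqG
  have h1 : g ^ k = 1 := orderOf_dvd_iff_pow_eq_one.1 (hg ▸ hqk)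
  by_cases hqp : q = p
  · rw [hk.sing g ⟨1, by rw [hg, pow_one, hqp]⟩, ← orderOf_dvd_iff_pow_eq_one, hg, hqp] at h1
    exact hp.out.not_dvd_one ((Nat.dvd_add_left dvd_rfl).1 h1)
  · rw [hk.reg g (hg ▸ fun h => hqp ((Nat.prime_dvd_prime_iff_eq hp.out hq).1 h).symm)] at h1
    rw [h1, orderOf_one] at hg
    exact hq.one_lt.ne hg

/-- A `p`-power iterate of the power map is trivial. -/
theorem GalExp.period (hk : GalExp G p k) (g : G) :
    g ^ k ^ p ^ (Nat.card G).factorization p = g := by
  obtain ⟨x, y, rfl, hc, ⟨j, hj⟩, hy⟩ := H40.exists_isPPart p g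
  rw [hc.mul_pow]
  set a := (Nat.card G).factorization p
  have hy' : ∀ n : ℕ, y ^ k ^ n = y := by
    intro n
    induction n with
    | zero => simp
    | succ n ih => rw [pow_succ, pow_mul, ih, hk.reg y hy]
  have hx : ∀ n : ℕ, x ^ k ^ n = x ^ (1 + p) ^ n := by
    intro n
    induction n with
    | zero => simp
    | succ n ih =>
      rw [pow_succ, pow_mul, ih, ← pow_mul, mul_comm, pow_mul, hk.sing x ⟨j, hj⟩, ← pow_mul,
        mul_comm, ← pow_succ]
  rw [hy', hx]
  congr 1
  conv_rhs => rw [← pow_one x]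
  refine pow_eq_pow_iff_modEq.2 ?_
  rw [hj]
  have hja : j ≤ a := (hp.out.pow_dvd_iff_le_factorization Nat.card_pos.ne').1
    (hj ▸ orderOf_dvd_natCard x)
  have h : ((p : ℤ) ^ (a + 1)) ∣ ((1 + p : ℤ) ^ p ^ a - 1 ^ p ^ a) :=
    dvd_sub_pow_of_dvd_sub (by simp) a
  rw [one_pow] at h
  refine (Nat.modEq_iff_dvd.2 ?_)
  push_cast
  have h2 := (pow_dvd_pow (p : ℤ) (by omega : j ≤ a + 1)).trans h
  rwa [← neg_sub, dvd_neg]

/-- The permutation of the irreducible characters. -/
noncomputable def galPerm (hk : k.Coprime (Nat.card G)) : Equiv.Perm (IrrCharacter G) :=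
  Equiv.ofBijective (galIrr hk) (Finite.injective_iff_bijective.1 (galIrr_injective hk))

omit hp in
theorem galPerm_pow_apply (hk : k.Coprime (Nat.card G)) (n : ℕ) (χ : IrrCharacter G) (g : G) :
    ((galPerm hk ^ n) χ).1 g = χ.1 (g ^ k ^ n) := by
  induction n generalizing χ with
  | zero => simp
  | succ n ih =>
    rw [pow_succ, Equiv.Perm.mul_apply, ih]
    show χ.1 ((g ^ k ^ n) ^ k) = _
    rw [← pow_mul, ← pow_succ]

/-- The permutation generates a `p`-group. -/
theorem GalExp.isPGroup_zpowers (hk : GalExp G p k) :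
    IsPGroup p (Subgroup.zpowers (galPerm hk.coprime)) := by
  have h : galPerm hk.coprime ^ p ^ (Nat.card G).factorization p = 1 :=
    Equiv.ext fun χ => Subtype.ext (funext fun g => by
      rw [galPerm_pow_apply, hk.period, Equiv.Perm.one_apply])
  rintro ⟨x, hx⟩
  obtain ⟨i, rfl⟩ := Subgroup.mem_zpowers_iff.1 hx
  refine ⟨(Nat.card G).factorization p, Subtype.ext ?_⟩
  show (galPerm hk.coprime ^ i) ^ p ^ (Nat.card G).factorization p = 1
  rw [← zpow_natCast, ← zpow_mul, mul_comm, zpow_mul, zpow_natCast, h, one_zpow]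

omit hp in
theorem charDegree_galIrr (hk : k.Coprime (Nat.card G)) (χ : IrrCharacter G) :
    Cfsg.charDegree (galIrr hk χ : G → ℂ) = Cfsg.charDegree (χ : G → ℂ) := by
  show ⌊(χ.1 (1 ^ k)).re⌋₊ = ⌊(χ.1 1).re⌋₊
  rw [one_pow]

/-- Conjugates have the same values on regular elements, so lie in the same block. -/
theorem GalExp.galIrr_mem {M : Ideal Cfsg.AlgInt} (hk : GalExp G p k) (hM : Cfsg.IsPModular p M)
    {B : Set (IrrCharacter G)} (hB : Cfsg.IsPBlock M B) {χ : IrrCharacter G} (hχ : χ ∈ B) :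
    galIrr hk.coprime χ ∈ B := by
  have := hM.2.1
  exact H42.mem_of_eq_on_regular hM hB hχ fun x hx => by
    show χ.1 (x ^ k) = χ.1 x
    rw [hk.reg x hx]

omit hp in
/-- A field automorphism preserves the determinantal order. -/
theorem detOrder_ringAut {χ : G → ℂ} (hχ : Cfsg.IsCharacter G χ) (σ : ℂ ≃+* ℂ) :
    Cfsg.detOrder (fun g => σ (χ g)) = Cfsg.detOrder χ := by
  obtain ⟨n, ρ, rfl⟩ := hχ
  let A : G →* Matrix (Fin n) (Fin n) ℂ :=
    { toFun := fun g => (LinearMap.toMatrix' (ρ g)).map σ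
      map_one' := by
        rw [map_one, Module.End.one_eq_id, LinearMap.toMatrix'_id]
        exact Matrix.map_one _ (map_zero σ) (map_one σ)
      map_mul' := fun g h => by
        rw [map_mul, LinearMap.toMatrix'_mul]
        exact Matrix.map_mul (f := σ) }
  let ρ' : Representation ℂ G (Fin n → ℂ) := Matrix.toLinAlgEquiv'.toMonoidHom.comp A
  have hc : ρ'.character = fun g => σ (ρ.character g) := funext fun g => by
    show LinearMap.trace ℂ _ (Matrix.toLin' (A g)) = σ (LinearMap.trace ℂ _ (ρ g))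
    rw [LinearMap.trace_eq_matrix_trace ℂ (Pi.basisFun ℂ (Fin n)),
      LinearMap.trace_eq_matrix_trace ℂ (Pi.basisFun ℂ (Fin n)), LinearMap.toMatrix_eq_toMatrix',
      LinearMap.toMatrix'_toLin']
    exact (AddMonoidHom.map_trace σ.toAddMonoidHom _).symm
  rw [← hc, H43.detOrder_eq, H43.detOrder_eq]
  have hd : ∀ g, (H43.detHom ρ' g : ℂ) = σ (H43.detHom ρ g : ℂ) := fun g => by
    rw [H43.detHom_coe, H43.detHom_coe]
    show LinearMap.det (Matrix.toLin' (A g)) = σ (LinearMap.det (ρ g))
    rw [LinearMap.det_toLin', ← LinearMap.det_toMatrix' (ρ g)]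
    exact (RingHom.map_det σ.toRingHom _).symm
  have hpow : ∀ m : ℕ, H43.detHom ρ' ^ m = 1 ↔ H43.detHom ρ ^ m = 1 := fun m => by
    simp only [MonoidHom.ext_iff, MonoidHom.pow_apply, MonoidHom.one_apply, Units.ext_iff,
      Units.val_pow_eq_pow_val, Units.val_one, hd, ← map_pow, map_eq_one_iff σ σ.injective]
  exact Nat.dvd_antisymm (orderOf_dvd_of_pow_eq_one ((hpow _).2 (pow_orderOf_eq_one _)))
    (orderOf_dvd_of_pow_eq_one ((hpow _).1 (pow_orderOf_eq_one _)))

omit hp in
/-- Galois conjugation preserves the determinantal order. -/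
theorem detOrder_galIrr (hk : k.Coprime (Nat.card G)) (χ : IrrCharacter G) :
    Cfsg.detOrder (galIrr hk χ).1 = Cfsg.detOrder χ.1 := by
  obtain ⟨σ, hσ⟩ := exists_ringAut_pow (Nat.card_pos (α := G)).ne' hk
  have hc := H26.irr_isCharacter χ
  rw [← detOrder_ringAut hc σ]
  congr 1
  funext g
  exact (ringAut_char hc σ hσ g).symm

open scoped Classical in
/-- A `p`-group acting on the irreducible characters, fixing the trivial one and preserving the
principal block and the degrees, fixes another member of the principal block of degree prime to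
`p`, if `p` divides the group order. -/
theorem exists_fixed_pPrime {M : Ideal Cfsg.AlgInt} (hM : Cfsg.IsPModular p M)
    (hpG : p ∣ Nat.card G) {Q : Type*} [Group Q] [MulAction Q (IrrCharacter G)]
    (hQ : IsPGroup p Q)
    (hone : ∀ q : Q, q • H26.oneIrr G = H26.oneIrr G)
    (hB : ∀ (q : Q) (η : IrrCharacter G), η ∈ Cfsg.principalBlock M G →
      q • η ∈ Cfsg.principalBlock M G)
    (hdeg : ∀ (q : Q) (η : IrrCharacter G),
      Cfsg.charDegree (q • η : IrrCharacter G).1 = Cfsg.charDegree η.1) :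
    ∃ θ ∈ Cfsg.principalBlock M G, θ ≠ H26.oneIrr G ∧ ¬ p ∣ Cfsg.charDegree (θ : G → ℂ) ∧
      ∀ q : Q, q • θ = θ := by
  classical
  have := hM.2.1
  have : Fintype G := Fintype.ofFinite G
  by_contra hno
  push Not at hno
  have hB0 := H26.isPBlock_principalBlock (M := M) G
  have h1 := H26.oneIrr_mem_principalBlock (M := M) G
  have hd1 : Cfsg.charDegree ((H26.oneIrr G : IrrCharacter G) : G → ℂ) = 1 :=
    H42.charDegree_of_eq_nat (by rw [H26.oneIrr_val, Nat.cast_one])
  let f : IrrCharacter G → ZMod p := fun η =>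
    if η ∈ Cfsg.principalBlock M G then ((Cfsg.charDegree (η : G → ℂ) : ZMod p)) ^ 2 else 0
  have htot : ∑ η, f η = 0 := by
    have hdef : Cfsg.blockDefect p (Cfsg.principalBlock M G) = (Nat.card G).factorization p := by
      have h0 : (0 : ℕ) ∈ (fun χ : IrrCharacter G =>
          (Cfsg.charDegree (χ : G → ℂ)).factorization p) '' Cfsg.principalBlock M G :=
        ⟨H26.oneIrr G, h1, by simp [hd1]⟩
      rw [Cfsg.blockDefect, Nat.sInf_eq_zero.2 (Or.inl h0), Nat.sub_zero]
    have hf := H42.factorization_sum_sq_degree hM hB0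
    rw [hdef] at hf
    have ha := Nat.Prime.factorization_pos_of_dvd hp.out Nat.card_pos.ne' hpG
    have hdvd : p ∣ ∑ χ ∈ H42.blockFinset (Cfsg.principalBlock M G),
        Cfsg.charDegree (χ : G → ℂ) ^ 2 := Nat.dvd_of_factorization_pos (by omega)
    have h := (ZMod.natCast_eq_zero_iff _ p).2 hdvd
    push_cast at h
    rw [← h]
    simp only [f]
    rw [← Finset.sum_filter]
    refine Finset.sum_congr (Finset.ext fun χ => ?_) fun _ _ => rfl
    simp
  rw [H40.sum_eq_sum_fixedPoints hQ (fun m => by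
    rw [nsmul_eq_mul, ZMod.natCast_self, zero_mul]) f (fun q η => ?_),
    Finset.sum_eq_single (H26.oneIrr G)] at htot
  · simp [f, if_pos h1, hd1] at htot
  · intro η hη hne
    simp only [f]
    by_cases hm : η ∈ Cfsg.principalBlock M G
    · rw [if_pos hm]
      by_cases hd : p ∣ Cfsg.charDegree (η : G → ℂ)
      · rw [(ZMod.natCast_eq_zero_iff _ p).2 hd, zero_pow two_ne_zero]
      · obtain ⟨q, hq⟩ := hno η hm hne hd
        exact absurd ((Finset.mem_filter.1 hη).2 q) hq
    · rw [if_neg hm]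
  · intro h
    exact absurd (Finset.mem_filter.2 ⟨Finset.mem_univ _, hone⟩) h
  · have hiff : q • η ∈ Cfsg.principalBlock M G ↔ η ∈ Cfsg.principalBlock M G :=
      ⟨fun h => by simpa using hB q⁻¹ _ h, hB q η⟩
    simp only [f, hdeg, hiff]

end Cfsg.Agent.H45
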