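import Cfsg.Agent.H45.GaloisExp
import Cfsg.Agent.H42.SameDegree
import Cfsg.Agent.H43.CoprimeRestrict
import Mathlib.GroupTheory.NoncommCoprod

/-!
# Galois-fixed characters of degree prime to `p` in the principal block

Thompson's theorem on normal `p`-complements, for the members of the principal block fixed by the
field automorphism raising the `p`-power roots of unity to the power `1 + p`.
-/

set_option autoImplicit false
set_option maxHeartbeats 1000000

open scoped ComplexConjugate commutatorElement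

namespace Cfsg.Agent.H45

open Cfsg (IrrCharacter)
open H41 (localRing res)
open H43 (irrConj restrMult)

universe u

variable {G : Type u} [Group G] [Fintype G] {p k : ℕ} [hp : Fact p.Prime]
  {M : Ideal Cfsg.AlgInt}

/-- A function invariant under a permutation is invariant under its powers. -/
theorem zpowers_invariant {α β : Type*} {σ : Equiv.Perm α} (f : α → β)
    (h : ∀ x, f (σ x) = f x) {τ : Equiv.Perm α} (hτ : τ ∈ Subgroup.zpowers σ) (x : α) :
    f (τ x) = f x := by
  let S : Subgroup (Equiv.Perm α) :=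
    { carrier := {τ | ∀ x, f (τ x) = f x}
      one_mem' := fun _ => rfl
      mul_mem' := fun {a b} ha hb x => by rw [Equiv.Perm.mul_apply, ha, hb]
      inv_mem' := fun {a} ha x => by
        conv_rhs => rw [← Equiv.apply_symm_apply a x, ha]
        rfl }
  exact (Subgroup.zpowers_le.2 (show σ ∈ S from h)) hτ x

open scoped Classical in
/-- An invariant weight on a stable set of characters, of sum prime to `p`, lives on a fixed one. -/
theorem exists_fixed_of_weight (hk : GalExp G p k) {B : Set (IrrCharacter G)}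
    {m : IrrCharacter G → ℕ} (hmem : ∀ χ, galIrr hk.coprime χ ∈ B ↔ χ ∈ B)
    (hmσ : ∀ χ, m (galIrr hk.coprime χ) = m χ)
    (hnp : ¬ p ∣ ∑ χ ∈ Finset.univ.filter (· ∈ B), m χ * Cfsg.charDegree (χ : G → ℂ))
    {Q : IrrCharacter G → Prop} (hQ : ∀ χ, m χ ≠ 0 → Q χ) :
    ∃ χ ∈ B, ¬ p ∣ Cfsg.charDegree (χ : G → ℂ) ∧ (∀ g : G, χ.1 (g ^ k) = χ.1 g) ∧ Q χ := by
  set w : IrrCharacter G → ZMod p := fun χ =>
    ((m χ * Cfsg.charDegree (χ : G → ℂ) : ℕ) : ZMod p) with hw
  set f : IrrCharacter G → ZMod p := fun χ => if χ ∈ B then w χ else 0 with hf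
  have htot : ∑ χ, f χ ≠ 0 := by
    intro h0
    refine hnp ((ZMod.natCast_eq_zero_iff _ p).1 ?_)
    rw [Nat.cast_sum, Finset.sum_filter]
    exact h0
  have hstep : ∀ χ, f (galPerm hk.coprime χ) = f χ := fun χ => by
    show (if galIrr hk.coprime χ ∈ B then w (galIrr hk.coprime χ) else 0) = f χ
    rw [hf]
    simp only [hmem χ, hw, charDegree_galIrr, hmσ]
  rw [H40.sum_eq_sum_fixedPoints hk.isPGroup_zpowers (fun z => by
    rw [nsmul_eq_mul, ZMod.natCast_self, zero_mul]) f
      (fun q χ => zpowers_invariant f hstep q.2 χ)] at htot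
  obtain ⟨χ, hχ, hfχ⟩ := Finset.exists_ne_zero_of_sum_ne_zero htot
  have hB' : χ ∈ B := by
    by_contra h
    exact hfχ (if_neg h)
  have hw0 : ¬ p ∣ m χ * Cfsg.charDegree (χ : G → ℂ) := fun h =>
    hfχ ((if_pos hB').trans ((ZMod.natCast_eq_zero_iff _ p).2 h))
  refine ⟨χ, hB', fun h => hw0 (h.mul_left _), fun g => ?_, hQ χ fun h => hw0 ?_⟩
  · have h := (Finset.mem_filter.1 hχ).2 ⟨galPerm hk.coprime, Subgroup.mem_zpowers _⟩
    exact congrArg (fun η : IrrCharacter G => η.1 g) h
  · rw [h, zero_mul]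
    exact dvd_zero p

/-- Over a fixed member of the principal block of a normal subgroup containing a Sylow subgroup
lies a fixed member of the principal block, both of degree prime to `p`. -/
theorem exists_fixed_over (hM : Cfsg.IsPModular p M) (hk : GalExp G p k) {H : Subgroup G}
    [Fintype H] (P : Sylow p G) (hPH : (P : Subgroup G) ≤ H) {θ : IrrCharacter H}
    (hθ : θ ∈ Cfsg.principalBlock M H) (hdeg : ¬ p ∣ Cfsg.charDegree (θ : H → ℂ))
    (hfix : ∀ n : H, θ.1 (n ^ k) = θ.1 n) :
    ∃ χ ∈ Cfsg.principalBlock M G, ¬ p ∣ Cfsg.charDegree (χ : G → ℂ) ∧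
      (∀ g : G, χ.1 (g ^ k) = χ.1 g) ∧ H43.mult (fun h : H => χ.1 h) θ ≠ 0 := by
  classical
  have := hM.2.1
  have := H41.IsPModular.charP hM
  let η : IrrCharacter H := θ
  have hη : η ∈ Cfsg.principalBlock M H := hθ
  set B := Cfsg.principalBlock M G
  have hB : Cfsg.IsPBlock M B := H41.isPBlock_principalBlock
  set Φ := Cfsg.indFun H η.1 with hΦ
  have hΦc : Cfsg.IsCharacter G Φ := H25.isCharacter_indFun H (H26.irr_isCharacter η)
  -- the block part of the induced character
  set F : H → ℂ := fun h => Cfsg.blockCoeff B h with hF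
  have hFc : Cfsg.IsClassFunction H F := fun a b => H40.blockCoeff_conj B (a : G) (b : G)
  have hint : ∀ h : H, Cfsg.MemLocalRing M (F h) := fun h =>
    H41.mem_localRing.1 (H41.blockCoeff_mem hB h)
  have hcongr := H26.omegaFun_congr (χ := H26.oneIrr H) (ψ := η) hFc hint hη
  have hone : H26.omegaFun (H26.oneIrr H) F = ∑ h : H, Cfsg.blockCoeff B h := by
    simp [H26.omegaFun, H26.oneIrr_val, hF]
  rw [hone] at hcongr
  have hSint : (∑ h : H, Cfsg.blockCoeff B h) ∈ localRing M :=
    sum_mem fun h _ => H41.blockCoeff_mem hB h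
  obtain ⟨hd1, hd2⟩ := H41.memLocalIdeal_iff_res.1 hcongr
  set z := H26.omegaFun η F with hz
  have hzR : z ∈ localRing M := by
    have := sub_mem hSint hd1
    simpa using this
  have hzI : ¬ Cfsg.MemLocalIdeal M z := by
    intro h
    obtain ⟨h3, h4⟩ := H41.memLocalIdeal_iff_res.1 h
    refine H42.not_memLocalIdeal_sum_blockCoeff hM P H hPH
      (H41.memLocalIdeal_iff_res.2 ⟨hSint, ?_⟩)
    have := congrArg₂ (· + ·) hd2 h4
    simp only [← map_add, add_zero] at this
    rw [← this]
    exact congrArg _ (Subtype.ext (by push_cast; ring))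
  choose m hm using fun χ : IrrCharacter G => H26.exists_nat_classInner_irr hΦc χ
  set n := ∑ χ ∈ Finset.univ.filter (· ∈ B), m χ * Cfsg.charDegree (χ : G → ℂ) with hn
  have hblock : Cfsg.blockPart B Φ 1 = (n : ℂ) := by
    simp only [Cfsg.blockPart]
    rw [finsum_mem_eq_finite_toFinset_sum _ (Set.toFinite _), hn]
    push_cast
    refine Finset.sum_congr (by ext; simp) fun χ _ => ?_
    rw [H42.irr_one_eq, ← hm]
    congr 2
    exact Subsingleton.elim _ _
  have hval : Cfsg.blockPart B Φ 1 =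
      ((H.index * Cfsg.charDegree (η : H → ℂ) : ℕ) : ℂ) * z := by
    have hcl : Cfsg.IsClassFunction G fun x => conj (Cfsg.blockCoeff B x) :=
      fun x y => congrArg _ (H40.blockCoeff_conj B x y)
    have h := H25.classInner_indFun_left H η.1 _ hcl
    simp only [Cfsg.classInner, Complex.conj_conj] at h
    rw [inv_mul_eq_iff_eq_mul₀ (Nat.cast_ne_zero.2 Nat.card_pos.ne')] at h
    rw [H42.blockPart_one_eq_sum, hΦ, h, ← H.card_mul_index, Nat.cast_mul, Nat.cast_mul, hz,
      H26.omegaFun, ← H42.irr_one_eq η]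
    have hH0 : (Nat.card H : ℂ) ≠ 0 := Nat.cast_ne_zero.2 Nat.card_pos.ne'
    have h1 : η.1 1 ≠ 0 := H26.irr_one_ne_zero η
    simp only [hF, mul_comm (Cfsg.blockCoeff B _)]
    field_simp
  rw [hblock] at hval
  -- `n` is prime to `p`
  have hidx : ¬ p ∣ H.index := fun h => P.not_dvd_index
    (h.trans (Subgroup.index_dvd_of_le hPH))
  have hη1 : Cfsg.charDegree (η : H → ℂ) = Cfsg.charDegree (θ : H → ℂ) := rfl
  have hnp : ¬ p ∣ n := by
    intro hd
    refine hzI (H41.memLocalIdeal_iff_res.2 ⟨hzR, ?_⟩)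
    have e1 : ((n : ℕ) : localRing M) =
        ((H.index * Cfsg.charDegree (η : H → ℂ) : ℕ) : localRing M) * ⟨z, hzR⟩ := by
      apply Subtype.ext
      push_cast
      exact_mod_cast hval
    have e2 := congrArg (res M) e1
    rw [map_mul, map_natCast, map_natCast, (H41.IsPModular.natCast_eq_zero_iff hM n).2 hd] at e2
    refine (mul_eq_zero.1 e2.symm).resolve_left fun h0 => ?_
    rw [H41.IsPModular.natCast_eq_zero_iff hM, hp.out.dvd_mul, hη1] at h0
    tauto
  have hm' : ∀ χ : IrrCharacter G, H43.mult (fun h : H => χ.1 h) θ = m χ := fun χ => by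
    refine H43.mult_eq_of_classInner ?_
    have h := hm χ
    rw [hΦ, H25.classInner_indFun_left H η.1 χ.1 (H26.irr_isClassFunction χ)] at h
    rw [H26.classInner_comm, h, Complex.conj_natCast]
  have hmσ : ∀ χ, m (galIrr hk.coprime χ) = m χ := fun χ => by
    have hkH := (hk.subgroup H).coprime
    apply Nat.cast_injective (R := ℂ)
    have hc : ∀ ψ : IrrCharacter G, Cfsg.IsCharacter H (fun h : H => ψ.1 h) := fun ψ =>
      H26.isCharacter_comp (H26.irr_isCharacter ψ) H.subtype
    rw [← hm' χ, ← hm', ← H43.classInner_eq_mult (hc _), ← H43.classInner_eq_mult (hc χ),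
      Cfsg.classInner, Cfsg.classInner]
    congr 1
    refine Fintype.sum_bijective _ (powCoprime_bijective hkH) _ _ fun n => ?_
    show χ.1 ((n : G) ^ k) * conj (θ.1 n) = χ.1 ((n ^ k : H) : G) * conj (θ.1 (n ^ k))
    rw [hfix, Subgroup.coe_pow]
  have hmem : ∀ χ, galIrr hk.coprime χ ∈ B ↔ χ ∈ B := fun χ => by
    refine ⟨fun h => H42.mem_of_eq_on_regular hM hB h fun x hx => ?_, fun h => hk.galIrr_mem hM hB h⟩
    show χ.1 x = χ.1 (x ^ k)
    rw [hk.reg x hx]
  exact exists_fixed_of_weight hk hmem hmσ hnp (fun χ h => by rw [hm']; exact h)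

open scoped Classical in
/-- The residual has a nontrivial invariant fixed member of the principal block, of degree prime
to `p`, if `p` divides its order. -/
theorem exists_fixed_invariant (hM : Cfsg.IsPModular p M) (hk : GalExp G p k) {N : Subgroup G}
    [N.Normal] [Fintype N] (P : Sylow p G) (hNP : N ⊔ (P : Subgroup G) = ⊤)
    (hpN : p ∣ Nat.card N) :
    ∃ θ ∈ Cfsg.principalBlock M N, θ ≠ H26.oneIrr N ∧ ¬ p ∣ Cfsg.charDegree (θ : N → ℂ) ∧
      (∀ x : G, irrConj N x θ = θ) ∧ ∀ n : N, θ.1 (n ^ k) = θ.1 n := by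
  have := hM.2.1
  have hkN := hk.subgroup N
  have hid : ∀ η : IrrCharacter N, irrConj N (1 : G) η = η := fun η =>
    Subtype.ext (funext fun n => by rw [H43.irrConj_apply]; simp)
  let cj : (P : Subgroup G) →* Equiv.Perm (IrrCharacter N) :=
    MonoidHom.mk' (fun x =>
      { toFun := irrConj N (x : G)⁻¹
        invFun := irrConj N (x : G)
        left_inv := fun η => by rw [H43.irrConj_irrConj, inv_mul_cancel, hid]
        right_inv := fun η => by rw [H43.irrConj_irrConj, mul_inv_cancel, hid] })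
      fun x y => Equiv.ext fun η => by
        show irrConj N ((x * y : (P : Subgroup G)) : G)⁻¹ η =
          irrConj N (x : G)⁻¹ (irrConj N (y : G)⁻¹ η)
        rw [H43.irrConj_irrConj, Subgroup.coe_mul, mul_inv_rev]
  set Γ := Subgroup.zpowers (galPerm hkN.coprime)
  have hcomm : ∀ (x : (P : Subgroup G)) (τ : Γ), Commute (cj x) (Γ.subtype τ) := by
    rintro x ⟨τ, hτ⟩
    obtain ⟨i, rfl⟩ := Subgroup.mem_zpowers_iff.1 hτ
    refine Commute.zpow_right (Equiv.ext fun η => Subtype.ext (funext fun n => ?_)) i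
    show η.1 ((MulAut.conjNormal (x : G)⁻¹ n) ^ k) = η.1 (MulAut.conjNormal (x : G)⁻¹ (n ^ k))
    rw [map_pow]
  let act : MulAction (Prod ↥(P : Subgroup G) ↥Γ) (IrrCharacter N) :=
    MulAction.compHom _ (cj.noncommCoprod Γ.subtype hcomm)
  have hsmul : ∀ (q : Prod ↥(P : Subgroup G) ↥Γ) (η : IrrCharacter N),
      q • η = irrConj N (q.1 : G)⁻¹ ((q.2 : Equiv.Perm (IrrCharacter N)) η) := fun q η => rfl
  have hQ : IsPGroup p (Prod ↥(P : Subgroup G) ↥Γ) := by
    obtain ⟨a, ha⟩ := IsPGroup.iff_card.1 P.2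
    obtain ⟨b, hb⟩ := IsPGroup.iff_card.1 hkN.isPGroup_zpowers
    exact IsPGroup.iff_card.2 ⟨a + b, by rw [Nat.card_prod, ha, hb, pow_add]⟩
  have hgone : galIrr hkN.coprime (H26.oneIrr N) = H26.oneIrr N :=
    Subtype.ext (funext fun n => by
      show (H26.oneIrr N).1 (n ^ k) = _
      rw [H26.oneIrr_val, H26.oneIrr_val])
  have hB := H26.isPBlock_principalBlock (M := M) N
  have hcj : ∀ (x : G) (η : IrrCharacter N), η ∈ Cfsg.principalBlock M N →
      irrConj N x η ∈ Cfsg.principalBlock M N := by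
    intro x η hη
    have h2 := H26.sameBlock_irrConj (M := M) N x (θ := H26.oneIrr N) (θ' := η) hη
    rw [H42.irrConj_oneIrr] at h2
    exact h2
  obtain ⟨θ, hθ, hne, hd, hfix⟩ := exists_fixed_pPrime (G := N) hM hpN hQ
    (fun q => by
      rw [hsmul]
      have h := zpowers_invariant (fun η : IrrCharacter N => decide (η = H26.oneIrr N))
        (fun η => by
          simp only [decide_eq_decide]
          exact ⟨fun h => galIrr_injective hkN.coprime (h.trans hgone.symm), fun h => by
            rw [h]; exact hgone⟩) q.2.2 (H26.oneIrr N)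
      simp only [decide_true, decide_eq_true_eq] at h
      rw [h, H42.irrConj_oneIrr])
    (fun q η hη => by
      rw [hsmul]
      refine hcj _ _ ?_
      have h := zpowers_invariant (fun η : IrrCharacter N => decide (η ∈ Cfsg.principalBlock M N))
        (fun η => by
          simp only [decide_eq_decide]
          refine ⟨fun h => H42.mem_of_eq_on_regular hM hB h fun x hx => ?_, hkN.galIrr_mem hM hB⟩
          show η.1 x = η.1 (x ^ k)
          rw [hkN.reg x hx]) q.2.2 η
      simpa [hη] using h)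
    (fun q η => by
      rw [hsmul]
      exact (H43.charDegree_irrCongr _ _).trans
        (zpowers_invariant (fun η : IrrCharacter N => Cfsg.charDegree (η : N → ℂ))
          (fun η => charDegree_galIrr hkN.coprime η) q.2.2 η))
  refine ⟨θ, hθ, hne, hd, ?_, fun n => ?_⟩
  · let S : Subgroup G :=
      { carrier := {g | irrConj N g θ = θ}
        one_mem' := hid θ
        mul_mem' := fun {a b} ha hb => by
          show irrConj N (a * b) θ = θ
          rw [← H43.irrConj_irrConj, show irrConj N a θ = θ from ha]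
          exact hb
        inv_mem' := fun {a} ha => by
          show irrConj N a⁻¹ θ = θ
          conv_lhs => rw [← show irrConj N a θ = θ from ha]
          rw [H43.irrConj_irrConj, mul_inv_cancel, hid] }
    have hle : N ⊔ (P : Subgroup G) ≤ S := by
      refine sup_le (fun n hn => Subtype.ext (funext fun m => ?_)) (fun q hq => ?_)
      · rw [H43.irrConj_apply, show MulAut.conjNormal n m =
          (⟨n, hn⟩ : N) * m * (⟨n, hn⟩ : N)⁻¹ from
          Subtype.ext (by simp [MulAut.conjNormal_apply]), H26.irr_conj]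
      · have h := hfix (⟨q, hq⟩⁻¹, 1)
        rw [hsmul] at h
        show irrConj N q θ = θ
        simpa using h
    exact fun x => hle (hNP ▸ Subgroup.mem_top x)
  · have h := hfix (1, ⟨galPerm hkN.coprime, Subgroup.mem_zpowers _⟩)
    rw [hsmul] at h
    simp only [Subgroup.coe_one, inv_one, hid] at h
    exact congrArg (fun η : IrrCharacter N => η.1 n) h

/-- The extension with the same determinantal order of a fixed character is fixed. -/
theorem ext_fixed (hk : GalExp G p k) {N : Subgroup G} [N.Normal] [Fintype N] {θ : IrrCharacter N}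
    (hfix : ∀ n : N, θ.1 (n ^ k) = θ.1 n) {E : IrrCharacter G} (hE : ∀ n : N, E.1 n = θ.1 n)
    (hd : Nat.Coprime N.index (Cfsg.charDegree θ.1))
    (ho : Nat.Coprime N.index (Cfsg.detOrder E.1)) (g : G) : E.1 (g ^ k) = E.1 g := by
  have h := H43.coprime_ext_unique θ E (galIrr hk.coprime E) hd hE (fun n => by
    show E.1 ((n : G) ^ k) = _
    rw [← Subgroup.coe_pow, hE, hfix]) ho (by rw [detOrder_galIrr]; exact ho)
  exact congrArg (fun η : IrrCharacter G => η.1 g) h

/-- If all fixed members of degree prime to `p` of the principal block are linear, and the group is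
generated by `p`-elements, the residual has order prime to `p`. -/
theorem not_dvd_pResidual_of_fixed_linear (hM : Cfsg.IsPModular p M) (hk : GalExp G p k)
    (hgen : Subgroup.closure {g : G | ∃ j, orderOf g = p ^ j} = ⊤)
    (hlin : ∀ χ ∈ Cfsg.principalBlock M G, ¬ p ∣ Cfsg.charDegree (χ : G → ℂ) →
      (∀ g : G, χ.1 (g ^ k) = χ.1 g) → Cfsg.charDegree (χ : G → ℂ) = 1) :
    ¬ p ∣ Nat.card (Cfsg.pResidual p G) := by
  classical
  intro hpN
  have : (Cfsg.pResidual p G).Normal := H22.pResidual_normal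
  set N := Cfsg.pResidual p G with hN
  have : Fintype N := Fintype.ofFinite N
  obtain ⟨P⟩ : Nonempty (Sylow p G) := inferInstance
  obtain ⟨θ, hθ, hne, hd, hinv, hfix⟩ :=
    exists_fixed_invariant hM hk P (H22.pResidual_sup_sylow P) hpN
  obtain ⟨j, hj⟩ := H22.exists_index_pResidual_eq (G := G) (p := p)
  have hdet : ¬ p ∣ Cfsg.detOrder θ.1 := H43.not_dvd_detOrder H22.pResidual_pResidual_eq_top θ
  have hcp : ∀ {m : ℕ}, ¬ p ∣ m → Nat.Coprime N.index m := fun {m} hm => by
    rw [hj]
    exact Nat.Coprime.pow_left j ((Nat.Prime.coprime_iff_not_dvd hp.out).2 hm)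
  obtain ⟨E, hE, hEo⟩ := H43.exists_coprime_ext θ hinv
    (Nat.Coprime.mul_right (hcp hdet) (hcp hd))
  have hEd : Cfsg.charDegree (E : G → ℂ) = Cfsg.charDegree (θ : N → ℂ) :=
    H42.charDegree_of_eq_nat (by rw [← H42.irr_one_eq θ, ← hE 1, Subgroup.coe_one])
  have hEB : E ∈ Cfsg.principalBlock M G := by
    have h := H42.extension_mem_principalBlock hM ⊤ le_top
      (fun g hg => H41.mem_of_regular_of_index N ⟨j, hj⟩ (by rwa [Subgroup.orderOf_coe])) hθ
      (H43.irrCongr Subgroup.topEquiv E) (fun n => by rw [H43.irrCongr_apply, ← hE]; rfl)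
    exact (H42.sameBlock_irrCongr_iff (M := M) (Subgroup.topEquiv (G := G)) (H26.oneIrr G) E).1 h
  have hEfix := ext_fixed hk hfix hE (hcp hd) (by rw [hEo]; exact hcp hdet)
  obtain ⟨f, hf⟩ := H26.exists_hom_of_isCharacter_one (H26.irr_isCharacter E)
    (by rw [H42.irr_one_eq, hlin E hEB (hEd ▸ hd) hEfix, Nat.cast_one])
  refine hne (Subtype.ext (funext fun n => ?_))
  rw [← hE, ← hf, H42.hom_eq_one_on_pResidual hgen f n.2, Units.val_one, H26.oneIrr_val]

/-- Linear fixed members under a hypothesis pass to a normal subgroup containing a Sylow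
subgroup. -/
theorem fixed_linear_of_over (hM : Cfsg.IsPModular p M) (hk : GalExp G p k) {K : Subgroup G}
    [K.Normal] [Fintype K] (P : Sylow p G) (hPK : (P : Subgroup G) ≤ K)
    (hlin : ∀ χ ∈ Cfsg.principalBlock M G, ¬ p ∣ Cfsg.charDegree (χ : G → ℂ) →
      (∀ g : G, χ.1 (g ^ k) = χ.1 g) → Cfsg.charDegree (χ : G → ℂ) = 1)
    {θ : IrrCharacter K} (hθ : θ ∈ Cfsg.principalBlock M K)
    (hd : ¬ p ∣ Cfsg.charDegree (θ : K → ℂ)) (hfix : ∀ n : K, θ.1 (n ^ k) = θ.1 n) :
    Cfsg.charDegree (θ : K → ℂ) = 1 ∧ ∃ f : G →* ℂˣ, ∀ x : K, (f x : ℂ) = θ.1 x := by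
  classical
  obtain ⟨χ, hχ, hχd, hχf, hover⟩ := exists_fixed_over hM hk P hPK hθ hd hfix
  have h1 := hlin χ hχ hχd hχf
  obtain ⟨f, hf⟩ := H26.exists_hom_of_isCharacter_one (H26.irr_isCharacter χ)
    (by rw [H42.irr_one_eq, h1, Nat.cast_one])
  have hres : (⟨_, H26.isIrrCharacter_hom (f.comp K.subtype)⟩ : IrrCharacter K) = θ := by
    by_contra hne
    refine hover (H43.mult_eq_of_classInner ?_)
    rw [Nat.cast_zero, show (fun x : K => χ.1 x) =
      (⟨_, H26.isIrrCharacter_hom (f.comp K.subtype)⟩ : IrrCharacter K).1 from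
        funext fun x => (hf x).symm, H26.classInner_irr, if_neg hne]
  refine ⟨H42.charDegree_of_eq_nat ?_, f, fun x => ?_⟩
  · rw [← hres]
    show (f ((1 : K) : G) : ℂ) = _
    rw [Subgroup.coe_one, map_one, Units.val_one, Nat.cast_one]
  · rw [← hres]
    rfl

/-- **Thompson's theorem for the fixed members of the principal block**. -/
theorem hasNormalPComplement_of_fixed_linear (hM : Cfsg.IsPModular p M) (hk : GalExp G p k)
    (hlin : ∀ χ ∈ Cfsg.principalBlock M G, ¬ p ∣ Cfsg.charDegree (χ : G → ℂ) →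
      (∀ g : G, χ.1 (g ^ k) = χ.1 g) → Cfsg.charDegree (χ : G → ℂ) = 1) : Cfsg.HasNormalPComplement p G := by
  classical
  obtain ⟨P⟩ : Nonempty (Sylow p G) := inferInstance
  set K : Subgroup G := Subgroup.closure {g : G | ∃ k, orderOf g = p ^ k} with hK
  have hKn : K.Normal := by
    refine ⟨fun n hn g => ?_⟩
    have hle : K ≤ K.comap (MulAut.conj g).toMonoidHom := (Subgroup.closure_le _).2 fun x ⟨k, hk⟩ =>
      Subgroup.subset_closure ⟨k, by rw [← hk]; exact (MulAut.conj g).orderOf_eq x⟩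
    exact hle hn
  have : Fintype K := Fintype.ofFinite K
  have hPK : (P : Subgroup G) ≤ K := fun x hx => by
    obtain ⟨k, hk⟩ := IsPGroup.iff_orderOf.1 P.2 ⟨x, hx⟩
    exact Subgroup.subset_closure ⟨k, by rwa [Subgroup.orderOf_mk] at hk⟩
  have hgen : Subgroup.closure {g : K | ∃ k, orderOf g = p ^ k} = ⊤ := by
    apply Subgroup.map_injective K.subtype_injective
    rw [MonoidHom.map_closure, ← MonoidHom.range_eq_map, Subgroup.range_subtype]
    conv_rhs => rw [hK]
    congr 1
    ext g
    constructor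
    · rintro ⟨x, ⟨k, hk⟩, rfl⟩
      exact ⟨k, by rw [← hk]; exact Subgroup.orderOf_coe x⟩
    · rintro ⟨k, hk⟩
      exact ⟨⟨g, Subgroup.subset_closure ⟨k, hk⟩⟩, ⟨k, by rw [Subgroup.orderOf_mk, hk]⟩, rfl⟩
  have hnd := not_dvd_pResidual_of_fixed_linear (G := K) hM (hk.subgroup K) hgen
    (fun θ hθ hd hf => (fixed_linear_of_over hM hk P hPK hlin hθ hd hf).1)
  have : (Cfsg.pResidual p K).Normal := H22.pResidual_normal
  set N := (Cfsg.pResidual p K).map K.subtype with hN
  have hNn : N.Normal := by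
    refine ⟨fun n hn g => ?_⟩
    obtain ⟨m, hm, rfl⟩ := hn
    refine ⟨MulAut.conjNormal g m, ?_, rfl⟩
    exact H22.map_pResidual_le (MulAut.conjNormal g : MulAut K).toMonoidHom
      (Subgroup.mem_map_of_mem _ hm)
  have : Fintype N := Fintype.ofFinite N
  have hNK : N ≤ K := Subgroup.map_subtype_le _
  -- the quotient of `K` by its `p`-residual is a copy of `P`
  set R := Cfsg.pResidual p K
  have hc := H22.isComplement'_pResidual_of_not_dvd (P.subtype hPK) hnd
  let q : (P : Subgroup G) →* K ⧸ R := (QuotientGroup.mk' R).comp (Subgroup.inclusion hPK)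
  have hq : Function.Bijective q := by
    constructor
    · rw [injective_iff_map_eq_one]
      intro x hx
      have h1 : Subgroup.inclusion hPK x ∈ R := (QuotientGroup.eq_one_iff _).1 hx
      have h2 : Subgroup.inclusion hPK x ∈ ((P.subtype hPK : Sylow p K) : Subgroup K) := by
        rw [Sylow.coe_subtype]
        exact Subgroup.mem_subgroupOf.2 x.2
      exact Subgroup.inclusion_injective hPK
        ((Subgroup.mem_bot.1 (hc.disjoint.le_bot ⟨h1, h2⟩)).trans (map_one _).symm)
    · intro y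
      obtain ⟨k, rfl⟩ := QuotientGroup.mk_surjective y
      obtain ⟨⟨r, t⟩, hrt⟩ := hc.2 k
      simp only at hrt
      have ht : ((t : K) : G) ∈ (P : Subgroup G) := by
        have := t.2
        simp only [Sylow.coe_subtype, Subgroup.mem_subgroupOf] at this
        exact this
      refine ⟨⟨((t : K) : G), ht⟩, ?_⟩
      show ((Subgroup.inclusion hPK ⟨((t : K) : G), ht⟩ : K) : K ⧸ R) = (k : K ⧸ R)
      rw [← hrt, QuotientGroup.mk_mul, (QuotientGroup.eq_one_iff (r : K)).2 r.2, one_mul]
      exact congrArg _ (Subtype.ext rfl)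
  refine H22.hasNormalPComplement_iff.2 ?_
  -- every linear character of `P` kills its intersection with `O^p(G)`
  have hkill : ∀ (x : (P : Subgroup G)), (x : G) ∈ Cfsg.pResidual p G →
      ∀ μ : (P : Subgroup G) →* ℂˣ, (∀ y, μ y ^ p = 1) → μ x = 1 := by
    intro x hx μ hμp
    let μK : K →* ℂˣ := (μ.comp (MulEquiv.ofBijective q hq).symm.toMonoidHom).comp
      (QuotientGroup.mk' R)
    have hμN : ∀ n : N, μK (Subgroup.inclusion hNK n) = 1 := by
      intro n
      obtain ⟨m, hm, hmn⟩ := n.2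
      have : Subgroup.inclusion hNK n = m := Subtype.ext hmn.symm
      rw [this, MonoidHom.comp_apply, QuotientGroup.mk'_apply, (QuotientGroup.eq_one_iff m).2 hm,
        map_one]
    let η : IrrCharacter K := ⟨_, H26.isIrrCharacter_hom μK⟩
    have hreg : ∀ g : K, ¬ p ∣ orderOf g → (g : G) ∈ N := fun g hg =>
      ⟨g, H22.mem_pResidual_of_coprime ((Nat.Prime.coprime_iff_not_dvd hp.out).2 hg).symm, rfl⟩
    have hηB : η ∈ Cfsg.principalBlock M K := by
      have := hM.2.1
      exact H42.extension_mem_principalBlock hM K hNK hreg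
        (θ := H26.oneIrr N) (H26.oneIrr_mem_principalBlock N) η (fun n => by
          show (μK (Subgroup.inclusion hNK n) : ℂ) = 1
          rw [hμN, Units.val_one])
    have hηd : Cfsg.charDegree (η : K → ℂ) = 1 :=
      H42.charDegree_of_eq_nat (by show (μK 1 : ℂ) = _; rw [map_one, Units.val_one, Nat.cast_one])
    have hηf : ∀ g : K, η.1 (g ^ k) = η.1 g := by
      intro g
      show (μK (g ^ k) : ℂ) = (μK g : ℂ)
      obtain ⟨x, y, rfl, hc, hx, hy⟩ := H40.exists_isPPart p g
      rw [hc.mul_pow, (hk.subgroup K).sing x hx, (hk.subgroup K).reg y hy, map_mul, map_mul,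
        map_pow, pow_add, pow_one]
      have : μK x ^ p = 1 := hμp _
      rw [this, mul_one]
    obtain ⟨-, f, hfK⟩ := fixed_linear_of_over hM hk P hPK hlin hηB
      (by rw [hηd]; exact hp.out.not_dvd_one) hηf
    have h1 : (f (x : G) : ℂ) = (μK (Subgroup.inclusion hPK x) : ℂ) :=
      hfK (Subgroup.inclusion hPK x)
    have h2 : μK (Subgroup.inclusion hPK x) = μ x :=
      congrArg μ ((MulEquiv.ofBijective q hq).symm_apply_apply x)
    rw [h2] at h1
    -- a `p`-element with image of order prime to `p`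
    set m := Nat.card G / p ^ (Nat.card G).factorization p with hm
    have hfm : f (x : G) ^ m = 1 := by
      let S : Subgroup G :=
        { carrier := {g | f g ^ m = 1}
          one_mem' := by simp
          mul_mem' := fun {a b} ha hb => by
            show f (a * b) ^ m = 1
            rw [map_mul, mul_pow, show f a ^ m = 1 from ha, show f b ^ m = 1 from hb, one_mul]
          inv_mem' := fun {a} ha => by
            show f a⁻¹ ^ m = 1
            rw [map_inv, inv_pow, show f a ^ m = 1 from ha, inv_one] }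
      have hle : Cfsg.pResidual p G ≤ S := (Subgroup.closure_le S).2 fun g hg => by
        show f g ^ m = 1
        rw [← map_pow, orderOf_dvd_iff_pow_eq_one.1 ?_, map_one]
        refine (Nat.Coprime.pow_right ((Nat.card G).factorization p) hg).dvd_of_dvd_mul_left ?_
        rw [hm, Nat.ordProj_mul_ordCompl_eq_self]
        exact orderOf_dvd_natCard g
      exact hle hx
    obtain ⟨j, hj⟩ := IsPGroup.iff_orderOf.1 P.2 x
    have hfp : f (x : G) ^ (p ^ j) = 1 := by
      rw [← map_pow, ← Subgroup.coe_pow, ← hj, pow_orderOf_eq_one, Subgroup.coe_one, map_one]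
    have hfx : f (x : G) = 1 := orderOf_eq_one_iff.1 (Nat.eq_one_of_dvd_coprimes
      (Nat.Coprime.pow_left j (Nat.coprime_ordCompl hp.out Nat.card_pos.ne'))
      (orderOf_dvd_of_pow_eq_one hfp) (orderOf_dvd_of_pow_eq_one hfm))
    exact Units.ext (by rw [← h1, hfx])
  have : (Cfsg.pResidual p G).Normal := H22.pResidual_normal
  have hN' : Cfsg.HasNormalPComplement p (Cfsg.pResidual p G) := by
    refine H22.hasNormalPComplement_of_inf_le_frattini P _ fun x hx => ?_
    refine ⟨⟨x, hx.2⟩, ?_, rfl⟩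
    by_contra hc
    let Φ := frattini (P : Subgroup G)
    have hcomm : IsMulCommutative ((P : Subgroup G) ⧸ Φ) := ⟨⟨by
      rintro ⟨a⟩ ⟨b⟩
      refine (QuotientGroup.eq).2 (H24.commutator_le_frattini P.2 ?_)
      rw [commutator_def]
      have : (a * b)⁻¹ * (b * a) = ⁅b⁻¹, a⁻¹⁆ := by group
      rw [this]
      exact Subgroup.commutator_mem_commutator (Subgroup.mem_top _) (Subgroup.mem_top _)⟩⟩
    let _ : CommGroup ((P : Subgroup G) ⧸ Φ) := { mul_comm := IsMulCommutative.is_comm.comm }
    have : Finite ((P : Subgroup G) ⧸ Φ) := Quotient.finite _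
    obtain ⟨φ, hφ⟩ := CommGroup.exists_apply_ne_one_of_hasEnoughRootsOfUnity
      ((P : Subgroup G) ⧸ Φ) ℂ (a := QuotientGroup.mk' Φ ⟨x, hx.2⟩) fun h => hc
        ((QuotientGroup.eq_one_iff _).1 h)
    refine hφ (hkill ⟨x, hx.2⟩ hx.1 (φ.comp (QuotientGroup.mk' Φ)) fun y => ?_)
    rw [← map_pow, MonoidHom.comp_apply, show QuotientGroup.mk' Φ (y ^ p) = 1 from
      (QuotientGroup.eq_one_iff _).2 (H24.pow_mem_frattini P.2 y), map_one]
  have h := H22.hasNormalPComplement_iff.1 hN'
  rw [H22.pResidual_pResidual_eq_top, Subgroup.card_top] at h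
  exact h

open scoped Classical in
/-- With a normal `p`-complement the members of degree prime to `p` of the principal block are
linear. -/
theorem linear_of_hasNormalPComplement (hM : Cfsg.IsPModular p M)
    (h : Cfsg.HasNormalPComplement p G) {χ : IrrCharacter G}
    (hχ : χ ∈ Cfsg.principalBlock M G) (hd : ¬ p ∣ Cfsg.charDegree (χ : G → ℂ)) :
    Cfsg.charDegree (χ : G → ℂ) = 1 := by
  have := hM.2.1
  have : (Cfsg.pResidual p G).Normal := H22.pResidual_normal
  set K := Cfsg.pResidual p G with hK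
  have : Fintype K := Fintype.ofFinite K
  have hKp : ¬ p ∣ Nat.card K := H22.hasNormalPComplement_iff.1 h
  obtain ⟨P⟩ : Nonempty (Sylow p G) := inferInstance
  have : Fintype (P : Subgroup G) := Fintype.ofFinite _
  have hc := H22.isComplement'_pResidual_of_not_dvd P hKp
  have hker : ∀ n ∈ K, χ.1 n = χ.1 1 := by
    refine H41.eq_one_of_sameBlock K hM hKp (χ := H26.oneIrr G) (ψ := χ) ?_ fun n _ => rfl
    exact H41.sameBlock_of_mem (H41.isPBlock_principalBlock) (H26.oneIrr_mem_principalBlock G) hχ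
  have hval : ∀ (a : K) (b : (P : Subgroup G)), χ.1 ((a : G) * b) = χ.1 b := fun a b => by
    have e : (a : G) * b = (b : G) * ((b : G)⁻¹ * a * b) := by group
    rw [e, H43.irr_mul_charKer χ _ (H43.mem_charKer.2 (hker _ ?_))]
    have := (inferInstance : K.Normal).conj_mem (a : G) a.2 (b : G)⁻¹
    simpa using this
  have hres : Cfsg.classInner (fun b : (P : Subgroup G) => χ.1 b)
      (fun b : (P : Subgroup G) => χ.1 b) = 1 := by
    have h1 := H26.classInner_irr χ χ
    rw [if_pos rfl, Cfsg.classInner,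
      ← Fintype.sum_bijective _ hc (fun ab => χ.1 (((ab : K × (P : Subgroup G)).1 : G) * ab.2) *
        conj (χ.1 (((ab : K × (P : Subgroup G)).1 : G) * ab.2))) _ (fun _ => rfl),
      Fintype.sum_prod_type] at h1
    simp only [hval, Finset.sum_const, Finset.card_univ, nsmul_eq_mul] at h1
    rw [← hc.card_mul, Nat.cast_mul, mul_inv, ← Nat.card_eq_fintype_card] at h1
    rw [Cfsg.classInner]
    have hK0 : (Nat.card K : ℂ) ≠ 0 := Nat.cast_ne_zero.2 Nat.card_pos.ne'
    rw [← h1]
    field_simp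
    rw [mul_comm]
    rfl
  let η : IrrCharacter (P : Subgroup G) :=
    ⟨_, isIrrCharacter_of_inner_self
      (H26.isCharacter_comp (H26.irr_isCharacter χ) (P : Subgroup G).subtype) hres⟩
  have hdvd := H43.irr_charDegree_dvd η
  have hη : Cfsg.charDegree η.1 = Cfsg.charDegree (χ : G → ℂ) := by
    show ⌊(χ.1 ((1 : (P : Subgroup G)) : G)).re⌋₊ = _
    rw [Subgroup.coe_one]
    rfl
  obtain ⟨n, hn⟩ := IsPGroup.iff_card.1 P.2
  rw [hη, hn] at hdvd
  obtain ⟨i, -, hi⟩ := (Nat.dvd_prime_pow hp.out).1 hdvd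
  rcases Nat.eq_zero_or_pos i with rfl | hi0
  · rw [hi, pow_zero]
  · exact absurd (hi ▸ dvd_pow_self p hi0.ne') hd

end Cfsg.Agent.H45
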