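import Cfsg.Prelude.Def_Characters
import Cfsg.Prelude.Def_Blocks
import Cfsg.Agent.H25.CharValues
import Cfsg.Agent.H25.CharIntegral
import Cfsg.Agent.H26.CharBasic
import Cfsg.Agent.H26.CharOrtho

/-!
# Class functions with algebraic integers as multiplicities
-/

set_option autoImplicit false

open scoped ComplexConjugate Kronecker
open Matrix

namespace Cfsg.Agent.H45

variable {H : Type*} [Group H] [Fintype H]

/-- A class function all whose multiplicities are algebraic integers. -/
def IntMod (F : H → ℂ) : Prop :=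
  Cfsg.IsClassFunction H F ∧
    ∀ θ : Cfsg.IrrCharacter H, IsIntegral ℤ (Cfsg.classInner F θ.1)

/-- Characters have integral multiplicities. -/
theorem intMod_of_isCharacter {F : H → ℂ} (h : Cfsg.IsCharacter H F) : IntMod F :=
  ⟨H26.isClassFunction_of_isCharacter h, fun θ => by
    obtain ⟨m, hm⟩ := H26.exists_nat_classInner_irr h θ
    rw [hm]
    exact map_natCast (algebraMap ℤ ℂ) m ▸ isIntegral_algebraMap⟩

/-- A character value is an algebraic integer. -/
theorem isIntegral_irr (θ : Cfsg.IrrCharacter H) (h : H) : IsIntegral ℤ (θ.1 h) := by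
  obtain ⟨n, ρ, -, e⟩ := θ.2
  rw [← e]
  exact H25.isIntegral_char ρ h

/-- The values of such a function are algebraic integers. -/
theorem IntMod.isIntegral {F : H → ℂ} (hF : IntMod F) (h : H) : IsIntegral ℤ (F h) := by
  classical
  rw [H26.class_function_expansion F hF.1, Finset.sum_apply]
  exact IsIntegral.sum _ fun θ _ => (hF.2 θ).mul (isIntegral_irr θ h)

/-- Closure under sums. -/
theorem IntMod.add {F F' : H → ℂ} (hF : IntMod F) (hF' : IntMod F') : IntMod (F + F') :=
  ⟨fun g x => by simp [hF.1 g x, hF'.1 g x], fun θ => by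
    rw [H26.classInner_add_left]
    exact (hF.2 θ).add (hF'.2 θ)⟩

/-- Closure under integral multiples. -/
theorem IntMod.smul {F : H → ℂ} (hF : IntMod F) {c : ℂ} (hc : IsIntegral ℤ c) : IntMod (c • F) :=
  ⟨fun g x => by simp [hF.1 g x], fun θ => by
    rw [H26.classInner_smul_left]
    exact hc.mul (hF.2 θ)⟩

/-- Closure under finite sums. -/
theorem IntMod.sum {ι : Type*} (s : Finset ι) (F : ι → H → ℂ) (hF : ∀ i ∈ s, IntMod (F i)) :
    IntMod (∑ i ∈ s, F i) := by
  classical
  induction s using Finset.induction_on with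
  | empty =>
    refine ⟨fun g x => by simp, fun θ => ?_⟩
    rw [Finset.sum_empty, H26.classInner_zero_left]
    exact isIntegral_zero
  | insert a s ha ih =>
    rw [Finset.sum_insert ha]
    exact (hF a (Finset.mem_insert_self a s)).add
      (ih fun i hi => hF i (Finset.mem_insert_of_mem hi))

/-- Closure under products. -/
theorem IntMod.mul {F F' : H → ℂ} (hF : IntMod F) (hF' : IntMod F') : IntMod (F * F') := by
  classical
  rw [H26.class_function_expansion F hF.1, H26.class_function_expansion F' hF'.1,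
    Finset.sum_mul]
  refine IntMod.sum _ _ fun θ _ => ?_
  rw [Finset.mul_sum]
  refine IntMod.sum _ _ fun θ' _ => ?_
  rw [smul_mul_smul_comm]
  exact (intMod_of_isCharacter (H26.isCharacter_mul (H26.irr_isCharacter θ)
    (H26.irr_isCharacter θ'))).smul ((hF.2 θ).mul (hF'.2 θ'))

/-- The constant one. -/
theorem intMod_one : IntMod (1 : H → ℂ) :=
  intMod_of_isCharacter (H26.irr_isCharacter (H26.oneIrr H))

/-- Closure under powers. -/
theorem IntMod.pow {F : H → ℂ} (hF : IntMod F) : ∀ n : ℕ, IntMod (F ^ n)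
  | 0 => by simpa using intMod_one
  | n + 1 => by
    rw [pow_succ]
    exact (hF.pow n).mul hF

/-- `|H|` times a class function with integral values. -/
theorem intMod_card_mul {r : H → ℂ} (hc : Cfsg.IsClassFunction H r)
    (hr : ∀ h, IsIntegral ℤ (r h)) : IntMod fun h => (Nat.card H : ℂ) * r h := by
  refine ⟨fun g x => by simp [hc g x], fun θ => ?_⟩
  have he : Cfsg.classInner (fun h => (Nat.card H : ℂ) * r h) θ.1
      = ∑ h : H, r h * conj (θ.1 h) := by
    simp only [Cfsg.classInner, mul_assoc, ← Finset.mul_sum]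
    rw [inv_mul_cancel_left₀ (Nat.cast_ne_zero.2 Nat.card_pos.ne')]
  rw [he]
  exact IsIntegral.sum _ fun h _ => (hr h).mul (by
    rw [← H26.irr_inv]
    exact isIntegral_irr θ _)

/-- Division by a natural valued function prime to `|H|`, when the values stay integral. -/
theorem IntMod.div {F : H → ℂ} (hF : IntMod F) (P : H → ℕ) (hP : IntMod fun h => (P h : ℂ))
    (hcop : ∀ h, (P h).Coprime (Nat.card H)) (hint : ∀ h, IsIntegral ℤ (F h / P h)) :
    IntMod fun h => F h / P h := by
  set φ := Nat.totient (Nat.card H) with hφ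
  have hφ0 : 0 < φ := Nat.totient_pos.2 Nat.card_pos
  have hdiv : ∀ h, ∃ k : ℤ, (P h : ℤ) ^ φ - 1 = Nat.card H * k := fun h => by
    have := Int.natCast_modEq_iff.2 (Nat.ModEq.pow_totient (hcop h))
    push_cast at this
    obtain ⟨k, hk⟩ := this.symm.dvd
    exact ⟨k, hk⟩
  choose k hk using hdiv
  have hP0 : ∀ h, (P h : ℂ) ≠ 0 ∨ Nat.card H = 1 := fun h => by
    by_cases h0 : P h = 0
    · exact Or.inr (by simpa [h0] using hcop h)
    · exact Or.inl (Nat.cast_ne_zero.2 h0)
  have hcl : Cfsg.IsClassFunction H fun h => F h / P h := fun g x => by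
    have h2 : (P (x * g * x⁻¹) : ℂ) = P g := hP.1 g x
    show F (x * g * x⁻¹) / P (x * g * x⁻¹) = F g / P g
    rw [hF.1 g x, h2]
  have hkcl : Cfsg.IsClassFunction H fun h => (k h : ℂ) := fun g x => by
    have h2 : P (x * g * x⁻¹) = P g := Nat.cast_injective (R := ℂ) (hP.1 g x)
    have e := hk (x * g * x⁻¹)
    rw [h2, hk g] at e
    have : k (x * g * x⁻¹) = k g :=
      (mul_left_cancel₀ (Int.natCast_ne_zero.2 Nat.card_pos.ne') e).symm
    simp [this]
  by_cases h1 : Nat.card H = 1
  · have := intMod_card_mul hcl hint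
    simpa only [h1, Nat.cast_one, one_mul] using this
  have e : (fun h => F h / (P h : ℂ)) = F * (fun h => (P h : ℂ)) ^ (φ - 1)
      + fun h => (Nat.card H : ℂ) * (-(k h : ℂ) * (F h / P h)) := by
    funext h
    have hne := (hP0 h).resolve_right h1
    have hk' : (P h : ℂ) ^ φ - 1 = Nat.card H * (k h : ℂ) := by exact_mod_cast hk h
    have hp : (P h : ℂ) ^ (φ - 1) * P h = (P h : ℂ) ^ φ := by
      rw [← pow_succ, Nat.sub_add_cancel hφ0]
    simp only [Pi.add_apply, Pi.mul_apply, Pi.pow_apply]
    field_simp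
    linear_combination -F h * hp - F h * hk'
  rw [e]
  refine (hF.mul (hP.pow _)).add (intMod_card_mul ?_ fun h => ?_)
  · intro g x
    have h1 : (k (x * g * x⁻¹) : ℂ) = k g := hkcl g x
    have h2 : F (x * g * x⁻¹) / (P (x * g * x⁻¹) : ℂ) = F g / P g := hcl g x
    show -(k (x * g * x⁻¹) : ℂ) * (F (x * g * x⁻¹) / P (x * g * x⁻¹)) = _
    rw [h1, h2]
  · exact (isIntegral_algebraMap (x := k h)).neg.mul (hint h)

/-- Eigenvalues of a matrix with algebraic integer entries are algebraic integers. -/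
theorem isIntegral_eigenvalue {d : Type*} [Fintype d] [DecidableEq d] (A : Matrix d d ℂ)
    (hA : ∀ i j, IsIntegral ℤ (A i j)) {μ : ℂ} (v : d → ℂ) (hv : v ≠ 0) (h : A *ᵥ v = μ • v) :
    IsIntegral ℤ μ := by
  let A' : Matrix d d Cfsg.AlgInt := fun i j => ⟨A i j, hA i j⟩
  have hmap : A'.map (algebraMap Cfsg.AlgInt ℂ) = A := by
    ext i j
    rfl
  have hev : Module.End.HasEigenvalue (Matrix.toLin' A) μ :=
    Module.End.hasEigenvalue_of_hasEigenvector (x := v)
      ⟨Module.End.mem_eigenspace_iff.2 (by rw [Matrix.toLin'_apply]; exact h), hv⟩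
  rw [Module.End.hasEigenvalue_iff_isRoot_charpoly, Matrix.charpoly_toLin', ← hmap,
    Matrix.charpoly_map] at hev
  refine isIntegral_trans (R := ℤ) (A := Cfsg.AlgInt) μ ⟨A'.charpoly, A'.charpoly_monic, ?_⟩
  rw [← Polynomial.eval_map]
  exact hev

/-- The average of `trace (A * R h)` is an algebraic integer if `A` has algebraic integer entries
and commutes with the representation `R`. -/
theorem isIntegral_average_trace {d : Type*} [Fintype d] [DecidableEq d] (R : H →* Matrix d d ℂ)
    (A : Matrix d d ℂ) (hA : ∀ i j, IsIntegral ℤ (A i j)) (hc : ∀ h, A * R h = R h * A) :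
    IsIntegral ℤ ((Nat.card H : ℂ)⁻¹ * ∑ h : H, (A * R h).trace) := by
  set P : Matrix d d ℂ := (Nat.card H : ℂ)⁻¹ • ∑ h : H, R h with hP
  have hAP : A * P = P * A := by
    simp only [hP, mul_smul_comm, smul_mul_assoc, Finset.mul_sum, Finset.sum_mul, hc]
  have hPP : P * P = P := by
    have h1 : ∀ g, R g * P = P := fun g => by
      simp only [hP, mul_smul_comm, Finset.mul_sum, ← map_mul]
      congr 1
      exact Fintype.sum_equiv (Equiv.mulLeft g) _ _ fun x => rfl
    conv_lhs => rw [hP, smul_mul_assoc, Finset.sum_mul]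
    rw [Finset.sum_congr rfl fun g _ => h1 g, Finset.sum_const, Finset.card_univ,
      ← Nat.cast_smul_eq_nsmul ℂ, smul_smul, ← Nat.card_eq_fintype_card,
      inv_mul_cancel₀ (Nat.cast_ne_zero.2 Nat.card_pos.ne'), one_smul]
  have he : (Nat.card H : ℂ)⁻¹ * ∑ h : H, (A * R h).trace = (P * A).trace := by
    rw [← hAP, hP, mul_smul_comm, Matrix.trace_smul, Finset.mul_sum (a := A), Matrix.trace_sum]
    rfl
  rw [he, Matrix.trace_eq_sum_roots_charpoly]
  refine IsIntegral.multiset_sum fun μ hμ => ?_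
  have hev : Module.End.HasEigenvalue (Matrix.toLin' (P * A)) μ := by
    rw [Module.End.hasEigenvalue_iff_isRoot_charpoly, Matrix.charpoly_toLin']
    exact Polynomial.isRoot_of_mem_roots hμ
  obtain ⟨v, hv⟩ := hev.exists_hasEigenvector
  have hve : (P * A) *ᵥ v = μ • v := by
    rw [← Matrix.toLin'_apply]
    exact hv.apply_eq_smul
  by_cases h0 : μ = 0
  · rw [h0]; exact isIntegral_zero
  have hPv : P *ᵥ v = v := by
    have h2 : μ • P *ᵥ v = μ • v := by
      rw [← Matrix.mulVec_smul, ← hve, Matrix.mulVec_mulVec, ← mul_assoc, hPP]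
    exact smul_right_injective _ h0 h2
  refine isIntegral_eigenvalue A hA v hv.2 ?_
  conv_lhs => rw [← hPv]
  rw [Matrix.mulVec_mulVec, hAP, hve]

/-- The class function `trace (A * R h)` of a commuting matrix with integral entries. -/
theorem intMod_trace {d : Type*} [Fintype d] [DecidableEq d] (R : H →* Matrix d d ℂ)
    (A : Matrix d d ℂ) (hA : ∀ i j, IsIntegral ℤ (A i j)) (hc : ∀ h, A * R h = R h * A) :
    IntMod fun h => (A * R h).trace := by
  classical
  refine ⟨fun g x => ?_, fun θ => ?_⟩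
  · show (A * R (x * g * x⁻¹)).trace = _
    rw [map_mul, map_mul, ← mul_assoc, ← mul_assoc, hc x, Matrix.trace_mul_comm, ← mul_assoc,
      ← mul_assoc, ← map_mul, inv_mul_cancel, map_one, one_mul]
  obtain ⟨n, ρ, hρ⟩ := H26.irr_isCharacter θ
  let S : H →* Matrix (Fin n) (Fin n) ℂ :=
    (LinearMap.toMatrixAlgEquiv (Pi.basisFun ℂ (Fin n)).dualBasis).toMonoidHom.comp ρ.dual
  have hS : ∀ h, (S h).trace = conj (θ.1 h) := fun h => by
    rw [← H26.irr_inv, ← hρ, ← Representation.char_dual]
    exact (LinearMap.trace_eq_matrix_trace ℂ _ (ρ.dual h)).symm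
  let RS : H →* Matrix (d × Fin n) (d × Fin n) ℂ :=
    { toFun := fun h => R h ⊗ₖ S h
      map_one' := by rw [map_one, map_one, Matrix.one_kronecker_one]
      map_mul' := fun a b => by rw [map_mul, map_mul, Matrix.mul_kronecker_mul] }
  have hB : ∀ i j, IsIntegral ℤ ((A ⊗ₖ (1 : Matrix (Fin n) (Fin n) ℂ)) i j) := fun i j => by
    rw [Matrix.kronecker_apply, Matrix.one_apply]
    refine (hA _ _).mul ?_
    split_ifs
    · exact isIntegral_one
    · exact isIntegral_zero
  have hBc : ∀ h, A ⊗ₖ (1 : Matrix (Fin n) (Fin n) ℂ) * RS h = RS h * (A ⊗ₖ 1) := fun h => by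
    show A ⊗ₖ (1 : Matrix (Fin n) (Fin n) ℂ) * (R h ⊗ₖ S h) = (R h ⊗ₖ S h) * (A ⊗ₖ 1)
    rw [← Matrix.mul_kronecker_mul, ← Matrix.mul_kronecker_mul, one_mul, mul_one, hc]
  convert isIntegral_average_trace RS _ hB hBc using 1
  rw [Cfsg.classInner]
  congr 1
  refine Finset.sum_congr rfl fun h _ => ?_
  show _ = (A ⊗ₖ (1 : Matrix (Fin n) (Fin n) ℂ) * (R h ⊗ₖ S h)).trace
  rw [← Matrix.mul_kronecker_mul, one_mul, Matrix.trace_kronecker, hS]

/-- The sum of an invariant kernel with integral values along the graph of a permutation. -/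
theorem intMod_kernel {Ω : Type*} [Fintype Ω] [DecidableEq Ω] (a : H →* Equiv.Perm Ω)
    (K : Ω → Ω → ℂ) (hK : ∀ u w, IsIntegral ℤ (K u w))
    (hinv : ∀ h u w, K (a h u) (a h w) = K u w) : IntMod fun h => ∑ u, K u (a h u) := by
  let R : H →* Matrix Ω Ω ℂ :=
    { toFun := fun h => Matrix.of fun w u => if a h u = w then 1 else 0
      map_one' := by
        ext w u
        rw [Matrix.of_apply, map_one, Equiv.Perm.one_apply, Matrix.one_apply]
        exact if_congr eq_comm rfl rfl
      map_mul' := fun g h => by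
        ext w u
        rw [Matrix.of_apply, Matrix.mul_apply, Finset.sum_eq_single (a h u)]
        · simp [map_mul]
        · intro x _ hx
          simp [Ne.symm hx]
        · simp }
  have hRl : ∀ (h : H) (M : Matrix Ω Ω ℂ) w u, (R h * M) w u = M ((a h).symm w) u := by
    intro h M w u
    show ∑ x, (if a h x = w then 1 else 0) * M x u = _
    rw [Finset.sum_eq_single ((a h).symm w)]
    · simp
    · intro x _ hx
      rw [if_neg fun e => hx (by rw [← e, Equiv.symm_apply_apply]), zero_mul]
    · simp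
  have hRr : ∀ (h : H) (M : Matrix Ω Ω ℂ) w u, (M * R h) w u = M w (a h u) := by
    intro h M w u
    show ∑ x, M w x * (if a h u = x then 1 else 0) = _
    simp
  have h := intMod_trace R (Matrix.of K) (fun i j => hK i j) fun h => by
    ext w u
    rw [hRl, hRr, Matrix.of_apply, Matrix.of_apply]
    conv_rhs => rw [← hinv h, Equiv.apply_symm_apply]
  convert h using 1
  funext h
  exact Finset.sum_congr rfl fun u _ => (hRr h _ u u).symm

end Cfsg.Agent.H45
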