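import Cfsg.Agent.H45.GaloisPrincipal
import Cfsg.Agent.H45.FieldValues
import Cfsg.Agent.H45.Gallagher
import Cfsg.Agent.H26.PrincipalRestrict
import Cfsg.Agent.H42.PrincipalExtension
import Cfsg.Agent.H42.BlockTransport
import Cfsg.Agent.S0888

/-!
# Canonical extensions in the principal block over `N C(Q)`

Let `Q` be a Sylow `p`-subgroup of the normal subgroup `N` and suppose that the group is `N C(Q)`.
An invariant member of the principal block of `N`, of degree and determinantal order prime to `p`,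
has exactly one extension lying in the principal block on every `N ⊔ ⟨x⟩`, `x` regular, whose
determinantal order is prime to `p`.
-/

set_option autoImplicit false
set_option maxHeartbeats 400000

open scoped ComplexConjugate

namespace Cfsg.Agent.H45

open Cfsg (IrrCharacter)
open H43 (irrConj irrTwist irrCongr)

universe u

variable {G : Type u} [Group G] [Fintype G] {p : ℕ} [hp : Fact p.Prime] {M : Ideal Cfsg.AlgInt}
  (N : Subgroup G) [hN : N.Normal] [Fintype N]

omit hp in
/-- Twists of an extension by characters of the quotient are distinct. -/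
theorem irrTwist_inj_of_ext (χ : IrrCharacter G)
    (hirr : Cfsg.IsIrrCharacter N fun n : N => χ.1 n) {ν ν' : G →* ℂˣ} (hν : ∀ n ∈ N, ν n = 1)
    (hν' : ∀ n ∈ N, ν' n = 1) (h : irrTwist χ ν = irrTwist χ ν') : ν = ν' := by
  have := Fintype.ofFinite (G ⧸ N)
  let l := QuotientGroup.lift N ν fun n hn => hν n hn
  let l' := QuotientGroup.lift N ν' fun n hn => hν' n hn
  have h2 := extMul_injective N χ hirr ⟨_, H26.isIrrCharacter_hom l⟩ ⟨_, H26.isIrrCharacter_hom l'⟩
    (funext fun g => congrArg (fun η : IrrCharacter G => η.1 g) h)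
  exact MonoidHom.ext fun g => Units.ext (congrFun (congrArg Subtype.val h2) (g : G ⧸ N))

omit [Fintype N] in
/-- A Sylow subgroup of `N` and its centralizer cover `N ⊔ S` when they cover the group. -/
theorem prSetup_of_cover (hM : Cfsg.IsPModular p M) (Q : Sylow p N)
    (hcov : N ⊔ Subgroup.centralizer (((Q : Subgroup N).map N.subtype : Subgroup G) : Set G) = ⊤)
    (J : Subgroup G) (hNJ : N ≤ J) (hidx : ¬ p ∣ N.relIndex J) :
    ∃ Q' : Sylow p J, H26.PRSetup M (N.subgroupOf J) p Q' := by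
  let R : Subgroup J := ((Q : Subgroup N).map N.subtype).subgroupOf J
  have hRJ : (Q : Subgroup N).map N.subtype ≤ J := (Subgroup.map_subtype_le _).trans hNJ
  have hR : Nat.card R = p ^ (Nat.card J).factorization p := by
    rw [Nat.card_congr (Subgroup.subgroupOfEquivOfLe hRJ).toEquiv,
      Subgroup.card_map_of_injective N.subtype_injective, Q.card_eq_multiplicity]
    congr 1
    have h : Nat.card N * N.relIndex J = Nat.card J := by
      rw [← Nat.card_congr (Subgroup.subgroupOfEquivOfLe hNJ).toEquiv]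
      exact (N.subgroupOf J).card_mul_index
    rw [← h, Nat.factorization_mul Nat.card_pos.ne' (fun (h0 : N.relIndex J = 0) => hidx (by rw [h0]; exact dvd_zero p)),
      Finsupp.add_apply, Nat.factorization_eq_zero_of_not_dvd hidx, add_zero]
  refine ⟨Sylow.ofCard R hR, hM, hidx, ?_⟩
  rw [eq_top_iff]
  intro j _
  have hmem : (j : G) ∈ N ⊔
      Subgroup.centralizer (((Q : Subgroup N).map N.subtype : Subgroup G) : Set G) :=
    hcov ▸ Subgroup.mem_top _
  obtain ⟨n, hn, c, hc, hnc⟩ := Subgroup.mem_sup_of_normal_left.1 hmem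
  have hcJ : c ∈ J := by
    have : c = n⁻¹ * j := by rw [← hnc, inv_mul_cancel_left]
    exact this ▸ J.mul_mem (J.inv_mem (hNJ hn)) j.2
  have hj : j = (⟨n, hNJ hn⟩ : J) * ⟨c, hcJ⟩ := Subtype.ext hnc.symm
  rw [hj]
  refine Subgroup.mul_mem _ (Subgroup.mem_sup_left (Subgroup.mem_subgroupOf.2 hn))
    (Subgroup.mem_sup_right ?_)
  intro y hy
  exact Subtype.ext (Subgroup.mem_centralizer_iff.1 hc _ (Subgroup.mem_subgroupOf.1 hy))

/-- Over an intermediate subgroup of index prime to `p` a member of the principal block of `N`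
extends uniquely in the principal block. -/
theorem existsUnique_principal_ext (hM : Cfsg.IsPModular p M) (Q : Sylow p N)
    (hcov : N ⊔ Subgroup.centralizer (((Q : Subgroup N).map N.subtype : Subgroup G) : Set G) = ⊤)
    {θ : IrrCharacter N} (hθ : θ ∈ Cfsg.principalBlock M N)
    (J : Subgroup G) (hNJ : N ≤ J) (hidx : ¬ p ∣ N.relIndex J) :
    ∃! ξ : IrrCharacter J, ξ ∈ Cfsg.principalBlock M J ∧
      ∀ n : N, ξ.1 (Subgroup.inclusion hNJ n) = θ.1 n := by
  classical
  have := hM.2.1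
  obtain ⟨Q', hS⟩ := prSetup_of_cover N hM Q hcov J hNJ hidx
  let e := Subgroup.subgroupOfEquivOfLe hNJ
  have hθ' : irrCongr e θ ∈ Cfsg.principalBlock M (N.subgroupOf J) :=
    (H42.sameBlock_irrCongr_iff (M := M) e (H26.oneIrr N) θ).2 hθ
  obtain ⟨ξ, ⟨hξB, hξ⟩, huniq⟩ := hS.restriction_bijective.2 _ hθ'
  have hiff : ∀ η : IrrCharacter J, (∀ n : N.subgroupOf J, η.1 n = (irrCongr e θ).1 n) ↔
      ∀ n : N, η.1 (Subgroup.inclusion hNJ n) = θ.1 n := fun η =>
    ⟨fun h n => by
      have h1 := h ⟨Subgroup.inclusion hNJ n, n.2⟩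
      exact h1,
    fun h n => by
      rw [H43.irrCongr_apply, ← h (e n)]
      exact congrArg η.1 (Subtype.ext rfl)⟩
  exact ⟨ξ, ⟨hξB, (hiff ξ).1 hξ⟩, fun η hη => huniq η ⟨hη.1, (hiff η).2 hη.2⟩⟩

variable (M p) in
/-- In the principal block on every `N ⊔ ⟨x⟩`, `x` regular. -/
def LocallyPrincipal (χ : IrrCharacter G) : Prop :=
  ∀ x : G, ¬ p ∣ orderOf x → ∃ ξ : IrrCharacter ↥(N ⊔ Subgroup.zpowers x),
    ξ ∈ Cfsg.principalBlock M ↥(N ⊔ Subgroup.zpowers x) ∧ ∀ y, ξ.1 y = χ.1 (y : G)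

omit [Fintype G] [Fintype N] in
/-- The index of `N` in `N ⊔ ⟨x⟩` is prime to `p`. -/
theorem relIndex_sup_zpowers {x : G} (hx : ¬ p ∣ orderOf x) :
    ¬ p ∣ N.relIndex (N ⊔ Subgroup.zpowers x) := by
  rw [Subgroup.relIndex_sup_left]
  intro h
  refine hx (h.trans ((Subgroup.index_dvd_card _).trans ?_))
  rw [Nat.card_zpowers]

/-- Two locally principal extensions differ by a character trivial on regular elements. -/
theorem LocallyPrincipal.twist_eq_one (hM : Cfsg.IsPModular p M) (Q : Sylow p N)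
    (hcov : N ⊔ Subgroup.centralizer (((Q : Subgroup N).map N.subtype : Subgroup G) : Set G) = ⊤)
    {θ : IrrCharacter N} (hθ : θ ∈ Cfsg.principalBlock M N) {χ : IrrCharacter G}
    (hres : ∀ n : N, χ.1 n = θ.1 n) {ν : G →* ℂˣ} (hν : ∀ n ∈ N, ν n = 1)
    (h1 : LocallyPrincipal p M N χ) (h2 : LocallyPrincipal p M N (irrTwist χ ν))
    {x : G} (hx : ¬ p ∣ orderOf x) : ν x = 1 := by
  classical
  set J := N ⊔ Subgroup.zpowers x
  have hNJ : N ≤ J := le_sup_left
  obtain ⟨ξ, hξ, hξv⟩ := h1 x hx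
  obtain ⟨ξ', hξ', hξv'⟩ := h2 x hx
  obtain ⟨η, -, huniq⟩ :=
    existsUnique_principal_ext N hM Q hcov hθ J hNJ (relIndex_sup_zpowers N hx)
  have e : ξ' = ξ :=
    (huniq ξ' ⟨hξ', fun n => by
      rw [hξv', H43.irrTwist_apply]
      show χ.1 (n : G) * (ν (n : G) : ℂ) = _
      rw [hν n n.2, Units.val_one, mul_one, hres]⟩).trans
    (huniq ξ ⟨hξ, fun n => by rw [hξv]; exact hres n⟩).symm
  have htw : irrTwist ξ (ν.comp J.subtype) = irrTwist ξ 1 := by
    refine Subtype.ext (funext fun y => ?_)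
    rw [H43.irrTwist_apply, H43.irrTwist_apply, MonoidHom.one_apply, Units.val_one, mul_one,
      hξv]
    have := congrArg (fun η : IrrCharacter J => η.1 y) e
    rw [hξv', H43.irrTwist_apply, hξv] at this
    exact this
  have : Fintype J := Fintype.ofFinite _
  have : Fintype (N.subgroupOf J) := Fintype.ofFinite _
  have hirr : Cfsg.IsIrrCharacter (N.subgroupOf J) fun n : N.subgroupOf J => ξ.1 n := by
    let e' := Subgroup.subgroupOfEquivOfLe hNJ
    have : (fun n : N.subgroupOf J => ξ.1 n) = (irrCongr e' θ).1 := funext fun n => by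
      rw [H43.irrCongr_apply, ← hres, hξv]
      rfl
    rw [this]
    exact (irrCongr e' θ).2
  have h := irrTwist_inj_of_ext (N.subgroupOf J) ξ hirr
    (fun n hn => hν _ (Subgroup.mem_subgroupOf.1 hn)) (fun n _ => MonoidHom.one_apply n) htw
  exact DFunLike.congr_fun h ⟨x, Subgroup.mem_sup_right (Subgroup.mem_zpowers x)⟩

/-- Locally principal extensions are unique given the determinantal order. -/
theorem LocallyPrincipal.eq (hM : Cfsg.IsPModular p M) (Q : Sylow p N)
    (hcov : N ⊔ Subgroup.centralizer (((Q : Subgroup N).map N.subtype : Subgroup G) : Set G) = ⊤)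
    {θ : IrrCharacter N} (hθ : θ ∈ Cfsg.principalBlock M N)
    (hd : ¬ p ∣ Cfsg.charDegree θ.1) {χ χ' : IrrCharacter G}
    (hres : ∀ n : N, χ.1 n = θ.1 n) (hres' : ∀ n : N, χ'.1 n = θ.1 n)
    (h1 : LocallyPrincipal p M N χ) (h2 : LocallyPrincipal p M N χ')
    (ho : ¬ p ∣ Cfsg.detOrder χ.1) (ho' : ¬ p ∣ Cfsg.detOrder χ'.1) : χ' = χ := by
  classical
  obtain ⟨ν, hν, rfl⟩ := H43.exists_hom_of_restrict_eq N χ χ' θ hres hres'
  obtain ⟨f, hf, hfo⟩ := H43.exists_detHom (H26.irr_isCharacter χ)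
  have hdχ : Cfsg.charDegree χ.1 = Cfsg.charDegree θ.1 := by
    simp only [Cfsg.charDegree]
    rw [← hres 1, Subgroup.coe_one]
  have hdet : Cfsg.detOrder (irrTwist χ ν).1 = orderOf (f * ν ^ Cfsg.charDegree θ.1) := by
    rw [Cfsg.detOrder, H43.detChar_irrTwist, hf, hdχ, ← H38.orderOf_hom_fun]
    congr 1
  have hν1 : ∀ g : G, ν g = 1 := by
    intro g
    obtain ⟨x, y, rfl, hc, ⟨j, hj⟩, hy⟩ := H40.exists_isPPart p g
    rw [map_mul, LocallyPrincipal.twist_eq_one N hM Q hcov hθ hres hν h1 h2 hy, mul_one]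
    refine orderOf_eq_one_iff.1 (Nat.eq_one_of_dvd_coprimes (a := p ^ j)
      (b := Cfsg.charDegree θ.1 * (Cfsg.detOrder χ.1 * Cfsg.detOrder (irrTwist χ ν).1)) ?_
      (orderOf_dvd_of_pow_eq_one ?_) (orderOf_dvd_of_pow_eq_one ?_))
    · refine Nat.Coprime.pow_left j ((Nat.Prime.coprime_iff_not_dvd hp.out).2 fun h => ?_)
      rcases hp.out.dvd_mul.1 h with h | h
      · exact hd h
      · exact (hp.out.dvd_mul.1 h).elim ho ho'
    · rw [← map_pow, ← hj, pow_orderOf_eq_one, map_one]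
    · have e1 : f x ^ Cfsg.detOrder χ.1 = 1 := by
        rw [hfo]; exact DFunLike.congr_fun (pow_orderOf_eq_one f) x
      have e2 : (f x * ν x ^ Cfsg.charDegree θ.1) ^ Cfsg.detOrder (irrTwist χ ν).1 = 1 := by
        rw [hdet]
        exact DFunLike.congr_fun (pow_orderOf_eq_one (f * ν ^ Cfsg.charDegree θ.1)) x
      have e3 : ((f x * ν x ^ Cfsg.charDegree θ.1) ^ Cfsg.detOrder (irrTwist χ ν).1) ^
          Cfsg.detOrder χ.1 = 1 := by rw [e2, one_pow]
      rw [mul_pow, mul_pow, ← pow_mul (f x), mul_comm (Cfsg.detOrder (irrTwist χ ν).1),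
        pow_mul (f x), e1, one_pow, one_mul, ← pow_mul, ← pow_mul] at e3
      rw [mul_comm (Cfsg.detOrder χ.1)]
      exact e3
  exact Subtype.ext (funext fun g => by rw [H43.irrTwist_apply, hν1, Units.val_one, mul_one])

/-- The locally principal extension with determinantal order prime to `p`. -/
theorem exists_locallyPrincipal (hM : Cfsg.IsPModular p M) (Q : Sylow p N)
    (hcov : N ⊔ Subgroup.centralizer (((Q : Subgroup N).map N.subtype : Subgroup G) : Set G) = ⊤)
    {θ : IrrCharacter N} (hθ : θ ∈ Cfsg.principalBlock M N)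
    (hinv : ∀ g : G, irrConj N g θ = θ) (hd : ¬ p ∣ Cfsg.charDegree θ.1)
    (ho : ¬ p ∣ Cfsg.detOrder θ.1) :
    ∃ χ : IrrCharacter G, (∀ n : N, χ.1 n = θ.1 n) ∧ χ ∈ Cfsg.principalBlock M G ∧
      LocallyPrincipal p M N χ ∧ ¬ p ∣ Cfsg.detOrder χ.1 := by
  classical
  have := hM.2.1
  obtain ⟨E0, hE0i, hE0⟩ := S0888.result N θ.1 θ.2 (fun g n => by
      have h := congrArg (fun η : IrrCharacter N => η.1 n) (hinv g)
      simp only [H43.irrConj_apply] at h
      exact (congrArg θ.1 (Subtype.ext (MulAut.conjNormal_apply g n).symm)).trans h) (fun q hq => by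
    have : Fact q.Prime := ⟨hq⟩
    obtain ⟨S⟩ : Nonempty (Sylow q G) := inferInstance
    set J := N ⊔ (S : Subgroup G)
    have hNJ : N ≤ J := le_sup_left
    have hcopJ : Nat.Coprime J.index q :=
      ((Nat.Prime.coprime_iff_not_dvd hq).2 fun h => S.not_dvd_index
        (h.trans (Subgroup.index_dvd_of_le le_sup_right))).symm
    obtain ⟨s, hs⟩ : ∃ s, N.relIndex J = q ^ s := by
      rw [Subgroup.relIndex_sup_left]
      obtain ⟨a, ha⟩ := IsPGroup.iff_card.1 S.2
      obtain ⟨s, -, hs⟩ := (Nat.dvd_prime_pow hq).1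
        (ha ▸ Subgroup.index_dvd_card (N.subgroupOf (S : Subgroup G)))
      exact ⟨s, hs⟩
    refine ⟨J, hNJ, ?_⟩
    by_cases hqp : q = p
    · subst hqp
      have : Fintype J := Fintype.ofFinite _
      have : Fintype (N.subgroupOf J) := Fintype.ofFinite _
      let e := Subgroup.subgroupOfEquivOfLe hNJ
      have hinv' : ∀ j : J, irrConj (N.subgroupOf J) j (irrCongr e θ) = irrCongr e θ := fun j =>
        Subtype.ext (funext fun n => by
          rw [H43.irrConj_apply, H43.irrCongr_apply, H43.irrCongr_apply]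
          conv_rhs => rw [← hinv (j : G)]
          rw [H43.irrConj_apply]
          exact congrArg θ.1 (Subtype.ext rfl))
      obtain ⟨η, hη, -⟩ := H43.exists_coprime_ext (irrCongr e θ) hinv' (by
        show Nat.Coprime (N.relIndex J) _
        rw [hs]
        refine Nat.Coprime.pow_left s ((Nat.Prime.coprime_iff_not_dvd hq).2 fun h => ?_)
        rcases hq.dvd_mul.1 h with h | h
        · exact ho (by rwa [show Cfsg.detOrder (irrCongr e θ).1 = Cfsg.detOrder θ.1 from
            H43.detOrder_comp_equiv e (H26.irr_isCharacter θ)] at h)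
        · exact hd (by rwa [H43.charDegree_irrCongr] at h))
      exact ⟨η.1, hcopJ, ⟨s, hs⟩, η.2, fun n => (hη ⟨⟨(n : G), hNJ n.2⟩, n.2⟩)⟩
    · obtain ⟨ξ, ⟨-, hξ⟩, -⟩ := existsUnique_principal_ext N hM Q hcov hθ J hNJ (by
        rw [hs]
        exact fun h => hqp (((Nat.prime_dvd_prime_iff_eq hp.out hq).1
          (hp.out.dvd_of_dvd_pow h)).symm))
      exact ⟨ξ.1, hcopJ, ⟨s, hs⟩, ξ.2, hξ⟩)
  obtain ⟨χ0, hres0, hscal⟩ := H42.PrinExt.exists_principal_extension N hM hθ
    (E := ⟨E0, hE0i⟩) hE0 Q fun q => by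
      obtain ⟨g, rfl⟩ := QuotientGroup.mk_surjective q
      obtain ⟨n, hn, c, hc, rfl⟩ := Subgroup.mem_sup_of_normal_left.1
        (hcov ▸ Subgroup.mem_top g : g ∈ N ⊔
          Subgroup.centralizer (((Q : Subgroup N).map N.subtype : Subgroup G) : Set G))
      refine ⟨c, ?_, fun y hy => Subgroup.mem_centralizer_iff.1 hc _ (Subgroup.mem_map_of_mem _ hy)⟩
      rw [QuotientGroup.mk_mul, (QuotientGroup.eq_one_iff n).2 hn, one_mul]
  have hJ := H42.PrinExt.restrict_mem_principalBlock N hres0 hscal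
  -- correct the determinant by a `p`-power twist
  obtain ⟨f, hf, -⟩ := H43.exists_detHom (H26.irr_isCharacter χ0)
  obtain ⟨f₀, hf₀, hf₀o⟩ := H43.exists_detHom (H26.irr_isCharacter θ)
  have hfN : f.comp N.subtype = f₀ := by
    refine MonoidHom.ext fun n => Units.ext ?_
    have h := congrFun (H43.detChar_comp N.subtype (H26.irr_isCharacter χ0)) n
    rw [show (fun x : N => χ0.1 (N.subtype x)) = θ.1 from funext hres0, hf₀, hf] at h
    exact h.symm
  set m := Nat.card G / p ^ (Nat.card G).factorization p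
  set a := (Nat.card G).factorization p
  have hcard : p ^ a * m = Nat.card G := Nat.ordProj_mul_ordCompl_eq_self _ _
  have hmp : ¬ p ∣ m := Nat.not_dvd_ordCompl hp.out Nat.card_pos.ne'
  set d := Cfsg.charDegree θ.1 with hdd
  obtain ⟨u, v, huv⟩ : ∃ u v : ℤ, u * ((m * d : ℕ) : ℤ) + v * ((p ^ a : ℕ) : ℤ) = 1 :=
    Int.isCoprime_iff_gcd_eq_one.mpr (by
      rw [Int.gcd_natCast_natCast]
      exact (Nat.Coprime.pow_left a ((Nat.Prime.coprime_iff_not_dvd hp.out).2
        fun h => (hp.out.dvd_mul.1 h).elim hmp hd)).symm)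
  have hfcard : ∀ g : G, f g ^ Nat.card G = 1 := fun g => by
    rw [← map_pow, pow_card_eq_one', map_one]
  set ν : G →* ℂˣ := (f ^ m) ^ (-u) with hν
  have hνx : ∀ g : G, ν g = (f g ^ m) ^ (-u) := fun g => rfl
  have hνreg : ∀ y : G, ¬ p ∣ orderOf y → ν y = 1 := fun y hy => by
    have : f y ^ m = 1 := by
      rw [← map_pow, orderOf_dvd_iff_pow_eq_one.1 ?_, map_one]
      exact (Nat.Coprime.pow_right a ((Nat.Prime.coprime_iff_not_dvd hp.out).2 hy).symm
        ).dvd_of_dvd_mul_left (hcard ▸ orderOf_dvd_natCard y)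
    rw [hνx, this, one_zpow]
  have hνN : ∀ n ∈ N, ν n = 1 := fun n hn => by
    have h1 : f n ^ m = 1 := by
      have hf0 : (f.comp N.subtype) ⟨n, hn⟩ ^ Cfsg.detOrder θ.1 = 1 := by
        rw [hfN, hf₀o]; exact DFunLike.congr_fun (pow_orderOf_eq_one f₀) _
      have hdvd : Cfsg.detOrder θ.1 ∣ m := by
        have h := (H43.detOrder_dvd_card (H26.irr_isCharacter θ)).trans
          (N.card_subgroup_dvd_card)
        rw [← hcard] at h
        exact (Nat.Coprime.pow_right a
          ((Nat.Prime.coprime_iff_not_dvd hp.out).2 ho).symm).dvd_of_dvd_mul_left h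
      obtain ⟨c, hc⟩ := hdvd
      rw [hc, pow_mul]
      show ((f.comp N.subtype) ⟨n, hn⟩ ^ _) ^ c = 1
      rw [hf0, one_pow]
    rw [hνx, h1, one_zpow]
  refine ⟨irrTwist χ0 ν, fun n => by
    rw [H43.irrTwist_apply, hνN n n.2, Units.val_one, mul_one, hres0], ?_, ?_, ?_⟩
  · refine H42.mem_of_eq_on_regular hM (H26.isPBlock_principalBlock G) (χ := χ0) ?_ fun y hy => by
      rw [H43.irrTwist_apply, hνreg y hy, Units.val_one, mul_one]
    obtain ⟨ξ, hξ, hξv⟩ := hJ ⊤ le_top
    have he : ξ = irrCongr Subgroup.topEquiv χ0 := Subtype.ext (funext fun y => hξv y)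
    rw [he] at hξ
    exact (H42.sameBlock_irrCongr_iff (M := M) (Subgroup.topEquiv (G := G)) (H26.oneIrr G) χ0).1 hξ
  · intro x _
    set J := N ⊔ Subgroup.zpowers x
    obtain ⟨ξ, hξ, hξv⟩ := hJ J le_sup_left
    have : Fintype J := Fintype.ofFinite _
    refine ⟨irrTwist ξ (ν.comp J.subtype), ?_, fun y => ?_⟩
    · refine H42.mem_of_eq_on_regular hM (H26.isPBlock_principalBlock J) hξ fun y hy => ?_
      rw [H43.irrTwist_apply, MonoidHom.comp_apply, Subgroup.coe_subtype,
        hνreg _ (by rwa [Subgroup.orderOf_coe]), Units.val_one, mul_one]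
    · rw [H43.irrTwist_apply, H43.irrTwist_apply, hξv]
      rfl
  · have hdχ : Cfsg.charDegree χ0.1 = d := by
      rw [hdd]
      simp only [Cfsg.charDegree]
      rw [← hres0 1, Subgroup.coe_one]
    have hdet : Cfsg.detOrder (irrTwist χ0 ν).1 = orderOf (f * ν ^ d) := by
      rw [Cfsg.detOrder, H43.detChar_irrTwist, hf, hdχ, ← H38.orderOf_hom_fun]
      congr 1
    rw [hdet]
    refine fun h => hmp (h.trans (orderOf_dvd_of_pow_eq_one (MonoidHom.ext fun g => ?_)))
    show (f g * ((f g ^ m) ^ (-u)) ^ d) ^ m = 1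
    have hμ : (f g ^ m) ^ (p ^ a) = 1 := by rw [← pow_mul, mul_comm, hcard, hfcard]
    rw [mul_pow, ← pow_mul, ← zpow_natCast ((f g ^ m) ^ (-u)), ← zpow_mul]
    conv_lhs => arg 1; rw [← zpow_one (f g ^ m), ← huv]
    rw [← zpow_add, show u * ((m * d : ℕ) : ℤ) + v * ((p ^ a : ℕ) : ℤ) + -u * ((d * m : ℕ) : ℤ) =
      ((p ^ a : ℕ) : ℤ) * v by push_cast; ring, zpow_mul, zpow_natCast, hμ, one_zpow]

end Cfsg.Agent.H45
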