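import Mathlib
import Cfsg.Agent.S3861
import Cfsg.Agent.H22.Frobenius

/-!
Groups in which the real elements of a Sylow 2-subgroup are central in it.
The solvability of groups of odd order is taken as an argument.
-/

set_option autoImplicit false
set_option linter.unusedSectionVars false

namespace Cfsg.Agent.H45.RealCentral

universe u

/-- An element of odd order mapping `x` to `x * d` with `d` fixed, `d² = 1`, fixes `x`. -/
theorem eq_one_of_mul_shift {Q : Type*} [Group Q] (φ : MulAut Q) {n : ℕ} (hn : Odd n)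
    (hφ : φ ^ n = 1) {x d : Q} (hx : φ x = x * d) (hd : φ d = d) (hd2 : d * d = 1) : d = 1 := by
  have key : ∀ k : ℕ, (φ ^ k) x = x * d ^ k := by
    intro k
    induction k with
    | zero => simp
    | succ k ih =>
      rw [pow_succ', MulAut.mul_apply, ih, map_mul, map_pow, hx, hd, mul_assoc, pow_succ']
  have h := key n
  rw [hφ, MulAut.one_apply, left_eq_mul] at h
  obtain ⟨k, rfl⟩ := hn
  rwa [pow_succ, pow_mul, pow_two, hd2, one_pow, one_mul] at h

/-- An automorphism of odd order fixing the involutions of a 2-group in which real elements are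
central is trivial. -/
theorem aut_eq_id {Q : Type*} [Group Q] [Finite Q] (hQ : IsPGroup 2 Q)
    (hreal : ∀ s : Q, IsConj s s⁻¹ → s ∈ Subgroup.center Q) (φ : MulAut Q) {n : ℕ} (hn : Odd n)
    (hφ : φ ^ n = 1) (hinv : ∀ s : Q, s * s = 1 → φ s = s) (x : Q) : φ x = x := by
  suffices h : ∀ m : ℕ, ∀ x : Q, orderOf x = m → φ x = x from h _ x rfl
  intro m
  induction m using Nat.strong_induction_on with
  | _ m ih =>
    intro x hxm
    obtain ⟨k, hk⟩ := IsPGroup.iff_orderOf.1 hQ x
    rcases Nat.eq_zero_or_pos k with rfl | hkpos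
    · rw [pow_zero, orderOf_eq_one_iff] at hk
      subst hk
      exact map_one φ
    have hlt : orderOf (x * x) < m := by
      rw [← pow_two, orderOf_pow' x (by norm_num), ← hxm, hk,
        Nat.gcd_eq_right (dvd_pow_self 2 hkpos.ne')]
      exact Nat.div_lt_self (by positivity) (by norm_num)
    have hsq : φ x * φ x = x * x := by rw [← map_mul]; exact ih _ hlt _ rfl
    set d := x⁻¹ * φ x with hd
    have hφx : φ x = x * d := by rw [hd]; group
    rw [hφx] at hsq ⊢
    have hdx : d * x * d = x := mul_left_cancel (a := x) (by rw [← hsq]; group)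
    have hdc : d ∈ Subgroup.center Q := by
      refine hreal d (isConj_iff.2 ⟨x⁻¹, ?_⟩)
      calc x⁻¹ * d * x⁻¹⁻¹ = x⁻¹ * (d * x * d) * d⁻¹ := by group
        _ = d⁻¹ := by rw [hdx, inv_mul_cancel, one_mul]
    have hd2 : d * d = 1 := by
      rw [← Subgroup.mem_center_iff.1 hdc x, mul_assoc] at hdx
      exact mul_eq_left.1 hdx
    rw [eq_one_of_mul_shift φ hn hφ hφx (hinv d hd2) hd2, mul_one]

variable {G : Type u} [Group G] [Finite G]

/-- The hypothesis passes to every `2`-subgroup. -/
theorem real_central_of_isPGroup (S : Sylow 2 G)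
    (hS : ∀ s : ↥(S : Subgroup G), IsConj s s⁻¹ → s ∈ Subgroup.center ↥(S : Subgroup G))
    (D : Subgroup G) (hD : IsPGroup 2 D) :
    ∀ s : D, IsConj s s⁻¹ → s ∈ Subgroup.center D := by
  obtain ⟨T, hT⟩ := hD.exists_le_sylow
  obtain ⟨c, hc⟩ := MulAction.exists_smul_eq G T S
  have hmem : ∀ d : D, c * (d : G) * c⁻¹ ∈ (S : Subgroup G) := fun d => by
    rw [← hc, Sylow.coe_subgroup_smul, Subgroup.mem_pointwise_smul_iff_inv_smul_mem]
    simpa [MulAut.smul_def, mul_assoc] using hT d.2
  let f : D →* ↥(S : Subgroup G) :=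
    { toFun := fun d => ⟨c * (d : G) * c⁻¹, hmem d⟩
      map_one' := Subtype.ext (by simp)
      map_mul' := fun a b => Subtype.ext (by simp [mul_assoc]) }
  have hf : Function.Injective f := fun a b h => Subtype.ext (by
    simpa [f] using congrArg Subtype.val h)
  intro s hs
  have h := hS (f s) (by rw [← map_inv]; exact f.map_isConj hs)
  refine Subgroup.mem_center_iff.2 fun g => hf ?_
  rw [map_mul, map_mul]
  exact Subgroup.mem_center_iff.1 h (f g)

/-- If all involutions are central, there is a normal 2-complement. -/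
theorem hasNormalPComplement_of_central_involutions (S : Sylow 2 G)
    (hS : ∀ s : ↥(S : Subgroup G), IsConj s s⁻¹ → s ∈ Subgroup.center ↥(S : Subgroup G))
    (hinv : ∀ t : G, t * t = 1 → t ∈ Subgroup.center G) :
    Cfsg.HasNormalPComplement 2 G := by
  haveI : Fact (Nat.Prime 2) := ⟨Nat.prime_two⟩
  refine H22.hasNormalPComplement_of_frobenius fun D hD g hg hcop => ?_
  set φ : MulAut D := D.normalizerMonoidHom ⟨g, hg⟩ with hφdef
  have hφn : φ ^ orderOf g = 1 := by
    rw [hφdef, ← map_pow]
    convert map_one D.normalizerMonoidHom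
    exact Subtype.ext (by simp [pow_orderOf_eq_one])
  have hval : ∀ d : D, ((φ d : D) : G) = g * d * g⁻¹ := fun d => rfl
  have hodd : Odd (orderOf g) := Nat.coprime_two_right.1 hcop
  rw [Subgroup.mem_centralizer_iff]
  intro d hd
  have h := aut_eq_id hD (real_central_of_isPGroup S hS D hD) φ hodd hφn (fun s hs => Subtype.ext ?_)
    ⟨d, hd⟩
  · have := congrArg Subtype.val h
    rw [hval] at this
    change g * d * g⁻¹ = d at this
    exact (mul_inv_eq_iff_eq_mul.1 this).symm
  · rw [hval, Subgroup.mem_center_iff.1 (hinv s (by simpa using congrArg Subtype.val hs)) g,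
      mul_inv_cancel_right]

/-- A real element of odd order has a class of even size. -/
theorem two_dvd_index_of_real {x : G} (hx : x ≠ 1) (hodd : Odd (orderOf x))
    (hreal : IsConj x x⁻¹) : 2 ∣ (Subgroup.centralizer ({x} : Set G)).index := by
  obtain ⟨t, ht⟩ := isConj_iff.1 hreal
  have hxx : x ≠ x⁻¹ := fun h => by
    have h2 : orderOf x ∣ 2 := orderOf_dvd_of_pow_eq_one (by
      rw [pow_two]; nth_rw 2 [h]; exact mul_inv_cancel x)
    rcases (Nat.dvd_prime Nat.prime_two).1 h2 with h1 | h1
    · exact hx (orderOf_eq_one_iff.1 h1)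
    · rw [h1] at hodd; exact absurd hodd (by decide)
  let K : Subgroup G :=
    { carrier := {g | g * x * g⁻¹ = x ∨ g * x * g⁻¹ = x⁻¹}
      one_mem' := Or.inl (by group)
      mul_mem' := fun {a b} ha hb => by
        have e : a * b * x * (a * b)⁻¹ = a * (b * x * b⁻¹) * a⁻¹ := by group
        rcases hb with hb | hb <;> rcases ha with ha | ha
        · exact Or.inl (by rw [e, hb, ha])
        · exact Or.inr (by rw [e, hb, ha])
        · exact Or.inr (by rw [e, hb, ← conj_inv, ha])
        · exact Or.inl (by rw [e, hb, ← conj_inv, ha, inv_inv])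
      inv_mem' := fun {a} ha => by
        rcases ha with ha | ha
        · refine Or.inl ?_
          calc a⁻¹ * x * a⁻¹⁻¹ = a⁻¹ * (a * x * a⁻¹) * a⁻¹⁻¹ := by rw [ha]
            _ = x := by group
        · refine Or.inr ?_
          have h' : a * x⁻¹ * a⁻¹ = x := by rw [← conj_inv, ha, inv_inv]
          calc a⁻¹ * x * a⁻¹⁻¹ = a⁻¹ * (a * x⁻¹ * a⁻¹) * a⁻¹⁻¹ := by rw [h']
            _ = x⁻¹ := by group }
  have hC : ∀ g : G, g ∈ Subgroup.centralizer ({x} : Set G) ↔ g * x * g⁻¹ = x := fun g => by
    rw [Subgroup.mem_centralizer_singleton_iff, mul_inv_eq_iff_eq_mul]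
  have hle : Subgroup.centralizer ({x} : Set G) ≤ K := fun g hg => Or.inl ((hC g).1 hg)
  rw [← Subgroup.relIndex_mul_index hle]
  refine Dvd.dvd.mul_right (dvd_of_eq ?_) _
  refine (Subgroup.index_eq_two_iff.2 ⟨⟨t, Or.inr ht⟩, fun b => ?_⟩).symm
  have e : (b : G) * t * x * ((b : G) * t)⁻¹ = ((b : G) * x * (b : G)⁻¹)⁻¹ := by
    calc _ = (b : G) * (t * x * t⁻¹) * (b : G)⁻¹ := by group
      _ = _ := by rw [ht]; group
  simp only [Subgroup.mem_subgroupOf, Subgroup.coe_mul, hC, e]
  rcases b.2 with h | h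
  · exact Or.inr ⟨h, fun h' => hxx (by rw [h] at h'; exact h'.symm)⟩
  · exact Or.inl ⟨by rw [h, inv_inv], fun h' => hxx (by rw [h] at h'; exact h'.symm)⟩

/-- The statement of S4193, given that groups of odd order are solvable. -/
theorem main
    (hoddsolv : ∀ (H : Type u) [Group H] [Finite H], Odd (Nat.card H) → Group.IsSolvable H)
    (a : ℕ) (h : ∀ x : G, IsConj x x⁻¹ → x ∉ Subgroup.center G →
      ((Subgroup.centralizer ({x} : Set G)).index).factorization 2 = a) (S : Sylow 2 G)
    (hS : ∀ s : ↥(S : Subgroup G), IsConj s s⁻¹ → s ∈ Subgroup.center ↥(S : Subgroup G)) :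
    Group.IsSolvable G ∧
      Cfsg.HasNormalPComplement 2 ↥(Subgroup.closure {g : G | ∃ k : ℕ, orderOf g = 2 ^ k}) := by
  haveI : Fact (Nat.Prime 2) := ⟨Nat.prime_two⟩
  set K := Subgroup.closure {g : G | ∃ k : ℕ, orderOf g = 2 ^ k} with hK
  haveI : Group.IsSolvable ↥(S : Subgroup G) := by
    haveI := S.isPGroup'.isNilpotent
    infer_instance
  by_cases hinv : ∀ t : G, t * t = 1 → t ∈ Subgroup.center G
  · obtain ⟨P, N, hN, hNP⟩ := hasNormalPComplement_of_central_involutions S hS hinv
    haveI := hN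
    have hNodd : Odd (Nat.card N) := by
      rw [← hNP.index_eq_card, Nat.odd_iff]
      have := P.not_dvd_index
      omega
    haveI := hoddsolv N hNodd
    haveI : Group.IsSolvable (G ⧸ N) := by
      have hp : IsPGroup 2 (G ⧸ N) := by
        obtain ⟨k, hk⟩ := IsPGroup.iff_card.1 P.isPGroup'
        refine IsPGroup.of_card (n := k) ?_
        rw [← Subgroup.index_eq_card, hNP.symm.index_eq_card, hk]
      haveI := hp.isNilpotent
      infer_instance
    refine ⟨Group.isSolvable_of_ker_le_range N.subtype (QuotientGroup.mk' N) (by simp), ?_⟩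
    obtain ⟨T⟩ := (inferInstance : Nonempty (Sylow 2 ↥K))
    refine hasNormalPComplement_of_central_involutions T ?_ fun t ht => ?_
    · intro s hs
      have hTp : IsPGroup 2 ((T : Subgroup ↥K).map K.subtype) := T.isPGroup'.map _
      let e := Subgroup.equivMapOfInjective (T : Subgroup ↥K) K.subtype K.subtype_injective
      have hc := real_central_of_isPGroup S hS _ hTp (e s)
        (by rw [← map_inv]; exact e.toMonoidHom.map_isConj hs)
      refine Subgroup.mem_center_iff.2 fun g => e.injective ?_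
      rw [map_mul, map_mul]
      exact Subgroup.mem_center_iff.1 hc (e g)
    · have := hinv t (by simpa using congrArg Subtype.val ht)
      exact Subgroup.mem_center_iff.2 fun g => Subtype.ext (Subgroup.mem_center_iff.1 this g)
  · push Not at hinv
    obtain ⟨t₀, ht₀, ht₀c⟩ := hinv
    have hD : IsPGroup 2 (Subgroup.zpowers t₀) := IsPGroup.of_card (n := 1) (by
      rw [Nat.card_zpowers, pow_one]
      exact orderOf_eq_prime (by rw [pow_two]; exact ht₀) fun e => ht₀c (e ▸ one_mem _))
    obtain ⟨T, hT⟩ := hD.exists_le_sylow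
    have ht₀T : t₀ ∈ (T : Subgroup G) := hT (Subgroup.mem_zpowers t₀)
    have hcent := real_central_of_isPGroup S hS T T.isPGroup' ⟨t₀, ht₀T⟩
      (by rw [show (⟨t₀, ht₀T⟩ : ↥(T : Subgroup G))⁻¹ = ⟨t₀, ht₀T⟩ from
        Subtype.ext (inv_eq_of_mul_eq_one_right ht₀)])
    have ha : a = 0 := by
      rw [← h t₀ (by rw [inv_eq_of_mul_eq_one_right ht₀]) ht₀c]
      refine Nat.factorization_eq_zero_of_not_dvd fun hd => T.not_dvd_index (hd.trans ?_)
      refine Subgroup.index_dvd_of_le fun g hg => ?_
      rw [Subgroup.mem_centralizer_singleton_iff]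
      exact congrArg Subtype.val (Subgroup.mem_center_iff.1 hcent ⟨g, hg⟩)
    have hnorm : (S : Subgroup G).Normal := by
      refine (S3861.result S).1 fun x hx hodd hreal => ?_
      have hxc : x ∉ Subgroup.center G := by
        intro hc
        obtain ⟨c, hc'⟩ := isConj_iff.1 hreal
        rw [Subgroup.mem_center_iff.1 hc c, mul_inv_cancel_right] at hc'
        have h2 : orderOf x ∣ 2 := orderOf_dvd_of_pow_eq_one (by
          rw [pow_two]; nth_rw 2 [hc']; exact mul_inv_cancel x)
        rcases (Nat.dvd_prime Nat.prime_two).1 h2 with h1 | h1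
        · exact hx (orderOf_eq_one_iff.1 h1)
        · rw [h1] at hodd; exact absurd hodd (by decide)
      have := Nat.Prime.factorization_pos_of_dvd Nat.prime_two Subgroup.index_ne_zero_of_finite
        (two_dvd_index_of_real hx hodd hreal)
      rw [h x hreal hxc, ha] at this
      exact lt_irrefl 0 this
    haveI := hnorm
    haveI : Group.IsSolvable (G ⧸ (S : Subgroup G)) := hoddsolv _ (by
      have hnd := S.not_dvd_index
      rw [Subgroup.index_eq_card] at hnd
      exact Nat.odd_iff.mpr (Nat.two_dvd_ne_zero.mp hnd))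
    refine ⟨Group.isSolvable_of_ker_le_range (S : Subgroup G).subtype
      (QuotientGroup.mk' (S : Subgroup G)) (by simp), ?_⟩
    have hKS : K ≤ (S : Subgroup G) := by
      rw [hK, Subgroup.closure_le]
      intro g hg
      obtain ⟨k, hk⟩ := hg
      have hgp : IsPGroup 2 (Subgroup.zpowers g) :=
        IsPGroup.of_card (n := k) (by rw [Nat.card_zpowers, hk])
      obtain ⟨U, hU⟩ := hgp.exists_le_sylow
      letI := Sylow.unique_of_normal S hnorm
      rw [Subsingleton.elim U S] at hU
      exact hU (Subgroup.mem_zpowers g)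
    have hKp : IsPGroup 2 ↥K := S.isPGroup'.to_le hKS
    obtain ⟨P⟩ := (inferInstance : Nonempty (Sylow 2 ↥K))
    refine ⟨P, ⊥, inferInstance, ?_⟩
    have hP : (P : Subgroup ↥K) = ⊤ :=
      (P.is_maximal' (hKp.to_subgroup ⊤) le_top).symm
    rw [hP]
    exact Subgroup.isComplement'_bot_top

end Cfsg.Agent.H45.RealCentral
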