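import Cfsg.Agent.H45.RelInduced
import Cfsg.Agent.H43.Glauberman

/-!
# The Glauberman correspondence relative to a normal Sylow `p`-subgroup

A `p`-group `S` acts on `K`, which has a normal Sylow `p`-subgroup `Q`; `ι : C →* K` presents the
elements fixed modulo `Q`.
-/

set_option autoImplicit false

open scoped ComplexConjugate

namespace Cfsg.Agent.H45

open H43 (InvFun irrConj irrCongr mult restrMult restrictAut)

variable {S K C : Type*} [Group S] [Group K] [Group C] {p : ℕ}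

/-- The hypotheses of the relative correspondence. -/
structure RelData (p : ℕ) (φ : S →* MulAut K) (φC : S →* MulAut C) (ι : C →* K)
    (Q : Subgroup K) : Prop where
  op : OpData p φ Q
  inj : Function.Injective ι
  comm : ∀ s c, ι (φC s c) = φ s (ι c)
  fixed : ∀ k : K, (∀ s, φ s k * k⁻¹ ∈ Q) ↔ ∃ c, ι c = k

variable {φ : S →* MulAut K} {φC : S →* MulAut C} {ι : C →* K} {Q : Subgroup K} [Q.Normal]

omit [Q.Normal] in
theorem RelData.exists_preimage (hd : RelData p φ φC ι Q) {q : K} (hq : q ∈ Q) :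
    ∃ c, ι c = q :=
  (hd.fixed q).1 fun s => Q.mul_mem (hd.op.qinv s q hq) (Q.inv_mem hq)

theorem RelData.opC (hd : RelData p φ φC ι Q) : OpData p φC (Q.comap ι) := by
  refine ⟨hd.op.prime, hd.op.pgroup, hd.op.qgroup.comap_of_injective ι hd.inj, fun h => ?_, ?_⟩
  · rw [Subgroup.index_comap] at h
    exact hd.op.index (h.trans (Subgroup.relIndex_dvd_index_of_normal Q ι.range))
  · intro s q hq
    rw [Subgroup.mem_comap, hd.comm]
    exact hd.op.qinv s _ hq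

/-- `Q` seen in `C`. -/
noncomputable def RelData.eQ (hd : RelData p φ φC ι Q) : ↥(Q.comap ι) ≃* ↥Q :=
  MulEquiv.ofBijective ((ι.comp (Q.comap ι).subtype).codRestrict Q fun n => n.2)
    ⟨fun a b h => Subtype.ext (hd.inj (congrArg Subtype.val h)), fun q => by
      obtain ⟨c, hc⟩ := hd.exists_preimage q.2
      exact ⟨⟨c, by rw [Subgroup.mem_comap, hc]; exact q.2⟩, Subtype.ext hc⟩⟩

theorem RelData.eQ_coe (hd : RelData p φ φC ι Q) (n : ↥(Q.comap ι)) :
    ((hd.eQ n : ↥Q) : K) = ι (n : C) := rfl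

/-- A character of `Q` seen in `C`. -/
noncomputable def RelData.thetaC (hd : RelData p φ φC ι Q) (θ : Cfsg.IrrCharacter Q) :
    Cfsg.IrrCharacter ↥(Q.comap ι) :=
  irrCongr hd.eQ θ

theorem RelData.thetaC_inv (hd : RelData p φ φC ι Q) {θ : Cfsg.IrrCharacter Q}
    (hθ : InvFun hd.op.act θ.1) : InvFun hd.opC.act (hd.thetaC θ).1 := by
  intro s n
  show θ.1 (hd.eQ (hd.opC.act s n)) = θ.1 (hd.eQ n)
  rw [show hd.eQ (hd.opC.act s n) = hd.op.act s (hd.eQ n) from Subtype.ext (hd.comm s n), hθ]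

theorem RelData.irrConj_thetaC (hd : RelData p φ φC ι Q) (c : C) (θ : Cfsg.IrrCharacter Q) :
    irrConj (Q.comap ι) c (hd.thetaC θ) = hd.thetaC (irrConj Q (ι c) θ) :=
  Subtype.ext (funext fun n => by
    show θ.1 (hd.eQ (MulAut.conjNormal c n)) = θ.1 (MulAut.conjNormal (ι c) (hd.eQ n))
    exact congrArg θ.1 (Subtype.ext (by simp [RelData.eQ_coe, MulAut.conjNormal_apply])))

theorem RelData.thetaC_injective (hd : RelData p φ φC ι Q) :
    Function.Injective hd.thetaC :=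
  (H43.irrCongrEquiv hd.eQ).injective

theorem RelData.exists_thetaC (hd : RelData p φ φC ι Q) {θ' : Cfsg.IrrCharacter ↥(Q.comap ι)}
    (hθ' : InvFun hd.opC.act θ'.1) :
    ∃ θ : Cfsg.IrrCharacter Q, InvFun hd.op.act θ.1 ∧ hd.thetaC θ = θ' := by
  refine ⟨irrCongr hd.eQ.symm θ', fun s q => ?_, (H43.irrCongrEquiv hd.eQ).apply_symm_apply θ'⟩
  show θ'.1 (hd.eQ.symm (hd.op.act s q)) = θ'.1 (hd.eQ.symm q)
  rw [show hd.eQ.symm (hd.op.act s q) = hd.opC.act s (hd.eQ.symm q) from by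
    rw [MulEquiv.symm_apply_eq]
    apply Subtype.ext
    show φ s (q : K) = ι (φC s (hd.eQ.symm q : C))
    rw [hd.comm, ← hd.eQ_coe, MulEquiv.apply_symm_apply], hθ']

theorem RelData.mem_inertia (hd : RelData p φ φC ι Q) (θ : Cfsg.IrrCharacter Q) (c : C) :
    c ∈ inertiaSub (hd.thetaC θ) ↔ ι c ∈ inertiaSub θ := by
  rw [mem_inertiaSub, mem_inertiaSub, hd.irrConj_thetaC]
  exact hd.thetaC_injective.eq_iff

/-- The inclusion of the inertia groups. -/
noncomputable def RelData.jT (hd : RelData p φ φC ι Q) (θ : Cfsg.IrrCharacter Q) :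
    ↥(inertiaSub (hd.thetaC θ)) →* ↥(inertiaSub θ) :=
  (ι.comp (inertiaSub (hd.thetaC θ)).subtype).codRestrict _ fun c => (hd.mem_inertia θ c).1 c.2

theorem RelData.jT_coe (hd : RelData p φ φC ι Q) (θ : Cfsg.IrrCharacter Q)
    (c : ↥(inertiaSub (hd.thetaC θ))) : ((hd.jT θ c : ↥(inertiaSub θ)) : K) = ι (c : C) := rfl

/-- The inclusion of the quotients of the inertia groups. -/
noncomputable def RelData.jBar (hd : RelData p φ φC ι Q) (θ : Cfsg.IrrCharacter Q) [Finite C]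
    [Finite K] :
    ↥(inertiaSub (hd.thetaC θ)) ⧸ (Q.comap ι).subgroupOf (inertiaSub (hd.thetaC θ)) →*
      ↥(inertiaSub θ) ⧸ Q.subgroupOf (inertiaSub θ) :=
  QuotientGroup.map _ _ (hd.jT θ) fun _ hx => hx

variable [Fintype K] [Fintype C]

theorem RelData.glaubermanData (hd : RelData p φ φC ι Q) {θ : Cfsg.IrrCharacter Q}
    [Fintype Q] [Fintype ↥(inertiaSub θ)] (hθ : InvFun hd.op.act θ.1) :
    H43.GlaubermanData p (hd.op.quotAct hθ) (hd.jBar θ) := by
  refine ⟨hd.op.prime, hd.op.pgroup, fun h => ?_, ?_, fun x => ?_⟩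
  · rw [← Subgroup.index_eq_card] at h
    exact hd.op.index (h.trans (Subgroup.relIndex_dvd_index_of_normal Q _))
  · rw [injective_iff_map_eq_one]
    intro x hx
    induction x using QuotientGroup.induction_on with | _ c =>
    exact (QuotientGroup.eq_one_iff c).2 ((QuotientGroup.eq_one_iff (hd.jT θ c)).1 hx)
  induction x using QuotientGroup.induction_on with | _ t =>
  constructor
  · intro h
    have h1 : ∀ s, φ s (t : K) * (t : K)⁻¹ ∈ Q := by
      intro s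
      have h2 := h s
      rw [OpData.quotAct, quotMulAut_mk, QuotientGroup.eq_iff_div_mem, div_eq_mul_inv,
        Subgroup.mem_subgroupOf] at h2
      exact h2
    obtain ⟨c, hc⟩ := (hd.fixed (t : K)).1 h1
    refine ⟨((⟨c, (hd.mem_inertia θ c).2 (by rw [hc]; exact t.2)⟩ :
      ↥(inertiaSub (hd.thetaC θ))) : _ ⧸ _), ?_⟩
    exact congrArg _ (Subtype.ext hc)
  · rintro ⟨y, hy⟩ s
    induction y using QuotientGroup.induction_on with | _ c =>
    rw [← hy]
    show hd.op.quotAct hθ s ((hd.jT θ c : ↥(inertiaSub θ)) : _ ⧸ _) = ((hd.jT θ c : _) : _ ⧸ _)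
    rw [OpData.quotAct, quotMulAut_mk, QuotientGroup.eq_iff_div_mem, div_eq_mul_inv,
      Subgroup.mem_subgroupOf]
    exact (hd.fixed (ι (c : C))).2 ⟨c, rfl⟩ s

variable [Fintype Q] [Fintype ↥(Q.comap ι)]

theorem RelData.quotAct_eq (hd : RelData p φ φC ι Q) {θ : Cfsg.IrrCharacter Q}
    [Fintype ↥(inertiaSub θ)] [Fintype ↥(inertiaSub (hd.thetaC θ))]
    (hθ : InvFun hd.op.act θ.1) (s : S)
    (x : ↥(inertiaSub (hd.thetaC θ)) ⧸ (Q.comap ι).subgroupOf (inertiaSub (hd.thetaC θ))) :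
    hd.opC.quotAct (hd.thetaC_inv hθ) s x = x := by
  apply (hd.glaubermanData hθ).inj
  refine Eq.trans ?_ ((hd.glaubermanData hθ).fixed_apply s x)
  induction x using QuotientGroup.induction_on with | _ c =>
  exact congrArg QuotientGroup.mk (Subtype.ext (hd.comm s c))

/-- A constituent over `θ` in `C` forces `θ` below the character of `K`. -/
theorem RelData.restrMult_ne_zero (hd : RelData p φ φC ι Q) (θ : Cfsg.IrrCharacter Q)
    (χ : Cfsg.IrrCharacter K) (ξ : Cfsg.IrrCharacter C)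
    (hm : mult (fun c => χ.1 (ι c)) ξ ≠ 0) (hξ : restrMult (Q.comap ι) ξ (hd.thetaC θ) ≠ 0) :
    restrMult Q χ θ ≠ 0 := by
  have h : restrMult Q χ θ = ∑ η : Cfsg.IrrCharacter C,
      mult (fun c => χ.1 (ι c)) η * restrMult (Q.comap ι) η (hd.thetaC θ) :=
    (mult_congr hd.eQ (fun n : Q => χ.1 n) θ).symm.trans
      (H43.mult_comp (Q.comap ι).subtype (H26.isCharacter_comp (H26.irr_isCharacter χ) ι)
        (hd.thetaC θ))
  rw [h]
  exact fun h0 => mul_ne_zero hm hξ (Finset.sum_eq_zero_iff.1 h0 ξ (Finset.mem_univ ξ))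

/-- An invariant extension in `K` gives one in `C`. -/
theorem RelData.exists_extC (hd : RelData p φ φC ι Q) {θ : Cfsg.IrrCharacter Q}
    (hθ : InvFun hd.op.act θ.1) {E : Cfsg.IrrCharacter ↥(inertiaSub θ)} (hE : IsExt θ E)
    (hEi : InvFun (restrictAut φ (inertiaSub θ) (hd.op.inertia_inv hθ)) E.1) :
    ∃ E' : Cfsg.IrrCharacter ↥(inertiaSub (hd.thetaC θ)),
      (∀ c, E'.1 c = E.1 (hd.jT θ c)) ∧ IsExt (hd.thetaC θ) E' ∧
      InvFun (restrictAut φC (inertiaSub (hd.thetaC θ))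
        (hd.opC.inertia_inv (hd.thetaC_inv hθ))) E'.1 := by
  classical
  have : Fintype ↥(inertiaSub (hd.thetaC θ)) := Fintype.ofFinite _
  have : Fintype ↥((Q.comap ι).subgroupOf (inertiaSub (hd.thetaC θ))) := Fintype.ofFinite _
  have hres : ∀ n : ↥(Q.comap ι),
      E.1 (hd.jT θ (Subgroup.inclusion (le_inertiaSub (hd.thetaC θ)) n)) = (hd.thetaC θ).1 n :=
    fun n => hE (hd.eQ n)
  have hirr := isIrrCharacter_of_restrict ((Q.comap ι).subgroupOf (inertiaSub (hd.thetaC θ)))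
    (H26.isCharacter_comp (H26.irr_isCharacter E) (hd.jT θ)) (by
      have e : (fun n : ↥((Q.comap ι).subgroupOf (inertiaSub (hd.thetaC θ))) =>
          E.1 (hd.jT θ n)) = (irrCongr (Subgroup.subgroupOfEquivOfLe
            (le_inertiaSub (hd.thetaC θ))) (hd.thetaC θ)).1 :=
        funext fun n => hres ⟨_, Subgroup.mem_subgroupOf.1 n.2⟩
      rw [show (fun n : ↥((Q.comap ι).subgroupOf (inertiaSub (hd.thetaC θ))) =>
        (E.1 ∘ hd.jT θ) n) = _ from e]
      exact Subtype.prop _)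
  refine ⟨⟨E.1 ∘ hd.jT θ, hirr⟩, fun c => rfl, hres, fun s c => ?_⟩
  show E.1 (hd.jT θ _) = E.1 (hd.jT θ c)
  refine Eq.trans (congrArg E.1 ?_) (hEi s (hd.jT θ c))
  exact Subtype.ext (hd.comm s c)

/-- Multiplicities in the restriction to `C` are Glauberman multiplicities. -/
theorem RelData.mult_eq_resMult (hd : RelData p φ φC ι Q) {θ : Cfsg.IrrCharacter Q}
    [Fintype ↥(inertiaSub θ)] [Fintype ↥(inertiaSub (hd.thetaC θ))]
    [Fintype (Q.subgroupOf (inertiaSub θ))]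
    [Fintype (↥(inertiaSub θ) ⧸ Q.subgroupOf (inertiaSub θ))]
    [Fintype ↥((Q.comap ι).subgroupOf (inertiaSub (hd.thetaC θ)))]
    [Fintype (↥(inertiaSub (hd.thetaC θ)) ⧸ (Q.comap ι).subgroupOf (inertiaSub (hd.thetaC θ)))]
    {E : Cfsg.IrrCharacter ↥(inertiaSub θ)} (hE : IsExt θ E)
    {E' : Cfsg.IrrCharacter ↥(inertiaSub (hd.thetaC θ))} (hE' : IsExt (hd.thetaC θ) E')
    (hEE : ∀ c, E'.1 c = E.1 (hd.jT θ c))
    (η : Cfsg.IrrCharacter (↥(inertiaSub θ) ⧸ Q.subgroupOf (inertiaSub θ)))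
    (γ : Cfsg.IrrCharacter
      (↥(inertiaSub (hd.thetaC θ)) ⧸ (Q.comap ι).subgroupOf (inertiaSub (hd.thetaC θ))))
    (χ : Cfsg.IrrCharacter K) (hχ : Cfsg.indFun (inertiaSub θ) (extIrr hE η).1 = χ.1)
    (ξ : Cfsg.IrrCharacter C)
    (hξ : Cfsg.indFun (inertiaSub (hd.thetaC θ)) (extIrr hE' γ).1 = ξ.1) :
    mult (fun c => χ.1 (ι c)) ξ = H43.resMult (hd.jBar θ) η γ := by
  classical
  have hcl : Cfsg.IsClassFunction C (fun c => χ.1 (ι c)) :=
    H26.isClassFunction_of_isCharacter (H26.isCharacter_comp (H26.irr_isCharacter χ) ι)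
  have h1 : mult (fun c => χ.1 (ι c)) ξ =
      mult (fun c : ↥(inertiaSub (hd.thetaC θ)) => χ.1 (hd.jT θ c)) (extIrr hE' γ) := by
    refine H43.mult_eq_of_classInner ?_
    rw [H26.classInner_comm, ← hξ, H25.classInner_indFun_left _ _ _ hcl, ← H26.classInner_comm]
    exact H43.classInner_eq_mult (φ := fun c : ↥(inertiaSub (hd.thetaC θ)) => χ.1 (hd.jT θ c))
      (H26.isCharacter_comp (H26.irr_isCharacter χ) ((inertiaSub θ).subtype.comp (hd.jT θ))) _
  have h2 : mult (fun c : ↥(inertiaSub (hd.thetaC θ)) => χ.1 (hd.jT θ c)) (extIrr hE' γ) =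
      ∑ ζ : Cfsg.IrrCharacter ↥(inertiaSub θ), mult (fun t : inertiaSub θ => χ.1 t) ζ *
        mult (fun c => ζ.1 (hd.jT θ c)) (extIrr hE' γ) :=
    H43.mult_comp (hd.jT θ)
      (H26.isCharacter_comp (H26.irr_isCharacter χ) (inertiaSub θ).subtype) _
  have hover : ∀ ζ : Cfsg.IrrCharacter ↥(inertiaSub θ),
      mult (fun c => ζ.1 (hd.jT θ c)) (extIrr hE' γ) ≠ 0 → OverInertia θ ζ := by
    intro ζ hζ
    have h : mult (fun n : Q => ζ.1 (Subgroup.inclusion (le_inertiaSub θ) n)) θ =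
        ∑ ω : Cfsg.IrrCharacter ↥(inertiaSub (hd.thetaC θ)),
          mult (fun c => ζ.1 (hd.jT θ c)) ω *
            mult (fun n : ↥(Q.comap ι) =>
              ω.1 (Subgroup.inclusion (le_inertiaSub (hd.thetaC θ)) n)) (hd.thetaC θ) :=
      (mult_congr hd.eQ _ θ).symm.trans (H43.mult_comp (Subgroup.inclusion (le_inertiaSub _))
        (H26.isCharacter_comp (H26.irr_isCharacter ζ) (hd.jT θ)) _)
    unfold OverInertia
    rw [h]
    exact fun h0 => mul_ne_zero hζ (overInertia_extIrr hE' γ)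
      (Finset.sum_eq_zero_iff.1 h0 _ (Finset.mem_univ _))
  rw [h1, h2, Finset.sum_eq_single (extIrr hE η)]
  · rw [mult_eq_one_of_indFun χ hχ, one_mul]
    refine H43.mult_eq_of_classInner ?_
    have e : (fun c => (extIrr hE η).1 (hd.jT θ c)) =
        extMul _ E' (fun x => η.1 (hd.jBar θ x)) := funext fun c => by
      show E.1 (hd.jT θ c) * η.1 _ = E'.1 c * η.1 _
      rw [hEE]
      rfl
    rw [e]
    exact (classInner_extMul _ E' hE'.irr_restrict _ γ.1).trans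
      (H43.classInner_eq_mult (H43.isCharacter_res (ι := hd.jBar θ) η) γ)
  · intro ζ _ hne
    by_contra h0
    refine hne (constituent_unique χ (hover ζ (right_ne_zero_of_mul h0))
      (overInertia_extIrr hE η) (left_ne_zero_of_mul h0) ?_)
    rw [mult_eq_one_of_indFun χ hχ]
    exact one_ne_zero
  · exact fun h => absurd (Finset.mem_univ _) h

/-- The orbits in `K` and `C` have congruent sizes. -/
theorem RelData.index_modEq (hd : RelData p φ φC ι Q) {θ : Cfsg.IrrCharacter Q}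
    (hθ : InvFun hd.op.act θ.1) :
    (inertiaSub θ).index ≡ (inertiaSub (hd.thetaC θ)).index [MOD p] := by
  classical
  have : Fact p.Prime := ⟨hd.op.prime⟩
  let O := Set.range fun g : K => irrConj Q g θ
  have hmove : ∀ s : S, ∀ θ' ∈ O, irrCongr (hd.op.act s) θ' ∈ O := by
    rintro s _ ⟨g, rfl⟩
    refine ⟨φ s⁻¹ g, ?_⟩
    have h := hd.op.irrCongr_irrConj s (φ s⁻¹ g) θ
    rw [show φ s (φ s⁻¹ g) = g by rw [← MulAut.mul_apply, ← map_mul, mul_inv_cancel, map_one,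
      MulAut.one_apply], H43.irrCongr_eq_self_of_invFun hθ s] at h
    exact h.symm
  letI := H43.irrAction hd.op.act
  letI : MulAction S O :=
    { smul := fun s θ' => ⟨s • θ'.1, hmove s⁻¹ θ'.1 θ'.2⟩
      one_smul := fun θ' => Subtype.ext (one_smul S θ'.1)
      mul_smul := fun s t θ' => Subtype.ext (mul_smul s t θ'.1) }
  have hfix : ∀ θ' : O, θ' ∈ MulAction.fixedPoints S O ↔ InvFun hd.op.act θ'.1.1 := fun θ' =>
    ⟨fun h => (H43.mem_fixedPoints_irrAction hd.op.act θ'.1).1 fun s => congrArg Subtype.val (h s),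
      fun h s => Subtype.ext ((H43.mem_fixedPoints_irrAction hd.op.act θ'.1).2 h s)⟩
  rw [← card_conj_orbit θ, ← card_conj_orbit (hd.thetaC θ)]
  refine (hd.op.pgroup.card_modEq_card_fixedPoints O).trans ?_
  suffices h : Nat.card (MulAction.fixedPoints S O) =
      Nat.card (Set.range fun c : C => irrConj (Q.comap ι) c (hd.thetaC θ)) by rw [h]
  refine Nat.card_eq_of_bijective (fun θ' => ⟨hd.thetaC θ'.1.1, ?_⟩) ⟨?_, ?_⟩
  · obtain ⟨g, hg⟩ := θ'.1.2
    obtain ⟨k, hk, hkf⟩ := hd.op.exists_fixed_conj hθ ((hfix θ'.1).1 θ'.2) hg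
    obtain ⟨c, hc⟩ := (hd.fixed k).1 hkf
    refine ⟨c, ?_⟩
    show irrConj (Q.comap ι) c (hd.thetaC θ) = _
    rw [hd.irrConj_thetaC, hc, hk]
  · intro a b h
    exact Subtype.ext (Subtype.ext (hd.thetaC_injective (congrArg Subtype.val h)))
  · rintro ⟨_, c, rfl⟩
    have hmem : irrConj Q (ι c) θ ∈ O := ⟨ι c, rfl⟩
    have hinv : InvFun hd.op.act (irrConj Q (ι c) θ).1 := by
      intro s n
      have h := hd.op.irrCongr_irrConj s (ι c) θ
      have hc : irrConj Q (φ s (ι c)) θ = irrConj Q (ι c) θ := by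
        have h1 := (hd.fixed (ι c)).2 ⟨c, rfl⟩ s
        rw [show φ s (ι c) = φ s (ι c) * (ι c)⁻¹ * ι c from (inv_mul_cancel_right _ _).symm,
          ← H43.irrConj_irrConj Q (ι c) (φ s (ι c) * (ι c)⁻¹),
          mem_inertiaSub.1 (le_inertiaSub θ h1)]
      rw [hc, H43.irrCongr_eq_self_of_invFun hθ s] at h
      exact congrFun (congrArg Subtype.val h) n
    refine ⟨⟨⟨_, hmem⟩, (hfix _).2 hinv⟩, Subtype.ext ?_⟩
    exact (hd.irrConj_thetaC c θ).symm

/-- The correspondent of an invariant character. -/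
theorem RelData.exists_correspondent (hd : RelData p φ φC ι Q) (χ : Cfsg.IrrCharacter K)
    (hχ : InvFun φ χ.1) :
    ∃ ξ : Cfsg.IrrCharacter C, InvFun φC ξ.1 ∧
      ((mult (fun c => χ.1 (ι c)) ξ : ZMod p) = 1 ∨
        (mult (fun c => χ.1 (ι c)) ξ : ZMod p) = -1) ∧
      (∀ ξ' : Cfsg.IrrCharacter C, InvFun φC ξ'.1 → ξ' ≠ ξ →
        p ∣ mult (fun c => χ.1 (ι c)) ξ') ∧
      (∀ χ' : Cfsg.IrrCharacter K, InvFun φ χ'.1 → χ' ≠ χ →
        p ∣ mult (fun c => χ'.1 (ι c)) ξ) ∧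
      ((Cfsg.charDegree ξ.1 : ZMod p) = (Cfsg.charDegree χ.1 : ZMod p) ∨
        (Cfsg.charDegree ξ.1 : ZMod p) = -(Cfsg.charDegree χ.1 : ZMod p)) := by
  classical
  have : Fact p.Prime := ⟨hd.op.prime⟩
  obtain ⟨θ, hθ, hθχ⟩ := hd.op.exists_inv_below χ hχ
  have : Fintype ↥(inertiaSub θ) := Fintype.ofFinite _
  have : Fintype ↥(inertiaSub (hd.thetaC θ)) := Fintype.ofFinite _
  have : Fintype (Q.subgroupOf (inertiaSub θ)) := Fintype.ofFinite _
  have : Fintype ↥((Q.comap ι).subgroupOf (inertiaSub (hd.thetaC θ))) := Fintype.ofFinite _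
  have : Fintype (↥(inertiaSub θ) ⧸ Q.subgroupOf (inertiaSub θ)) := Fintype.ofFinite _
  have : Fintype (↥(inertiaSub (hd.thetaC θ)) ⧸
      (Q.comap ι).subgroupOf (inertiaSub (hd.thetaC θ))) := Fintype.ofFinite _
  obtain ⟨E, hE, hEi⟩ := hd.op.exists_ext hθ
  obtain ⟨E', hEE, hE', hE'i⟩ := hd.exists_extC hθ hE hEi
  have hG := hd.glaubermanData hθ
  have hdec : ∀ χ' : Cfsg.IrrCharacter K, InvFun φ χ'.1 → restrMult Q χ' θ ≠ 0 →
      ∃ η, InvFun (hd.op.quotAct hθ) η.1 ∧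
        Cfsg.indFun (inertiaSub θ) (extIrr hE η).1 = χ'.1 := by
    intro χ' hχ' hθ'
    obtain ⟨ζ, hζ, hm⟩ := exists_constituent χ' hθ'
    obtain ⟨η, rfl⟩ := exists_extIrr hE hζ
    have e := indFun_eq_of_constituent χ' hζ hm
    exact ⟨η, (hd.op.invFun_indFun_iff hθ hE hEi η χ' e).1 hχ', e⟩
  obtain ⟨η, hη, hχe⟩ := hdec χ hχ hθχ
  obtain ⟨γ, hγ, hγu⟩ := hG.existsUnique η hη
  let ξ : Cfsg.IrrCharacter C := ⟨_, (indFun_over (overInertia_extIrr hE' γ)).1⟩
  have hξe : Cfsg.indFun (inertiaSub (hd.thetaC θ)) (extIrr hE' γ).1 = ξ.1 := rfl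
  have hξθ : restrMult (Q.comap ι) ξ (hd.thetaC θ) ≠ 0 :=
    restrMult_ne_zero_of_constituent ξ (overInertia_extIrr hE' γ)
      (by rw [mult_eq_one_of_indFun ξ hξe]; exact one_ne_zero)
  have hξi : InvFun φC ξ.1 :=
    (hd.opC.invFun_indFun_iff (hd.thetaC_inv hθ) hE' hE'i γ ξ hξe).2
      fun s x => by rw [hd.quotAct_eq hθ s x]
  have hmγ := hd.mult_eq_resMult hE hE' hEE η γ χ hχe ξ hξe
  have hpm : (H43.resMult (hd.jBar θ) η γ : ZMod p) = 1 ∨
      (H43.resMult (hd.jBar θ) η γ : ZMod p) = -1 := by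
    rcases hG.mult_pm_one η hη γ hγ with h | h
    · left
      have := (ZMod.intCast_eq_intCast_iff _ _ p).2 h
      simpa using this
    · right
      have := (ZMod.intCast_eq_intCast_iff _ _ p).2 h
      simpa using this
  refine ⟨ξ, hξi, hmγ ▸ hpm, ?_, ?_, ?_⟩
  · intro ξ' hξ' hne
    by_contra hnd
    have hm0 : mult (fun c => χ.1 (ι c)) ξ' ≠ 0 := fun h => hnd (h ▸ dvd_zero p)
    obtain ⟨θ', hθ', hθ'ξ⟩ := hd.opC.exists_inv_below ξ' hξ'
    obtain ⟨θ₁, hθ₁, rfl⟩ := hd.exists_thetaC hθ'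
    obtain ⟨g, hg⟩ := H43.exists_irrConj_of_restrMult_ne_zero Q χ hθχ
      (hd.restrMult_ne_zero θ₁ χ ξ' hm0 hθ'ξ)
    obtain ⟨k, hk, hkf⟩ := hd.op.exists_fixed_conj hθ hθ₁ hg
    obtain ⟨c, rfl⟩ := (hd.fixed k).1 hkf
    rw [← hk, ← hd.irrConj_thetaC, H43.restrMult_irrConj] at hθ'ξ
    obtain ⟨ζ, hζ, hmζ⟩ := exists_constituent ξ' hθ'ξ
    obtain ⟨γ', rfl⟩ := exists_extIrr hE' hζ
    have e := indFun_eq_of_constituent ξ' hζ hmζ
    rw [hd.mult_eq_resMult hE hE' hEE η γ' χ hχe ξ' e] at hnd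
    obtain rfl := hγu γ' hnd
    exact hne (Subtype.ext (e.symm.trans hξe))
  · intro χ' hχ' hne
    by_contra hnd
    have hm0 : mult (fun c => χ'.1 (ι c)) ξ ≠ 0 := fun h => hnd (h ▸ dvd_zero p)
    obtain ⟨η', hη', hχ'e⟩ := hdec χ' hχ' (hd.restrMult_ne_zero θ χ' ξ hm0 hξθ)
    rw [hd.mult_eq_resMult hE hE' hEE η' γ χ' hχ'e ξ hξe] at hnd
    have hηη : η' ≠ η := by
      rintro rfl
      exact hne (Subtype.ext (hχ'e.symm.trans hχe))
    exact (hG.disjoint hη' hη hηη γ).elim hnd hγ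
  · have hdχ : Cfsg.charDegree χ.1 =
        (inertiaSub θ).index * (Cfsg.charDegree E.1 * Cfsg.charDegree η.1) := by
      apply Nat.cast_injective (R := ℂ)
      rw [← H43.irr_charDegree_spec χ, ← hχe, H25.indFun_one, Nat.cast_mul, Nat.cast_mul,
        ← H43.irr_charDegree_spec E, ← H43.irr_charDegree_spec η]
      rfl
    have hdξ : Cfsg.charDegree ξ.1 =
        (inertiaSub (hd.thetaC θ)).index * (Cfsg.charDegree E.1 * Cfsg.charDegree γ.1) := by
      apply Nat.cast_injective (R := ℂ)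
      rw [← H43.irr_charDegree_spec ξ, ← hξe, H25.indFun_one, Nat.cast_mul, Nat.cast_mul,
        ← H43.irr_charDegree_spec E, ← H43.irr_charDegree_spec γ]
      show _ * (E'.1 1 * γ.1 _) = _
      rw [hEE, map_one]
      rfl
    have hη1 : (Cfsg.charDegree η.1 : ZMod p) =
        (H43.resMult (hd.jBar θ) η γ : ZMod p) * (Cfsg.charDegree γ.1 : ZMod p) := by
      have h : Cfsg.charDegree η.1 = ∑ b, H43.resMult (hd.jBar θ) η b * Cfsg.charDegree b.1 := by
        apply Nat.cast_injective (R := ℂ)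
        rw [Nat.cast_sum, ← H43.irr_charDegree_spec η]
        simp_rw [Nat.cast_mul, ← H43.irr_charDegree_spec]
        have := H43.res_eq_sum (ι := hd.jBar θ) η 1
        rwa [map_one] at this
      rw [h, Nat.cast_sum, Finset.sum_eq_single γ]
      · rw [Nat.cast_mul]
      · intro b _ hb
        have : p ∣ H43.resMult (hd.jBar θ) η b := by
          by_contra h'
          exact hb (hγu b h')
        rw [Nat.cast_mul, (ZMod.natCast_eq_zero_iff _ p).2 this, zero_mul]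
      · exact fun h' => absurd (Finset.mem_univ _) h'
    have hidx : ((inertiaSub θ).index : ZMod p) = ((inertiaSub (hd.thetaC θ)).index : ZMod p) :=
      (ZMod.natCast_eq_natCast_iff _ _ p).2 (hd.index_modEq hθ)
    rw [hdχ, hdξ, Nat.cast_mul, Nat.cast_mul, Nat.cast_mul, Nat.cast_mul, hidx, hη1]
    rcases hpm with h | h <;> rw [h]
    · left; ring
    · right; ring

/-- Every invariant character of `C` is a correspondent. -/
theorem RelData.exists_source (hd : RelData p φ φC ι Q) (ξ : Cfsg.IrrCharacter C)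
    (hξ : InvFun φC ξ.1) :
    ∃ χ : Cfsg.IrrCharacter K, InvFun φ χ.1 ∧ ¬ p ∣ mult (fun c => χ.1 (ι c)) ξ := by
  classical
  obtain ⟨θ', hθ', hθ'ξ⟩ := hd.opC.exists_inv_below ξ hξ
  obtain ⟨θ, hθ, rfl⟩ := hd.exists_thetaC hθ'
  have : Fintype ↥(inertiaSub θ) := Fintype.ofFinite _
  have : Fintype ↥(inertiaSub (hd.thetaC θ)) := Fintype.ofFinite _
  have : Fintype (Q.subgroupOf (inertiaSub θ)) := Fintype.ofFinite _
  have : Fintype ↥((Q.comap ι).subgroupOf (inertiaSub (hd.thetaC θ))) := Fintype.ofFinite _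
  have : Fintype (↥(inertiaSub θ) ⧸ Q.subgroupOf (inertiaSub θ)) := Fintype.ofFinite _
  have : Fintype (↥(inertiaSub (hd.thetaC θ)) ⧸
      (Q.comap ι).subgroupOf (inertiaSub (hd.thetaC θ))) := Fintype.ofFinite _
  obtain ⟨E, hE, hEi⟩ := hd.op.exists_ext hθ
  obtain ⟨E', hEE, hE', -⟩ := hd.exists_extC hθ hE hEi
  obtain ⟨ζ, hζ, hmζ⟩ := exists_constituent ξ hθ'ξ
  obtain ⟨γ, rfl⟩ := exists_extIrr hE' hζ
  have e := indFun_eq_of_constituent ξ hζ hmζ
  obtain ⟨η, hη, hηγ⟩ := (hd.glaubermanData hθ).exists_of_res γ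
  let χ : Cfsg.IrrCharacter K := ⟨_, (indFun_over (overInertia_extIrr hE η)).1⟩
  refine ⟨χ, (hd.op.invFun_indFun_iff hθ hE hEi η χ rfl).2 hη, ?_⟩
  rwa [hd.mult_eq_resMult hE hE' hEE η γ χ rfl ξ e]

/-- The relative Glauberman correspondence. -/
theorem RelData.exists_bijection (hd : RelData p φ φC ι Q) :
    ∃ f : {χ : Cfsg.IrrCharacter K // InvFun φ χ.1} → {ξ : Cfsg.IrrCharacter C // InvFun φC ξ.1},
      Function.Bijective f ∧ ∀ χ : {χ : Cfsg.IrrCharacter K // InvFun φ χ.1},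
        ((mult (fun c => χ.1.1 (ι c)) (f χ).1 : ZMod p) = 1 ∨
          (mult (fun c => χ.1.1 (ι c)) (f χ).1 : ZMod p) = -1) ∧
        (∀ ξ : {ξ : Cfsg.IrrCharacter C // InvFun φC ξ.1}, ξ ≠ f χ →
          p ∣ mult (fun c => χ.1.1 (ι c)) ξ.1) ∧
        ((Cfsg.charDegree (f χ).1.1 : ZMod p) = (Cfsg.charDegree χ.1.1 : ZMod p) ∨
          (Cfsg.charDegree (f χ).1.1 : ZMod p) = -(Cfsg.charDegree χ.1.1 : ZMod p)) := by
  have : Fact p.Prime := ⟨hd.op.prime⟩
  choose ξ hξi hm hother hdisj hdeg using hd.exists_correspondent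
  have hnd : ∀ χ hχ, ¬ p ∣ mult (fun c => χ.1 (ι c)) (ξ χ hχ) := by
    intro χ hχ h
    rcases hm χ hχ with h1 | h1 <;>
      rw [(ZMod.natCast_eq_zero_iff _ p).2 h] at h1
    · exact zero_ne_one h1
    · exact neg_ne_zero.2 one_ne_zero h1.symm
  refine ⟨fun χ => ⟨ξ χ.1 χ.2, hξi χ.1 χ.2⟩, ⟨?_, ?_⟩,
    fun χ => ⟨hm _ _, fun b hb => hother _ _ b.1 b.2 (fun e => hb (Subtype.ext e)), hdeg _ _⟩⟩
  · intro a b hab
    have hab' : ξ a.1 a.2 = ξ b.1 b.2 := congrArg Subtype.val hab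
    by_contra hne
    refine hnd b.1 b.2 ?_
    rw [← hab']
    exact hdisj a.1 a.2 b.1 b.2 fun e => hne (Subtype.ext e).symm
  · intro b
    obtain ⟨χ, hχ, hχb⟩ := hd.exists_source b.1 b.2
    refine ⟨⟨χ, hχ⟩, Subtype.ext ?_⟩
    by_contra hne
    exact hχb (hother χ hχ b.1 b.2 fun e => hne e.symm)

end Cfsg.Agent.H45
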