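import Cfsg.Agent.H45.RealPPrime
import Cfsg.Agent.H45.OddIndexDegree
import Cfsg.Agent.H45.RelGlauberman
import Cfsg.Agent.H43.SubgroupAction

/-!
# Real characters of degree prime to `p` and the normalizer of a Sylow `p`-subgroup
-/

set_option autoImplicit false

open scoped ComplexConjugate

universe u

namespace Cfsg.Agent.H45

variable {G : Type u} [Group G] [Finite G]

theorem odd_index_pGen_two : Odd (pGen 2 G).index := by
  haveI : Fact (Nat.Prime 2) := ⟨Nat.prime_two⟩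
  rw [← Nat.not_even_iff_odd, even_iff_two_dvd, Subgroup.index_eq_card]
  intro h
  obtain ⟨x, hx⟩ := exists_prime_orderOf_dvd_card' (G := G ⧸ pGen 2 G) 2 h
  have hmem : x ∈ pGen 2 (G ⧸ pGen 2 G) :=
    mem_pGen (p := 2) (k := 1) (by have h2 := pow_orderOf_eq_one x; rw [hx] at h2; rw [pow_one]; exact h2)
  rw [← map_pGen (QuotientGroup.mk' _) (QuotientGroup.mk'_surjective _),
    QuotientGroup.map_mk'_self, Subgroup.mem_bot] at hmem
  rw [hmem, orderOf_one] at hx
  omega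

/-- Elements conjugating a Sylow subgroup into the same subgroup differ by the normalizer. -/
theorem exists_mem_normalizer_mul {p : ℕ} [Fact p.Prime] (P : Sylow p G) (S : Subgroup G) {g : G}
    (h1 : (P : Subgroup G) ≤ S) (h2 : ∀ x ∈ (P : Subgroup G), g * x * g⁻¹ ∈ S) :
    ∃ c ∈ S, c * g ∈ Subgroup.normalizer ((P : Subgroup G) : Set G) := by
  have hg : ((g • P : Sylow p G) : Subgroup G) ≤ S := by
    intro y hy
    rw [Sylow.coe_subgroup_smul, Subgroup.mem_pointwise_smul_iff_inv_smul_mem, ← map_inv,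
      MulAut.smul_def, MulAut.conj_apply, inv_inv] at hy
    have := h2 _ hy
    rwa [show g * (g⁻¹ * y * g) * g⁻¹ = y by group] at this
  obtain ⟨c, hc⟩ := MulAction.exists_smul_eq (↥S) ((g • P).subtype hg) (P.subtype h1)
  rw [Sylow.smul_subtype] at hc
  have hc' : ((c : G) * g) • P = P := by
    rw [mul_smul]
    exact Sylow.subtype_injective hc
  exact ⟨c, c.2, Sylow.smul_eq_iff_mem_normalizer.1 hc'⟩

/-- The number of cosets modulo `p` is the number of cosets inside the Sylow normalizer. -/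
theorem index_cast_eq {p : ℕ} [Fact p.Prime] (P : Sylow p G) (I : Subgroup G)
    (hPI : (P : Subgroup G) ≤ I) :
    (I.index : ZMod p) =
      ((I.subgroupOf (Subgroup.normalizer ((P : Subgroup G) : Set G))).index : ZMod p) := by
  classical
  set H := Subgroup.normalizer ((P : Subgroup G) : Set G)
  have hmod := P.2.card_modEq_card_fixedPoints (G ⧸ I)
  have hcard : Nat.card (MulAction.fixedPoints (P : Subgroup G) (G ⧸ I)) =
      Nat.card (H ⧸ I.subgroupOf H) := by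
    refine (Nat.card_eq_of_bijective (fun q : H ⧸ I.subgroupOf H =>
      (⟨Quotient.liftOn' q (fun h => ((h : G) : G ⧸ I)) ?_, ?_⟩ :
        MulAction.fixedPoints (P : Subgroup G) (G ⧸ I))) ⟨?_, ?_⟩).symm
    · intro a b hab
      rw [QuotientGroup.leftRel_apply, Subgroup.mem_subgroupOf] at hab
      exact QuotientGroup.eq.2 hab
    · induction q using QuotientGroup.induction_on with | _ h =>
      intro x
      show (((x : G) * h : G) : G ⧸ I) = ((h : G) : G ⧸ I)
      rw [QuotientGroup.eq, show ((x : G) * h)⁻¹ * h = (h : G)⁻¹ * (x : G)⁻¹ * h by group]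
      refine hPI ?_
      simpa using (Subgroup.mem_normalizer_iff.1 (H.inv_mem h.2) (x : G)⁻¹).1
        ((P : Subgroup G).inv_mem x.2)
    · intro q q' hqq
      induction q using QuotientGroup.induction_on with | _ a =>
      induction q' using QuotientGroup.induction_on with | _ b =>
      have h : ((a : G) : G ⧸ I) = ((b : G) : G ⧸ I) := congrArg Subtype.val hqq
      rw [QuotientGroup.eq] at h ⊢
      exact Subgroup.mem_subgroupOf.2 h
    · rintro ⟨q, hq⟩
      induction q using QuotientGroup.induction_on with | _ g =>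
      have h2 : ∀ x ∈ (P : Subgroup G), g⁻¹ * x * g⁻¹⁻¹ ∈ I := by
        intro x hx
        have h : (((x⁻¹ * g : G)) : G ⧸ I) = (g : G ⧸ I) :=
          hq ⟨x⁻¹, (P : Subgroup G).inv_mem hx⟩
        rw [QuotientGroup.eq] at h
        rw [inv_inv]
        rwa [show (x⁻¹ * g)⁻¹ * g = g⁻¹ * x * g by group] at h
      obtain ⟨c, hc, hcg⟩ := exists_mem_normalizer_mul P I hPI h2
      refine ⟨((⟨(c * g⁻¹)⁻¹, H.inv_mem hcg⟩ : H) : H ⧸ I.subgroupOf H), Subtype.ext ?_⟩
      show (((c * g⁻¹)⁻¹ : G) : G ⧸ I) = (g : G ⧸ I)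
      rw [QuotientGroup.eq, inv_inv, mul_assoc, inv_mul_cancel, mul_one]
      exact hc
  have e : (I.index : ZMod p) = (Nat.card (MulAction.fixedPoints (P : Subgroup G) (G ⧸ I)) : ZMod p) := by
    rw [Subgroup.index_eq_card, ZMod.natCast_eq_natCast_iff]
    exact hmod
  rw [e, hcard, ← Subgroup.index_eq_card]

/-- The normalizer of a Sylow subgroup. -/
abbrev nP {p : ℕ} (P : Sylow p G) : Subgroup G :=
  Subgroup.normalizer ((P : Subgroup G) : Set G)

/-- The trace of a subgroup on the normalizer of a Sylow subgroup. -/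
abbrev dP {p : ℕ} (K : Subgroup G) (P : Sylow p G) : Subgroup ↥(nP P) :=
  K.subgroupOf (nP P)

section

variable {p : ℕ} [Fact p.Prime] (K : Subgroup G) [K.Normal] (P : Sylow p G)

/-- The restriction of a function on `K` to `K ∩ N_G(P)`. -/
def toNormalizer :
    ↥(dP K P) →* ↥K :=
  ((nP P).subtype.comp
    (dP K P).subtype).codRestrict K
      fun d => Subgroup.mem_subgroupOf.1 d.2

theorem toNormalizer_coe
    (d : ↥(dP K P)) :
    ((toNormalizer K P d : ↥K) : G) = ((d : ↥(nP P)) : G) :=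
  rfl

/-- The Glauberman correspondence between the `P`-fixed characters of `K` and of `K ∩ N(P)`,
commuting with the normalizer and with complex conjugation. -/
theorem exists_correspondence [Fintype ↥K]
    [Fintype ↥(dP K P)]
    (V : Subgroup G) [V.Normal] (hV : IsPGroup p V) (hVK : V ≤ K)
    (hVsyl : ¬ p ∣ V.relIndex K) :
    ∃ R : Cfsg.IrrCharacter ↥K →
        Cfsg.IrrCharacter ↥(dP K P) → Prop,
      (∀ θ η, R θ η → ∀ x : ↥(nP P),
        (x : G) ∈ (P : Subgroup G) → irrTwist K (x : G) θ = θ ∧ irrTwist _ x η = η) ∧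
      (∀ θ, (∀ x : ↥(nP P),
        (x : G) ∈ (P : Subgroup G) → irrTwist K (x : G) θ = θ) → ∃ η, R θ η) ∧
      (∀ η : Cfsg.IrrCharacter ↥(dP K P),
        (∀ x : ↥(nP P),
        (x : G) ∈ (P : Subgroup G) → irrTwist _ x η = η) → ∃ θ, R θ η) ∧
      (∀ θ η η', R θ η → R θ η' → η = η') ∧ (∀ θ θ' η, R θ η → R θ' η → θ = θ') ∧
      (∀ θ η (h : ↥(nP P)),
        R θ η → R (irrTwist K (h : G) θ) (irrTwist _ h η)) ∧
      (∀ θ η, R θ η → R (H26.conjIrr θ) (H26.conjIrr η)) ∧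
      (∀ θ η, R θ η →
        (Cfsg.charDegree η.1 : ZMod p) = (Cfsg.charDegree θ.1 : ZMod p) ∨
          (Cfsg.charDegree η.1 : ZMod p) = -(Cfsg.charDegree θ.1 : ZMod p)) := by
  classical
  haveI := Fintype.ofFinite G
  set ι := toNormalizer K P
  haveI : Fintype ↥(V.subgroupOf K) := Fintype.ofFinite _
  haveI : Fintype ↥((V.subgroupOf K).comap ι) := Fintype.ofFinite _
  have hPH : (P : Subgroup G) ≤ (nP P) := Subgroup.le_normalizer
  let φ : ↥(P : Subgroup G) →* MulAut ↥K :=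
    (MulAut.conjNormal : G →* MulAut ↥K).comp (P : Subgroup G).subtype
  let φC : ↥(P : Subgroup G) →* MulAut ↥(dP K P) :=
    (MulAut.conjNormal : ↥(nP P) →* MulAut ↥(dP K P)).comp (Subgroup.inclusion hPH)
  have hVP : V ≤ (P : Subgroup G) := (H19.le_pCore inferInstance hV).trans (H19.pCore_le_sylow P)
  have hKP : ∀ x ∈ (P : Subgroup G), x ∈ K → x ∈ V := by
    intro x hx hxK
    obtain ⟨k, hk⟩ := P.2 ⟨x, hx⟩
    have hxp : x ^ p ^ k = 1 := congrArg Subtype.val hk
    set y : ↥K ⧸ V.subgroupOf K := ((⟨x, hxK⟩ : ↥K) : ↥K ⧸ V.subgroupOf K)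
    have h1 : y ^ p ^ k = 1 := by
      rw [← QuotientGroup.mk_pow, QuotientGroup.eq_one_iff, Subgroup.mem_subgroupOf]
      show x ^ p ^ k ∈ V
      rw [hxp]
      exact V.one_mem
    have h2 : y ^ Nat.card (↥K ⧸ V.subgroupOf K) = 1 := pow_card_eq_one'
    have h3 : Nat.Coprime (p ^ k) (Nat.card (↥K ⧸ V.subgroupOf K)) := by
      rw [← Subgroup.index_eq_card]
      exact ((Nat.Prime.coprime_iff_not_dvd Fact.out).2 hVsyl).pow_left k
    have h4 := pow_gcd_eq_one.2 ⟨h1, h2⟩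
    rw [h3, pow_one] at h4
    exact Subgroup.mem_subgroupOf.1 ((QuotientGroup.eq_one_iff _).1 h4)
  have hd : RelData p φ φC ι (V.subgroupOf K) := by
    refine ⟨⟨Fact.out, P.2, hV.of_equiv (Subgroup.subgroupOfEquivOfLe hVK).symm, hVsyl,
      fun s q hq => ?_⟩, fun a b e => ?_, fun s c => ?_, fun k => ⟨fun h => ?_, ?_⟩⟩
    · rw [Subgroup.mem_subgroupOf] at hq ⊢
      exact (MulAut.conjNormal_apply (s : G) q).symm ▸ ‹V.Normal›.conj_mem _ hq _
    · exact Subtype.ext (Subtype.ext (congrArg (fun k : ↥K => (k : G)) e))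
    · refine Subtype.ext ?_
      show (((MulAut.conjNormal (Subgroup.inclusion hPH s) : MulAut ↥(dP K P)) c : ↥(nP P)) : G) = _
      rw [MulAut.conjNormal_apply]
      exact (MulAut.conjNormal_apply (s : G) (ι c)).symm
    · have hk' : ∀ x ∈ (P : Subgroup G), x * (k : G) * x⁻¹ * (k : G)⁻¹ ∈ V := fun x hx => by
        have h' := Subgroup.mem_subgroupOf.1 (h ⟨x, hx⟩)
        have e : ((φ ⟨x, hx⟩ k : ↥K) : G) = x * k * x⁻¹ := MulAut.conjNormal_apply x k
        rwa [Subgroup.coe_mul, Subgroup.coe_inv, e] at h'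
      have hkH : (k : G) ∈ (nP P) := by
        suffices hsub : ∀ x ∈ (P : Subgroup G), (k : G) * x * (k : G)⁻¹ ∈ (P : Subgroup G) by
          refine Subgroup.mem_normalizer_iff.2 fun x => ⟨hsub x, fun hx => ?_⟩
          let c : ↥(P : Subgroup G) → ↥(P : Subgroup G) := fun y => ⟨_, hsub y y.2⟩
          obtain ⟨y, hy⟩ := Finite.surjective_of_injective (f := c)
            (fun a b e => Subtype.ext (by simpa [c] using congrArg Subtype.val e)) ⟨_, hx⟩
          have : (y : G) = x := by simpa [c] using congrArg Subtype.val hy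
          exact this ▸ y.2
        intro x hx
        have h' := hVP (hk' x⁻¹ ((P : Subgroup G).inv_mem hx))
        have := (P : Subgroup G).mul_mem hx h'
        rwa [show x * (x⁻¹ * (k : G) * x⁻¹⁻¹ * (k : G)⁻¹) = (k : G) * x * (k : G)⁻¹ by group]
          at this
      exact ⟨⟨⟨k, hkH⟩, Subgroup.mem_subgroupOf.2 k.2⟩, Subtype.ext rfl⟩
    · rintro ⟨c, rfl⟩ s
      rw [Subgroup.mem_subgroupOf, Subgroup.coe_mul, Subgroup.coe_inv]
      show ((MulAut.conjNormal (s : G) (ι c) : ↥K) : G) * ((ι c : ↥K) : G)⁻¹ ∈ V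
      rw [MulAut.conjNormal_apply]
      refine hKP _ ?_ ?_
      · rw [show (s : G) * (ι c : ↥K) * (s : G)⁻¹ * ((ι c : ↥K) : G)⁻¹
            = (s : G) * (((ι c : ↥K) : G) * (s : G)⁻¹ * ((ι c : ↥K) : G)⁻¹) by group]
        refine (P : Subgroup G).mul_mem s.2 ?_
        exact (Subgroup.mem_normalizer_iff.1 (c : ↥(nP P)).2 _).1 ((P : Subgroup G).inv_mem s.2)
      · exact K.mul_mem (‹K.Normal›.conj_mem _ (ι c).2 _) (K.inv_mem (ι c).2)
  obtain ⟨f, hf, hprop⟩ := hd.exists_bijection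
  have hinvK : ∀ θ : Cfsg.IrrCharacter ↥K, H43.InvFun φ θ.1 ↔
      ∀ x : ↥(nP P), (x : G) ∈ (P : Subgroup G) → irrTwist K (x : G) θ = θ := by
    intro θ
    constructor
    · intro h x hx
      refine Subtype.ext (funext fun k => ?_)
      exact h ⟨(x : G)⁻¹, (P : Subgroup G).inv_mem hx⟩ k
    · intro h s k
      have h1 := congrFun (congrArg Subtype.val
        (h ⟨(s : G)⁻¹, hPH ((P : Subgroup G).inv_mem s.2)⟩ ((P : Subgroup G).inv_mem s.2))) k
      refine Eq.trans ?_ h1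
      show θ.1 ((MulAut.conjNormal (s : G) : MulAut ↥K) k) =
        θ.1 ((MulAut.conjNormal ((s : G)⁻¹)⁻¹ : MulAut ↥K) k)
      rw [inv_inv]
  have hinvC : ∀ η : Cfsg.IrrCharacter ↥(dP K P), H43.InvFun φC η.1 ↔
      ∀ x : ↥(nP P), (x : G) ∈ (P : Subgroup G) → irrTwist (dP K P) x η = η := by
    intro η
    constructor
    · intro h x hx
      refine Subtype.ext (funext fun k => ?_)
      exact h ⟨((x : G))⁻¹, (P : Subgroup G).inv_mem hx⟩ k
    · intro h s k
      have h1 := congrFun (congrArg Subtype.val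
        (h (Subgroup.inclusion hPH s)⁻¹ ((P : Subgroup G).inv_mem s.2))) k
      refine Eq.trans ?_ h1
      show η.1 ((MulAut.conjNormal (Subgroup.inclusion hPH s) : MulAut ↥(dP K P)) k) =
        η.1 ((MulAut.conjNormal ((Subgroup.inclusion hPH s)⁻¹)⁻¹ : MulAut ↥(dP K P)) k)
      rw [inv_inv]
  let R : Cfsg.IrrCharacter ↥K → Cfsg.IrrCharacter ↥(dP K P) → Prop := fun θ η =>
    ∃ (hθ : H43.InvFun φ θ.1) (hη : H43.InvFun φC η.1),
      (⟨η, hη⟩ : {ξ : Cfsg.IrrCharacter ↥(dP K P) // H43.InvFun φC ξ.1}) = f ⟨θ, hθ⟩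
  have hmult : ∀ {θ : Cfsg.IrrCharacter ↥K} {η : Cfsg.IrrCharacter ↥(dP K P)}, R θ η →
      ¬ p ∣ H43.mult (fun c => θ.1 (ι c)) η := by
    rintro θ η ⟨hθ, hη, e⟩ h
    have := (hprop ⟨θ, hθ⟩).1
    rw [← e, (ZMod.natCast_eq_zero_iff _ p).2 h] at this
    rcases this with h1 | h1
    · exact zero_ne_one h1
    · exact neg_ne_zero.2 one_ne_zero h1.symm
  have hchar : ∀ {θ : Cfsg.IrrCharacter ↥K} {η : Cfsg.IrrCharacter ↥(dP K P)}
      (_ : H43.InvFun φ θ.1) (_ : H43.InvFun φC η.1),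
      ¬ p ∣ H43.mult (fun c => θ.1 (ι c)) η → R θ η := by
    intro θ η hθ hη h
    refine ⟨hθ, hη, ?_⟩
    by_contra hne
    exact h ((hprop ⟨θ, hθ⟩).2.1 ⟨η, hη⟩ hne)
  have hnorm : ∀ (h : ↥(nP P)) (x : ↥(nP P)), (x : G) ∈ (P : Subgroup G) →
      ((h⁻¹ * x * h : ↥(nP P)) : G) ∈ (P : Subgroup G) := fun h x hx => by
    simpa using (Subgroup.mem_normalizer_iff.1 ((nP P).inv_mem h.2) (x : G)).1 hx
  refine ⟨R, ?_, ?_, ?_, ?_, ?_, ?_, ?_, ?_⟩
  · rintro θ η ⟨hθ, hη, -⟩ x hx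
    exact ⟨(hinvK θ).1 hθ x hx, (hinvC η).1 hη x hx⟩
  · intro θ hθ
    exact ⟨(f ⟨θ, (hinvK θ).2 hθ⟩).1, (hinvK θ).2 hθ, (f _).2, rfl⟩
  · intro η hη
    obtain ⟨θ, hθ⟩ := hf.2 ⟨η, (hinvC η).2 hη⟩
    exact ⟨θ.1, θ.2, (hinvC η).2 hη, hθ.symm⟩
  · rintro θ η η' ⟨hθ, hη, e⟩ ⟨hθ', hη', e'⟩
    exact congrArg Subtype.val (e.trans e'.symm)
  · rintro θ θ' η ⟨hθ, hη, e⟩ ⟨hθ', hη', e'⟩
    exact congrArg Subtype.val (hf.1 (e.symm.trans e'))
  · rintro θ η h hR
    have hR' := hR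
    obtain ⟨hθ, hη, -⟩ := hR
    letI := irrTwistAction K
    letI := irrTwistAction (dP K P)
    refine hchar ((hinvK _).2 fun x hx => ?_) ((hinvC _).2 fun x hx => ?_) ?_
    · have h1 := (hinvK θ).1 hθ (h⁻¹ * x * h) (hnorm h x hx)
      show (x : G) • (h : G) • θ = (h : G) • θ
      rw [← mul_smul, show (x : G) * h = (h : G) * ((h⁻¹ * x * h : ↥(nP P)) : G) by
        push_cast; group, mul_smul]
      exact congrArg ((h : G) • ·) h1
    · have h1 := (hinvC η).1 hη (h⁻¹ * x * h) (hnorm h x hx)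
      show x • h • η = h • η
      rw [← mul_smul, show x * h = h * (h⁻¹ * x * h) by group, mul_smul]
      exact congrArg (h • ·) h1
    · rw [show H43.mult (fun c => (irrTwist K (h : G) θ).1 (ι c)) (irrTwist (dP K P) h η) =
          H43.mult (fun c => θ.1 (ι c)) η from ?_]
      · exact hmult hR'
      · refine H43.mult_eq_of_classInner ?_
        rw [← H43.classInner_eq_mult (φ := fun c : ↥(dP K P) => θ.1 (ι c))
          (H26.isCharacter_comp (H26.irr_isCharacter θ) ι) η]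
        have e : ∀ c : ↥(dP K P), (MulAut.conjNormal (h : G)⁻¹ : MulAut ↥K) (ι c) =
            ι ((MulAut.conjNormal h⁻¹ : MulAut ↥(dP K P)) c) := fun c => Subtype.ext (by
          rw [MulAut.conjNormal_apply, toNormalizer_coe, toNormalizer_coe, MulAut.conjNormal_apply]
          push_cast
          rfl)
        simp only [Cfsg.classInner]
        congr 1
        refine Fintype.sum_equiv (MulAut.conjNormal h⁻¹ : MulAut ↥(dP K P)).toEquiv _ _ fun c => ?_
        show θ.1 ((MulAut.conjNormal (h : G)⁻¹ : MulAut ↥K) (ι c)) *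
          conj (η.1 ((MulAut.conjNormal h⁻¹ : MulAut ↥(dP K P)) c)) = _
        rw [e]
        rfl
  · rintro θ η hR
    have hR' := hR
    obtain ⟨hθ, hη, -⟩ := hR
    refine hchar (fun s k => congrArg conj (hθ s k)) (fun s k => congrArg conj (hη s k)) ?_
    rw [show H43.mult (fun c => (H26.conjIrr θ).1 (ι c)) (H26.conjIrr η) =
        H43.mult (fun c => θ.1 (ι c)) η from ?_]
    · exact hmult hR'
    · refine H43.mult_eq_of_classInner ?_
      rw [← Complex.conj_natCast (H43.mult (fun c => θ.1 (ι c)) η),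
        ← H43.classInner_eq_mult (φ := fun c : ↥(dP K P) => θ.1 (ι c))
          (H26.isCharacter_comp (H26.irr_isCharacter θ) ι) η]
      simp [Cfsg.classInner, map_sum, H26.conjIrr_val]
  · rintro θ η ⟨hθ, hη, e⟩
    have := (hprop ⟨θ, hθ⟩).2.2
    rwa [← e] at this

/-- An orbit of size prime to `p` contains a `P`-fixed character. -/
theorem exists_fixed_irrTwist (θ : Cfsg.IrrCharacter ↥K) (h : ¬ p ∣ (H44.inertia K θ.1).index) :
    ∃ g : G, ∀ x ∈ (P : Subgroup G), irrTwist K x (irrTwist K g θ) = irrTwist K g θ := by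
  set I := H44.inertia K θ.1
  obtain ⟨S⟩ : Nonempty (Sylow p I) := inferInstance
  obtain ⟨T, hT⟩ := (S.2.map I.subtype).exists_le_sylow
  have hTI : (T : Subgroup G) = (S : Subgroup I).map I.subtype := by
    refine (Subgroup.eq_of_le_of_card_ge hT ?_).symm
    rw [Subgroup.card_subtype, Sylow.card_eq_multiplicity, Sylow.card_eq_multiplicity,
      ← Subgroup.card_mul_index I, Nat.factorization_mul Nat.card_pos.ne'
        Subgroup.index_ne_zero_of_finite, Finsupp.add_apply,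
      Nat.factorization_eq_zero_of_not_dvd h, add_zero]
  obtain ⟨g, hg⟩ := MulAction.exists_smul_eq G T P
  refine ⟨g, fun x hx => ?_⟩
  rw [← hg, Sylow.coe_subgroup_smul, Subgroup.mem_pointwise_smul_iff_inv_smul_mem, ← map_inv,
    MulAut.smul_def, MulAut.conj_apply, inv_inv] at hx
  have h1 : irrTwist K (g⁻¹ * x * g) θ = θ :=
    (irrTwist_eq_iff K _ θ).2 ((hTI ▸ Subgroup.map_subtype_le _) hx)
  letI := irrTwistAction K
  show x • g • θ = g • θ
  rw [← mul_smul, show x * g = g * (g⁻¹ * x * g) by group, mul_smul]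
  exact congrArg (g • ·) h1

end

/-- **The bijection on real characters of degree prime to `p`.** -/
theorem exists_real_bijection {p : ℕ} [hp : Fact p.Prime] (hsolv : Group.IsSolvable (pGen p G))
    (hreal : RealPPrime p G) (P : Sylow p G) :
    ∃ f : {χ : Cfsg.IrrCharacter G // ∀ g : G, ((χ : G → ℂ) g).im = 0} →
        {ξ : Cfsg.IrrCharacter ↥(nP P) //
          (∀ n, ((ξ : ↥(nP P) → ℂ) n).im = 0) ∧
          ¬ p ∣ Cfsg.charDegree (ξ : ↥(nP P) → ℂ)},
      Function.Bijective f ∧ ∀ χ,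
        ((Cfsg.charDegree ((f χ).1 : ↥(nP P) → ℂ) :
            ZMod p) = (Cfsg.charDegree (χ.1 : G → ℂ) : ZMod p) ∨
          (Cfsg.charDegree ((f χ).1 : ↥(nP P) → ℂ) :
            ZMod p) = -(Cfsg.charDegree (χ.1 : G → ℂ) : ZMod p)) := by
  classical
  set K := pGen 2 G with hKdef
  haveI := H19.pCore_normal p G
  have hVsyl : ¬ p ∣ (Cfsg.pCore p G ⊓ K).relIndex K :=
    not_dvd_relIndex_pCore hsolv hreal K le_rfl ⟨0, by rw [Subgroup.relIndex_self, pow_zero]⟩
  haveI : Fintype ↥K := Fintype.ofFinite _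
  haveI : Fintype ↥(dP K P) :=
    Fintype.ofFinite _
  obtain ⟨R, hRfix, hRex, hRsur, hRfun, hRinj, hRtw, hRconj, hRdeg⟩ :=
    exists_correspondence K P (Cfsg.pCore p G ⊓ K)
      ((H19.pCore_isPGroup p).to_le inf_le_left) inf_le_right hVsyl
  haveI := Fintype.ofFinite G
  haveI : Fintype ↥(nP P) := Fintype.ofFinite _
  have hK : Odd K.index := odd_index_pGen_two
  have hPH : (P : Subgroup G) ≤ (nP P) := Subgroup.le_normalizer
  have hDodd : Odd ((dP K P).index) := hK.of_dvd_nat (Subgroup.relIndex_dvd_index_of_normal K (nP P))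
  haveI hPn : ((P : Subgroup G).subgroupOf (nP P)).Normal := Subgroup.normal_in_normalizer
  have hPidx : ∀ A : Subgroup ↥(nP P), ((P : Subgroup G).subgroupOf (nP P) ≤ A ↔ ¬ p ∣ A.index) := by
    intro A
    have hP' : ¬ p ∣ ((P : Subgroup G).subgroupOf (nP P)).index :=
      fun hd => P.not_dvd_index (hd.trans (Subgroup.relIndex_dvd_index_of_le hPH))
    refine ⟨fun h hd => hP' (hd.trans (Subgroup.index_dvd_of_le h)), fun h x hx => ?_⟩
    set Q := (P : Subgroup G).subgroupOf (nP P)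
    have hQ : IsPGroup p Q := P.2.of_equiv (Subgroup.subgroupOfEquivOfLe hPH).symm
    have hrel : A.relIndex Q = 1 := by
      have h1 : A.relIndex (A ⊔ Q) ∣ A.index := Subgroup.relIndex_dvd_index_of_le le_sup_left
      obtain ⟨a, ha⟩ := hQ.exists_card_eq
      have h2 : A.relIndex Q ∣ p ^ a := ha ▸ Subgroup.relIndex_dvd_card A Q
      obtain ⟨b, -, hb⟩ := (Nat.dvd_prime_pow hp.out).1 h2
      rcases Nat.eq_zero_or_pos b with rfl | hb0
      · simpa using hb
      · exfalso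
        refine h ((dvd_pow_self p hb0.ne').trans (hb ▸ ?_))
        refine Dvd.dvd.trans ?_ h1
        rw [← Subgroup.inf_relIndex_right A Q]
        have e1 := Subgroup.relIndex_mul_relIndex (A ⊓ Q) A (A ⊔ Q) inf_le_left le_sup_left
        have e2 := Subgroup.relIndex_mul_relIndex (A ⊓ Q) Q (A ⊔ Q) inf_le_right le_sup_right
        rw [Subgroup.relIndex_sup_right, ← Subgroup.inf_relIndex_left A Q] at e2
        have hpos : 0 < (A ⊓ Q).relIndex A := Nat.pos_of_ne_zero Subgroup.index_ne_zero_of_finite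
        exact dvd_of_eq (Nat.eq_of_mul_eq_mul_left hpos
          ((e1.trans e2.symm).trans (mul_comm _ _))).symm
    exact (Subgroup.relIndex_eq_one.1 hrel) hx
  have hover : ∀ χ : Cfsg.IrrCharacter G, (∀ g, (χ.1 g).im = 0) →
      ∃ θ : Cfsg.IrrCharacter ↥K, (∀ k, (θ.1 k).im = 0) ∧
        (∀ x : ↥(nP P), (x : G) ∈ (P : Subgroup G) → irrTwist K (x : G) θ = θ) ∧
        Cfsg.classInner (fun n : ↥K => χ.1 n) θ.1 ≠ 0 := by
    intro χ hχ
    obtain ⟨θ₀, hθ₀, hne⟩ := exists_real_below K hK χ hχ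
    have hdeg := degree_of_real_over K hK θ₀ hθ₀ χ hχ hne
    obtain ⟨g, hg⟩ := exists_fixed_irrTwist K P θ₀
      fun hd => hreal χ hχ (hdeg ▸ hd.mul_right _)
    exact ⟨irrTwist K g θ₀, fun k => hθ₀ _, fun x hx => hg _ hx,
      by rw [classInner_irrTwist_restrict]; exact hne⟩
  choose θc hθr hθP hθo using hover
  choose ηc hηc using fun χ hχ => hRex (θc χ hχ) (hθP χ hχ)
  have hηr : ∀ χ hχ k, ((ηc χ hχ).1 k).im = 0 := by
    intro χ hχ
    refine (H26.conjIrr_eq_self_iff _).1 (hRfun (θc χ hχ) _ _ ?_ (hηc χ hχ))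
    have := hRconj _ _ (hηc χ hχ)
    rwa [(H26.conjIrr_eq_self_iff _).2 (hθr χ hχ)] at this
  choose ξc hξr hξo using fun χ hχ => exists_real_over (dP K P) hDodd (ηc χ hχ) (hηr χ hχ)
  have hdegG : ∀ χ hχ, Cfsg.charDegree (χ : Cfsg.IrrCharacter G).1 =
      (H44.inertia K (θc χ hχ).1).index * Cfsg.charDegree (θc χ hχ).1 := fun χ hχ =>
    degree_of_real_over K hK _ (hθr χ hχ) χ hχ (hθo χ hχ)
  have hdegH : ∀ χ hχ, Cfsg.charDegree (ξc χ hχ).1 =
      (H44.inertia (dP K P) (ηc χ hχ).1).index * Cfsg.charDegree (ηc χ hχ).1 := fun χ hχ =>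
    degree_of_real_over (dP K P) hDodd _ (hηr χ hχ) _ (hξr χ hχ) (hξo χ hχ)
  have hinert : ∀ χ hχ, (H44.inertia K (θc χ hχ).1).subgroupOf (nP P) =
      H44.inertia (dP K P) (ηc χ hχ).1 := by
    intro χ hχ
    ext h
    rw [Subgroup.mem_subgroupOf, ← irrTwist_eq_iff, ← irrTwist_eq_iff]
    have h1 := hRtw _ _ h (hηc χ hχ)
    constructor
    · intro e
      rw [e] at h1
      exact hRfun _ _ _ h1 (hηc χ hχ)
    · intro e
      rw [e] at h1
      exact hRinj _ _ _ h1 (hηc χ hχ)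
  have hmod : ∀ χ hχ, (Cfsg.charDegree (ξc χ hχ).1 : ZMod p) =
      (Cfsg.charDegree (χ : Cfsg.IrrCharacter G).1 : ZMod p) ∨
      (Cfsg.charDegree (ξc χ hχ).1 : ZMod p) =
        -(Cfsg.charDegree (χ : Cfsg.IrrCharacter G).1 : ZMod p) := by
    intro χ hχ
    rw [hdegG χ hχ, hdegH χ hχ, Nat.cast_mul, Nat.cast_mul, ← hinert,
      index_cast_eq P (H44.inertia K (θc χ hχ).1) fun x hx =>
        (irrTwist_eq_iff K x _).1 (hθP χ hχ ⟨x, hPH hx⟩ hx)]
    rcases hRdeg _ _ (hηc χ hχ) with e | e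
    · exact Or.inl (by rw [e])
    · exact Or.inr (by rw [e, mul_neg])
  have hξp : ∀ χ hχ, ¬ p ∣ Cfsg.charDegree (ξc χ hχ).1 := by
    intro χ hχ hd
    have h0 := (ZMod.natCast_eq_zero_iff _ p).2 hd
    refine hreal χ hχ ((ZMod.natCast_eq_zero_iff _ p).1 ?_)
    rcases hmod χ hχ with e | e
    · exact e.symm.trans h0
    · exact neg_eq_zero.1 (e.symm.trans h0)
  refine ⟨fun χ => ⟨ξc χ.1 χ.2, hξr χ.1 χ.2, hξp χ.1 χ.2⟩, ⟨?_, ?_⟩, fun χ => hmod χ.1 χ.2⟩
  · rintro ⟨χ, hχ⟩ ⟨χ', hχ'⟩ e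
    have e' : ξc χ hχ = ξc χ' hχ' := congrArg Subtype.val e
    obtain ⟨h, hh⟩ := exists_irrTwist_of_constituents (dP K P) (ξc χ hχ) (hξo χ hχ)
      (e' ▸ hξo χ' hχ')
    have h1 := hRtw _ _ h (hηc χ hχ)
    rw [hh] at h1
    have h2 : irrTwist K (h : G) (θc χ hχ) = θc χ' hχ' := hRinj _ _ _ h1 (hηc χ' hχ')
    refine Subtype.ext (eq_of_real_over K hK (θc χ' hχ') (hθr χ' hχ') hχ hχ' ?_ (hθo χ' hχ'))
    rw [← h2, classInner_irrTwist_restrict]
    exact hθo χ hχ
  · rintro ⟨ξ, hξ, hξd⟩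
    obtain ⟨η, hη, hne⟩ := exists_real_below (dP K P) hDodd ξ hξ
    have hdeg := degree_of_real_over (dP K P) hDodd η hη ξ hξ hne
    have hP : (P : Subgroup G).subgroupOf (nP P) ≤ H44.inertia (dP K P) η.1 :=
      (hPidx _).2 fun hd => hξd (hdeg ▸ hd.mul_right _)
    obtain ⟨θ, hR⟩ := hRsur η fun x hx => (irrTwist_eq_iff (dP K P) x η).2 (hP (Subgroup.mem_subgroupOf.2 hx))
    have hθ : ∀ k, (θ.1 k).im = 0 := by
      refine (H26.conjIrr_eq_self_iff _).1 (hRinj _ _ η ?_ hR)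
      have := hRconj _ _ hR
      rwa [(H26.conjIrr_eq_self_iff _).2 hη] at this
    obtain ⟨χ, hχ, hne'⟩ := exists_real_over K hK θ hθ
    refine ⟨⟨χ, hχ⟩, Subtype.ext ?_⟩
    obtain ⟨g, hg⟩ := exists_irrTwist_of_constituents K χ hne' (hθo χ hχ)
    obtain ⟨c, hc, hcg⟩ := exists_mem_normalizer_mul P (H44.inertia K (θc χ hχ).1) (g := g)
      (fun x hx => (irrTwist_eq_iff K x _).1 (hθP χ hχ ⟨x, hPH hx⟩ hx)) fun x hx => by
        rw [← irrTwist_eq_iff, ← hg]
        letI := irrTwistAction K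
        show (g * x * g⁻¹) • g • θ = g • θ
        rw [← mul_smul, show g * x * g⁻¹ * g = g * x by group, mul_smul]
        exact congrArg (g • ·) ((hRfix _ _ hR ⟨x, hPH hx⟩ hx).1)
    have hcgθ : irrTwist K (c * g) θ = θc χ hχ := by
      letI := irrTwistAction K
      show (c * g) • θ = θc χ hχ
      rw [mul_smul]
      show irrTwist K c (irrTwist K g θ) = θc χ hχ
      rw [hg, irrTwist_eq_iff]
      exact hc
    have h1 := hRtw _ _ (⟨c * g, hcg⟩ : ↥(nP P)) hR
    rw [hcgθ] at h1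
    have h2 : irrTwist (dP K P) (⟨c * g, hcg⟩ : ↥(nP P)) η = ηc χ hχ := hRfun _ _ _ h1 (hηc χ hχ)
    refine eq_of_real_over (dP K P) hDodd (ηc χ hχ) (hηr χ hχ) (hξr χ hχ) hξ (hξo χ hχ) ?_
    rw [← h2, classInner_irrTwist_restrict]
    exact hne

end Cfsg.Agent.H45

namespace Cfsg.Agent.H45

variable {G : Type u} [Group G] [Finite G]

/-- Every real class meets the normalizer of a Sylow `p`-subgroup, when the subgroup generated by
the `2`-elements has order prime to `p`. -/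
theorem exists_mem_normalizer_isConj_of_coprime {p : ℕ} [hp : Fact p.Prime]
    (hsolv : Group.IsSolvable (pGen p G)) (hreal : RealPPrime p G) (P : Sylow p G)
    (hK : ¬ p ∣ Nat.card (pGen 2 G)) (x : G) (hx : IsConj x x⁻¹) :
    ∃ y ∈ nP P, IsConj x y := by
  classical
  haveI := Fintype.ofFinite G
  haveI : Fintype ↥(nP P) := Fintype.ofFinite _
  obtain ⟨f, hf, -⟩ := exists_real_bijection hsolv hreal P
  have hodd : Odd (pGen 2 G).index := odd_index_pGen_two
  let RG := {C : ConjClasses G // ∀ g : G, ConjClasses.mk g = C → IsConj g g⁻¹}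
  let RH := {C : ConjClasses ↥(nP P) // ∀ g : ↥(nP P), ConjClasses.mk g = C → IsConj g g⁻¹}
  have hrep : ∀ C : RH, ∃ h : ↥(nP P), ConjClasses.mk h = C.1 ∧ IsConj (h : G) (h : G)⁻¹ := by
    intro C
    obtain ⟨h, hh⟩ := ConjClasses.exists_rep C.1
    refine ⟨h, hh, ?_⟩
    obtain ⟨c, hc⟩ := isConj_iff.1 (C.2 h hh)
    exact isConj_iff.2 ⟨(c : G), congrArg Subtype.val hc⟩
  choose rep hrep1 hrep2 using hrep
  have hcls : ∀ a g : G, ConjClasses.mk g = ConjClasses.mk a → IsConj a a⁻¹ → IsConj g g⁻¹ := by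
    intro a g hg ha
    obtain ⟨c, hc⟩ := isConj_iff.1 (ConjClasses.mk_eq_mk_iff_isConj.1 hg)
    refine ((ConjClasses.mk_eq_mk_iff_isConj.1 hg).trans ha).trans ?_
    exact isConj_iff.2 ⟨c⁻¹, by rw [← hc]; group⟩
  let Φ : RH → RG := fun C => ⟨ConjClasses.mk (rep C : G), fun g hg => hcls _ g hg (hrep2 C)⟩
  have hcent : ∀ C : RH, ∀ z ∈ (P : Subgroup G), (rep C : G) * z = z * (rep C : G) := by
    intro C z hz
    have hK' : (rep C : G) ∈ pGen 2 G := mem_of_isConj_inv (pGen 2 G) hodd (hrep2 C)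
    set a : G := (rep C : G) * z * (rep C : G)⁻¹ * z⁻¹
    have h1 : a ∈ (P : Subgroup G) :=
      (P : Subgroup G).mul_mem ((Subgroup.mem_normalizer_iff.1 (rep C).2 z).1 hz)
        ((P : Subgroup G).inv_mem hz)
    have h2 : a ∈ pGen 2 G := by
      rw [show a = (rep C : G) * (z * (rep C : G)⁻¹ * z⁻¹) by simp only [a]; group]
      exact mul_mem hK' ((pGen_normal 2).conj_mem _ (inv_mem hK') z)
    obtain ⟨k, hk⟩ := P.2 ⟨a, h1⟩
    have h3 : a ^ p ^ k = 1 := congrArg Subtype.val hk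
    have h4 : a ^ Nat.card (pGen 2 G) = 1 := by
      have h4' : ((⟨a, h2⟩ : ↥(pGen 2 G)) ^ Nat.card (pGen 2 G) : ↥(pGen 2 G)) = 1 :=
        pow_card_eq_one'
      exact (Subgroup.coe_pow _ ⟨a, h2⟩ _).symm.trans (congrArg Subtype.val h4')
    have h5 := pow_gcd_eq_one.2 ⟨h3, h4⟩
    rw [((Nat.Prime.coprime_iff_not_dvd hp.out).2 hK).pow_left k, pow_one] at h5
    exact mul_inv_eq_iff_eq_mul.1 (mul_inv_eq_one.1 h5)
  have hΦ : Function.Injective Φ := by
    intro C C' e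
    obtain ⟨g, hg⟩ := isConj_iff.1 (ConjClasses.mk_eq_mk_iff_isConj.1 (congrArg Subtype.val e))
    obtain ⟨c, hc, hcg⟩ := exists_mem_normalizer_mul P
      (Subgroup.centralizer ({(rep C' : G)} : Set G)) (g := g)
      (fun z hz => Subgroup.mem_centralizer_singleton_iff.2 (hcent C' z hz).symm) (fun z hz => by
        rw [Subgroup.mem_centralizer_singleton_iff, ← hg]
        calc g * z * g⁻¹ * (g * rep C * g⁻¹) = g * (z * rep C) * g⁻¹ := by group
          _ = g * ((rep C : G) * z) * g⁻¹ := by rw [hcent C z hz]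
          _ = g * rep C * g⁻¹ * (g * z * g⁻¹) := by group)
    apply Subtype.ext
    rw [← hrep1 C, ← hrep1 C', ConjClasses.mk_eq_mk_iff_isConj]
    refine isConj_iff.2 ⟨⟨c * g, hcg⟩, Subtype.ext ?_⟩
    show c * g * (rep C : G) * (c * g)⁻¹ = rep C'
    have hcomm : c * (rep C' : G) = rep C' * c := Subgroup.mem_centralizer_singleton_iff.1 hc
    calc c * g * (rep C : G) * (c * g)⁻¹ = c * (g * rep C * g⁻¹) * c⁻¹ := by group
      _ = rep C' := by rw [hg, hcomm, mul_inv_cancel_right]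
  have hle : Nat.card RG ≤ Nat.card RH := by
    show Nat.card {C : ConjClasses G // ∀ g : G, ConjClasses.mk g = C → IsConj g g⁻¹} ≤
      Nat.card {C : ConjClasses ↥(nP P) // ∀ g : ↥(nP P), ConjClasses.mk g = C → IsConj g g⁻¹}
    rw [← H26.card_real_irr_eq_card_real_classes, ← H26.card_real_irr_eq_card_real_classes]
    exact Nat.card_le_card_of_injective (fun χ => (⟨(f χ).1, (f χ).2.1⟩ :
      {ξ : Cfsg.IrrCharacter ↥(nP P) // ∀ n, (ξ.1 n).im = 0}))
      fun a b e => hf.1 (Subtype.ext (congrArg Subtype.val e :))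
  obtain ⟨C, hC⟩ := ((Nat.bijective_iff_injective_and_card Φ).2
    ⟨hΦ, le_antisymm (Nat.card_le_card_of_injective Φ hΦ) hle⟩).2
      ⟨ConjClasses.mk x, fun g hg => hcls x g hg hx⟩
  exact ⟨rep C, (rep C).2, ConjClasses.mk_eq_mk_iff_isConj.1 (congrArg Subtype.val hC).symm⟩

/-- **Every real class meets the normalizer of a Sylow `p`-subgroup.** -/
theorem exists_mem_normalizer_isConj {p : ℕ} [hp : Fact p.Prime]
    (hsolv : Group.IsSolvable (pGen p G)) (hreal : RealPPrime p G) (P : Sylow p G)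
    (x : G) (hx : IsConj x x⁻¹) :
    ∃ y ∈ nP P, IsConj x y := by
  haveI := H19.pCore_normal p G
  set V := Cfsg.pCore p G ⊓ pGen 2 G with hV
  set π := QuotientGroup.mk' V with hπ
  have hs := QuotientGroup.mk'_surjective V
  haveI : Fact (Nat.Prime 2) := ⟨Nat.prime_two⟩
  have hsyl : ¬ p ∣ V.relIndex (pGen 2 G) :=
    not_dvd_relIndex_pCore hsolv hreal (pGen 2 G) le_rfl
      ⟨0, by rw [Subgroup.relIndex_self, pow_zero]⟩
  have hcard : ¬ p ∣ Nat.card (pGen 2 (G ⧸ V)) := by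
    rw [← map_pGen π hs, ← Subgroup.relIndex_bot_left, ← Subgroup.relIndex_comap,
      MonoidHom.comap_bot, hπ, QuotientGroup.ker_mk']
    exact hsyl
  obtain ⟨y, hy, hxy⟩ := exists_mem_normalizer_isConj_of_coprime (isSolvable_pGen_quotient hsolv V)
    (hreal.quotient V) (P.mapSurjective hs) hcard (π x) (by
      obtain ⟨c, hc⟩ := isConj_iff.1 hx
      exact isConj_iff.2 ⟨π c, by rw [← map_mul, ← map_inv, ← map_mul, hc, map_inv]⟩)
  obtain ⟨d, hd⟩ := isConj_iff.1 hxy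
  obtain ⟨g, rfl⟩ := hs d
  refine ⟨g * x * g⁻¹, ?_, isConj_iff.2 ⟨g, rfl⟩⟩
  have hVP : V ≤ (P : Subgroup G) := inf_le_left.trans (H19.pCore_le_sylow P)
  have hback : ∀ a : G, π a ∈ ((P.mapSurjective hs : Sylow p (G ⧸ V)) : Subgroup (G ⧸ V)) ↔
      a ∈ (P : Subgroup G) := by
    intro a
    show π a ∈ (P : Subgroup G).map π ↔ _
    refine ⟨fun h => ?_, Subgroup.mem_map_of_mem π⟩
    obtain ⟨b, hb, e⟩ := h
    have hba : b⁻¹ * a ∈ V := by rw [← QuotientGroup.eq]; exact e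
    simpa using (P : Subgroup G).mul_mem hb (hVP hba)
  refine Subgroup.mem_normalizer_iff.2 fun a => ?_
  rw [← hback, ← hback]
  simp only [map_mul, map_inv]
  rw [← hd] at hy
  exact Subgroup.mem_normalizer_iff.1 hy (π a)

end Cfsg.Agent.H45
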