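import Cfsg.Agent.H56.S67.O4Facts
import Cfsg.Agent.H56.S67.CrossFacts

/-! An involution centralizing both elementary groups in the exchanged configuration (S3146, S3147). -/

set_option autoImplicit false

namespace Cfsg.Agent.H45.S67

open Equiv Subgroup Cfsg.Agent.H56.S67

/-- the computations needed -/
structure PermFacts {n : ℕ} (h : 6 ≤ n) : Prop where
  el_inj : ∀ i l l', CrossAux.el h i l = CrossAux.el h i l' → l = l'
  inter : ∀ l l', CrossAux.el h 0 l = CrossAux.el h 1 l' → ∃ z, CrossAux.el h 0 l = CrossAux.zz h z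
  sa : Perm.sign (CrossAux.pa h) = -1
  sb : Perm.sign (CrossAux.pb h) = 1
  sc : Perm.sign (CrossAux.pc h) = -1
  sp : Perm.sign (CrossAux.pe h * CrossAux.pa h) = 1
  sf : Perm.sign (CrossAux.pf h) = 1
  ab : CrossAux.pa h * CrossAux.pb h = CrossAux.pc h
  ac : CrossAux.pa h * CrossAux.pc h = CrossAux.pb h
  cb : CrossAux.pc h * CrossAux.pb h = CrossAux.pa h
  aa : CrossAux.pa h * CrossAux.pa h = 1
  bb : CrossAux.pb h * CrossAux.pb h = 1
  ne_ab : CrossAux.pa h ≠ CrossAux.pb h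
  ne_a : CrossAux.pa h ≠ 1
  ne_b : CrossAux.pb h ≠ 1
  ne_ac : CrossAux.pa h ≠ CrossAux.pc h
  ne_p : CrossAux.pe h * CrossAux.pa h ≠ 1 ∧ CrossAux.pe h * CrossAux.pa h ≠ CrossAux.pb h
  ne_f : CrossAux.pf h ≠ 1 ∧ CrossAux.pf h ≠ CrossAux.pb h
  r_el : ∀ l, ∃ l', CrossAux.sw h 0 2 * CrossAux.el h 1 l * (CrossAux.sw h 0 2)⁻¹ = CrossAux.el h 1 l'
  r_move : CrossAux.sw h 0 2 * CrossAux.pc h ≠ CrossAux.pc h * CrossAux.sw h 0 2
  f_p : CrossAux.pf h * (CrossAux.pe h * CrossAux.pa h) * (CrossAux.pf h)⁻¹ =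
    CrossAux.pb h * (CrossAux.pe h * CrossAux.pa h)
  f_a : CrossAux.pf h * CrossAux.pa h * (CrossAux.pf h)⁻¹ = CrossAux.pa h
  f_b : CrossAux.pf h * CrossAux.pb h * (CrossAux.pf h)⁻¹ = CrossAux.pb h
  f_f : CrossAux.pf h * CrossAux.pf h * (CrossAux.pf h)⁻¹ = CrossAux.pf h
  e_p : CrossAux.pe h * (CrossAux.pe h * CrossAux.pa h) * (CrossAux.pe h)⁻¹ =
    CrossAux.pe h * CrossAux.pa h
  e_a : CrossAux.pe h * CrossAux.pa h * (CrossAux.pe h)⁻¹ = CrossAux.pa h
  e_b : CrossAux.pe h * CrossAux.pb h * (CrossAux.pe h)⁻¹ = CrossAux.pb h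
  e_f : CrossAux.pe h * CrossAux.pf h * (CrossAux.pe h)⁻¹ = CrossAux.pb h * CrossAux.pf h
  even0 : ∀ l, Perm.sign (CrossAux.el h 0 l) = 1 → CrossAux.el h 0 l = 1 ∨
    CrossAux.el h 0 l = CrossAux.pb h ∨ CrossAux.el h 0 l = CrossAux.pe h * CrossAux.pa h ∨
    CrossAux.el h 0 l = CrossAux.pb h * (CrossAux.pe h * CrossAux.pa h)
  even1 : ∀ l, Perm.sign (CrossAux.el h 1 l) = 1 → CrossAux.el h 1 l = 1 ∨
    CrossAux.el h 1 l = CrossAux.pb h ∨ CrossAux.el h 1 l = CrossAux.pf h ∨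
    CrossAux.el h 1 l = CrossAux.pb h * CrossAux.pf h
  s23 : CrossAux.sw h 2 3 = CrossAux.pe h * CrossAux.pb h
  pe_eq : CrossAux.pe h * CrossAux.pa h * CrossAux.pa h = CrossAux.pe h

theorem permFacts {n : ℕ} (hn : n = 6 ∨ n = 7) (h : 6 ≤ n) : PermFacts h := by
  rcases hn with rfl | rfl
  · constructor <;> decide +kernel +revert
  · constructor <;> decide +kernel +revert

variable {n : ℕ} {G : Type*} [Group G] (S : Setup n G)

theorem gen_mem (i : Fin 2) (l : Fin 3) : CrossAux.gen S.six i l ∈ S.EP i := by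
  fin_cases i <;> fin_cases l <;> (refine subset_closure ?_; simp [CrossAux.gen, CrossAux.pe,
    CrossAux.pa, CrossAux.pb, CrossAux.pf, CrossAux.sw, Setup.pe, Setup.pa, Setup.pb, Setup.pf,
    Setup.sw, Setup.pt])

theorem el_mem (i : Fin 2) (l : Fin 8) : CrossAux.el S.six i l ∈ S.EP i := by
  unfold CrossAux.el
  refine mul_mem (mul_mem ?_ ?_) ?_ <;>
    (split_ifs <;> first | exact gen_mem S i _ | exact one_mem _)

theorem exists_el (hm : Model S) {i : Fin 2} {q : Perm (Fin n)} (hq : q ∈ S.EP i) :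
    ∃ l, q = CrossAux.el S.six i l := by
  have h : Set.range (CrossAux.el S.six i) = (S.EP i : Set (Perm (Fin n))) := by
    refine Set.eq_of_subset_of_ncard_le (by rintro _ ⟨l, rfl⟩; exact el_mem S i l) ?_ (Set.toFinite _)
    rw [Set.ncard_range_of_injective (fun l l' => (permFacts S.hn S.six).el_inj i l l'),
      ← Nat.card_coe_set_eq, SetLike.coe_sort_coe, hm.card i, Nat.card_eq_fintype_card,
      Fintype.card_fin]
  obtain ⟨l, hl⟩ : q ∈ Set.range (CrossAux.el S.six i) := by rw [h]; exact hq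
  exact ⟨l, hl.symm⟩

theorem pe_mem : S.pe ∈ S.EP 0 := gen_mem S 0 0

theorem pf_mem : S.pf ∈ S.EP 1 := gen_mem S 1 2

theorem common (hm : Model S) {q : Perm (Fin n)} (h0 : q ∈ S.EP 0) (h1 : q ∈ S.EP 1) :
    q = 1 ∨ q = S.pa ∨ q = S.pb ∨ q = S.pc := by
  obtain ⟨l, rfl⟩ := exists_el S hm h0
  obtain ⟨l', hl'⟩ := exists_el S hm h1
  obtain ⟨z, hz⟩ := (permFacts S.hn S.six).inter l l' hl'
  rw [hz]
  fin_cases z
  · exact Or.inl rfl
  · exact Or.inr (Or.inl rfl)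
  · exact Or.inr (Or.inr (Or.inl rfl))
  · exact Or.inr (Or.inr (Or.inr rfl))

theorem t_comm_k (p : Perm (Fin n)) : S.t * S.k p = S.k p * S.t := by
  rw [k_apply, Setup.t, ← map_mul, ← map_mul, Prod.mk_mul_mk, Prod.mk_mul_mk, one_mul, mul_one,
    one_mul, mul_one]

theorem k_conj (x p : Perm (Fin n)) : S.k x * S.k p * (S.k x)⁻¹ = S.k (x * p * x⁻¹) := by
  simp [map_mul, map_inv]

theorem conj_comp (u : G) (x p : Perm (Fin n)) :
    u * S.k x * S.k p * (u * S.k x)⁻¹ = u * S.k (x * p * x⁻¹) * u⁻¹ := by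
  rw [← k_conj]; group

/-- The involution. Here `g` exchanges the elementary groups. -/
theorem exists_swap_involution [Finite G] (hm : Model S) (hO : S.O4)
    (horb : ∀ i, S.orb i = {x | ∃ p ∈ S.EP i, Equiv.Perm.sign p = 1 ∧ x = S.t * S.k p})
    (g : G) (hg0 : (S.Ep 0).map (MulAut.conj g).toMonoidHom = S.Ep 1)
    (hg1 : (S.Ep 1).map (MulAut.conj g).toMonoidHom = S.Ep 0)
    (hgt : g * S.t * g⁻¹ = S.t * S.k S.pa) :
    g * (S.t * S.k S.pa) * g⁻¹ = S.t * S.k S.pb ∧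
    g * (S.t * S.k S.pb) * g⁻¹ = S.t * S.k S.pc ∧
    ∃ (δ : Two) (x : Perm (Fin n)), x ∈ S.EP 0 ⊔ S.EP 1 ∧
      g * g * S.j (δ, x) * (g * g * S.j (δ, x)) = 1 ∧
      g * g * S.j (δ, x) * S.t * (g * g * S.j (δ, x))⁻¹ = S.t * S.k S.pb ∧
      ∀ p ∈ S.EP 0 ⊔ S.EP 1, Commute (g * g * S.j (δ, x)) (S.k p) := by
  have F := permFacts S.hn S.six
  have hg : ∀ i : Fin 2, (S.Ep i).map (MulAut.conj g).toMonoidHom = S.Ep (i + 1) := by
    intro i; fin_cases i
    · exact hg0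
    · exact hg1
  have hmemEp : ∀ (i : Fin 2) (x : G), x ∈ S.Ep i → g * x * g⁻¹ ∈ S.Ep (i + 1) := by
    intro i x hx; rw [← hg i]; exact ⟨x, hx, rfl⟩
  have hcommon : ∀ {q : Perm (Fin n)}, (∀ i, q ∈ S.EP i) →
      ∃ q', (∀ i, q' ∈ S.EP i) ∧ g * (S.t * S.k q) * g⁻¹ = S.t * S.k q' := by
    intro q hq
    have hD : S.IsD (g * (S.t * S.k q) * g⁻¹) := by
      rw [isD_conj]; exact isD_t_mul S hm hO 0 ⟨q, hq 0, rfl⟩
    obtain ⟨_, ⟨q1, hq1, rfl⟩, h1⟩ := (isD_Ep_iff S hm hO 1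
      (hmemEp 0 _ (mul_mem (t_mem_Ep S 0) (kE_le_Ep S 0 ⟨q, hq 0, rfl⟩)))).1 hD
    obtain ⟨_, ⟨q0, hq0, rfl⟩, h0⟩ := (isD_Ep_iff S hm hO 0
      (hmemEp 1 _ (mul_mem (t_mem_Ep S 1) (kE_le_Ep S 1 ⟨q, hq 1, rfl⟩)))).1 hD
    obtain rfl : q1 = q0 := k_injective S (mul_left_cancel (h1.symm.trans h0))
    exact ⟨q1, Fin.forall_fin_two.2 ⟨hq0, hq1⟩, h1⟩
  have hinj : ∀ {q q' : Perm (Fin n)},
      g * (S.t * S.k q) * g⁻¹ = g * (S.t * S.k q') * g⁻¹ → q = q' := fun {q q'} h =>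
    k_injective S (mul_left_cancel (mul_left_cancel (mul_right_cancel h)))
  have hmA : ∀ i, S.pa ∈ S.EP i := fun i => by
    fin_cases i
    · exact gen_mem S 0 2
    · exact gen_mem S 1 0
  have hmB : ∀ i, S.pb ∈ S.EP i := fun i => (hm.single_mem i).2.2
  have hg1' : g * (S.t * S.k 1) * g⁻¹ = S.t * S.k S.pa := by rw [map_one, mul_one]; exact hgt
  -- the normalizers are exchanged
  have hgM : ∀ i : Fin 2, ∀ m ∈ S.M i, g * m * g⁻¹ ∈ S.M (i + 1) := by
    intro i m hm'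
    have : (S.M i).map (MulAut.conj g).toMonoidHom = S.M (i + 1) := by
      unfold Setup.M
      rw [← hg i]
      exact Subgroup.map_equiv_normalizer_eq _ (MulAut.conj g)
    rw [← this]; exact ⟨m, hm', rfl⟩
  -- image of `t b`
  have htb : g * (S.t * S.k S.pb) * g⁻¹ = S.t * S.k S.pc := by
    obtain ⟨q, hq, he⟩ := hcommon hmB
    have hodd : Perm.sign q ≠ 1 := by
      intro hs
      have h1 : S.t * S.k q ∈ S.orb 1 := by rw [horb]; exact ⟨q, hq 1, hs, rfl⟩
      have h0 : S.t * S.k S.pb ∈ S.orb 0 := by rw [horb]; exact ⟨S.pb, hmB 0, F.sb, rfl⟩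
      obtain ⟨m1, hm1, e1⟩ := h1
      obtain ⟨m0, hm0, e0⟩ := h0
      have h2 : S.t * S.k S.pa ∈ S.orb 1 := by
        refine ⟨(g * m0 * g⁻¹)⁻¹ * m1, mul_mem (inv_mem (hgM 0 m0 hm0)) hm1, ?_⟩
        calc S.t * S.k S.pa = g * S.t * g⁻¹ := hgt.symm
          _ = (g * m0 * g⁻¹)⁻¹ * (g * (m0 * S.t * m0⁻¹) * g⁻¹) * (g * m0 * g⁻¹) := by group
          _ = (g * m0 * g⁻¹)⁻¹ * (m1 * S.t * m1⁻¹) * (g * m0 * g⁻¹) := by rw [← e0, he, e1]
          _ = _ := by group
      rw [horb] at h2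
      obtain ⟨p, -, hp, e⟩ := h2
      rw [← k_injective S (mul_left_cancel e), show S.pa = CrossAux.pa S.six from rfl, F.sa] at hp
      exact absurd hp (by decide)
    rcases common S hm (hq 0) (hq 1) with rfl | rfl | rfl | rfl
    · exact absurd (map_one _) hodd
    · exact absurd (hinj (he.trans hg1'.symm)) F.ne_b
    · exact absurd F.sb hodd
    · exact he
  have hga_t : S.k S.pa = S.t * (S.t * S.k S.pa) := by rw [← mul_assoc, t_sq, one_mul]
  -- image of `t a`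
  have hta : g * (S.t * S.k S.pa) * g⁻¹ = S.t * S.k S.pb := by
    obtain ⟨q, hq, he⟩ := hcommon hmA
    rcases common S hm (hq 0) (hq 1) with rfl | rfl | rfl | rfl
    · exfalso
      rw [map_one, mul_one] at he
      -- then `g` fixes `k c`
      have hkc : g * S.k S.pc * g⁻¹ = S.k S.pc := by
        have e : S.k S.pc = (S.t * S.k S.pa) * (S.t * S.k S.pb) := by
          rw [show S.pc = S.pa * S.pb from F.ab.symm, map_mul, mul_assoc S.t,
            ← mul_assoc (S.k S.pa) S.t, ← t_comm_k, mul_assoc, ← mul_assoc S.t S.t, t_sq, one_mul]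
        conv_lhs => rw [e]
        rw [← conj_mul, he, htb, ← mul_assoc, t_sq, one_mul]
      -- stabilisers
      let r := CrossAux.sw S.six 0 2
      have hr : r ∈ normalizer (S.EP 1 : Set (Perm (Fin n))) := by
        rw [Subgroup.mem_normalizer_iff]
        intro q
        constructor
        · intro h
          obtain ⟨l, rfl⟩ := exists_el S hm h
          obtain ⟨l', hl'⟩ := F.r_el l
          rw [hl']; exact el_mem S 1 l'
        · intro h
          obtain ⟨l, hl⟩ := exists_el S hm h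
          obtain ⟨l', hl'⟩ := F.r_el l
          have hrr : r⁻¹ = r := Equiv.swap_inv _ _
          have : q = r * CrossAux.el S.six 1 l * r⁻¹ := by
            rw [← hl, hrr, ← mul_assoc, ← mul_assoc]
            simp [r, CrossAux.sw, mul_assoc]
          rw [this, hl']; exact el_mem S 1 l'
      have hvD : S.IsD (S.t * S.k S.pa) := by rw [← hgt, isD_conj]; exact isD_t S
      have hv : S.t * S.k S.pa ∈ S.Ep 1 :=
        mul_mem (t_mem_Ep S 1) (kE_le_Ep S 1 ⟨S.pa, hmA 1, rfl⟩)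
      have hle : S.M 1 ⊓ centralizer ({S.t} : Set G) ≤
          S.M 1 ⊓ centralizer ({S.t * S.k S.pa} : Set G) := by
        rw [flags_stab_eq]
        rintro _ ⟨⟨δ, p⟩, hp, rfl⟩
        refine mem_inf.2 ⟨?_, ?_⟩
        · exact (mem_inf.1 ((flags_stab_eq S 1).symm ▸ ⟨(δ, p), hp, rfl⟩ :
            S.j (δ, p) ∈ S.M 1 ⊓ centralizer ({S.t} : Set G))).1
        · have hsf := hm.single_fixed 1 p (mem_prod.1 hp).2
          rw [show S.single 1 = S.pa from rfl] at hsf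
          rw [mem_centralizer_singleton_iff, t_mul_k, ← map_mul, ← map_mul, Prod.mk_mul_mk,
            Prod.mk_mul_mk, mul_comm δ, hsf]
      have heq := Subgroup.eq_of_le_of_card_ge hle
        (by rw [flags_stab_card S hm 1, (orbitSizes S hm 1 _ hv hvD).1])
      have hkr : S.k r ∈ S.M 1 ⊓ centralizer ({S.t} : Set G) := by
        rw [flags_stab_eq]; exact ⟨(1, r), mem_prod.2 ⟨trivial, hr⟩, rfl⟩
      rw [heq] at hkr
      have h0 : g⁻¹ * S.k r * g ∈ S.M 0 ⊓ centralizer ({S.t} : Set G) := by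
        refine mem_inf.2 ⟨?_, ?_⟩
        · have : (S.M 0).map (MulAut.conj g).toMonoidHom = S.M 1 := by
            unfold Setup.M
            rw [← hg0]
            exact Subgroup.map_equiv_normalizer_eq _ (MulAut.conj g)
          have h := (mem_inf.1 hkr).1
          rw [← this] at h
          obtain ⟨m, hm', e⟩ := h
          rw [← e]; simpa [mul_assoc] using hm'
        · have h := mem_centralizer_singleton_iff.1 (mem_inf.1 hkr).2
          rw [← hgt] at h
          rw [mem_centralizer_singleton_iff]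
          calc g⁻¹ * S.k r * g * S.t = g⁻¹ * (S.k r * (g * S.t * g⁻¹)) * g := by group
            _ = g⁻¹ * (g * S.t * g⁻¹ * S.k r) * g := by rw [h]
            _ = S.t * (g⁻¹ * S.k r * g) := by group
      rw [flags_stab_eq] at h0
      obtain ⟨⟨δ, p⟩, hp, e⟩ := h0
      have hsf := hm.single_fixed 0 p (mem_prod.1 hp).2
      rw [show S.single 0 = S.pc from rfl] at hsf
      have h1 : g⁻¹ * S.k r * g * S.k S.pc = S.k S.pc * (g⁻¹ * S.k r * g) := by
        rw [← e, k_apply, ← map_mul, ← map_mul, Prod.mk_mul_mk, Prod.mk_mul_mk, mul_one, one_mul,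
          hsf]
      have h2 : S.k r * S.k S.pc = S.k S.pc * S.k r := by
        have := congrArg (fun x => g * x * g⁻¹) h1
        simp only [← conj_mul, hkc] at this
        simpa [mul_assoc] using this
      rw [← map_mul, ← map_mul] at h2
      exact F.r_move (k_injective S h2)
    · exact absurd (hinj (he.trans hg1'.symm)) F.ne_a
    · exact he
    · exact absurd (hinj (he.trans htb.symm)) F.ne_ab
  refine ⟨hta, htb, ?_⟩
  -- conjugation of `k a, k b, k c`
  have hk2 : ∀ p q : Perm (Fin n), S.k p * S.k q = (S.t * S.k p) * (S.t * S.k q) := fun p q => by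
    rw [mul_assoc S.t, ← mul_assoc (S.k p) S.t, ← t_comm_k, mul_assoc, ← mul_assoc S.t S.t, t_sq,
      one_mul]
  have hka : g * S.k S.pa * g⁻¹ = S.k S.pc := by
    conv_lhs => rw [hga_t]
    rw [← conj_mul, hta, hgt, ← hk2, ← map_mul]
    exact congrArg _ F.ab
  have hkb : g * S.k S.pb * g⁻¹ = S.k S.pb := by
    have e : S.k S.pb = S.t * (S.t * S.k S.pb) := by rw [← mul_assoc, t_sq, one_mul]
    conv_lhs => rw [e]
    rw [← conj_mul, htb, hgt, ← hk2, ← map_mul]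
    exact congrArg _ F.ac
  have hkc : g * S.k S.pc * g⁻¹ = S.k S.pa := by
    rw [show S.pc = S.pa * S.pb from F.ab.symm, map_mul, ← conj_mul, hka, hkb, ← map_mul]
    exact congrArg _ F.cb
  -- the square of `g`
  set u := g * g with hu
  have hu2 : ∀ x y z, g * x * g⁻¹ = y → g * y * g⁻¹ = z → u * x * u⁻¹ = z := by
    intro x y z h1 h2; rw [← h2, ← h1, hu]; group
  have hut : u * S.t * u⁻¹ = S.t * S.k S.pb := hu2 _ _ _ hgt hta
  have hua : u * S.k S.pa * u⁻¹ = S.k S.pa := hu2 _ _ _ hka hkc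
  have hub : u * S.k S.pb * u⁻¹ = S.k S.pb := hu2 _ _ _ hkb hkb
  have huM : ∀ i, u ∈ S.M i := by
    intro i
    have : (S.Ep i).map (MulAut.conj u).toMonoidHom = S.Ep i := by
      have e : (MulAut.conj u).toMonoidHom =
          (MulAut.conj g).toMonoidHom.comp (MulAut.conj g).toMonoidHom := by
        ext x; simp [hu, mul_assoc]
      rw [e, ← Subgroup.map_map, hg i, hg (i + 1)]
      congr 1; fin_cases i <;> rfl
    rw [Setup.M, Subgroup.mem_normalizer_iff]
    intro x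
    constructor
    · intro hx; rw [← this]; exact ⟨x, hx, rfl⟩
    · intro hx
      rw [← this] at hx
      obtain ⟨y, hy, e⟩ := hx
      obtain rfl : y = x := mul_left_cancel (mul_right_cancel e)
      exact hy
  have key : ∀ (i : Fin 2) (p : Perm (Fin n)), p ∈ S.EP i → Perm.sign p = 1 →
      ∃ q ∈ S.EP i, Perm.sign q = 1 ∧ u * S.k p * u⁻¹ = S.k (S.pb * q) := by
    intro i p hp hs
    have h : S.t * S.k p ∈ S.orb i := by rw [horb]; exact ⟨p, hp, hs, rfl⟩
    obtain ⟨m, hm', e⟩ := h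
    have h2 : u * (S.t * S.k p) * u⁻¹ ∈ S.orb i :=
      ⟨u * m, mul_mem (huM i) hm', by rw [e]; group⟩
    rw [horb] at h2
    obtain ⟨q, hq, hsq, e2⟩ := h2
    refine ⟨q, hq, hsq, ?_⟩
    rw [← conj_mul, hut] at e2
    have hb : S.k S.pb * S.k S.pb = 1 := by
      rw [← map_mul, show S.pb * S.pb = 1 from F.bb, map_one]
    have h3 := mul_left_cancel (a := S.t) (by rw [← mul_assoc]; exact e2 :
      S.t * (S.k S.pb * (u * S.k p * u⁻¹)) = S.t * S.k q)
    rw [map_mul, ← h3, ← mul_assoc, hb, one_mul]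
  have huinj : ∀ {p q : Perm (Fin n)}, u * S.k p * u⁻¹ = u * S.k q * u⁻¹ → p = q :=
    fun h => k_injective S (mul_left_cancel (mul_right_cancel h))
  have hu1 : u * S.k 1 * u⁻¹ = S.k 1 := by simp
  have hup : u * S.k (S.pe * S.pa) * u⁻¹ = S.k (S.pe * S.pa) ∨
      u * S.k (S.pe * S.pa) * u⁻¹ = S.k (S.pb * (S.pe * S.pa)) := by
    obtain ⟨q, hq, hs, e⟩ := key 0 _ (mul_mem (pe_mem S) (hmA 0)) F.sp
    obtain ⟨l, rfl⟩ := exists_el S hm hq
    rcases F.even0 l hs with h | h | h | h <;> rw [h] at e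
    · rw [mul_one] at e; exact absurd (huinj (e.trans hub.symm)) F.ne_p.2
    · rw [show S.pb * CrossAux.pb S.six = 1 from F.bb] at e
      exact absurd (huinj (e.trans hu1.symm)) F.ne_p.1
    · exact Or.inr e
    · rw [← mul_assoc, show S.pb * CrossAux.pb S.six = 1 from F.bb, one_mul] at e
      exact Or.inl e
  have huf : u * S.k S.pf * u⁻¹ = S.k S.pf ∨ u * S.k S.pf * u⁻¹ = S.k (S.pb * S.pf) := by
    obtain ⟨q, hq, hs, e⟩ := key 1 _ (pf_mem S) F.sf
    obtain ⟨l, rfl⟩ := exists_el S hm hq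
    rcases F.even1 l hs with h | h | h | h <;> rw [h] at e
    · rw [mul_one] at e; exact absurd (huinj (e.trans hub.symm)) F.ne_f.2
    · rw [show S.pb * CrossAux.pb S.six = 1 from F.bb] at e
      exact absurd (huinj (e.trans hu1.symm)) F.ne_f.1
    · exact Or.inr e
    · rw [← mul_assoc, show S.pb * CrossAux.pb S.six = 1 from F.bb, one_mul] at e
      exact Or.inl e
  -- correct `u`
  set T := S.EP 0 ⊔ S.EP 1 with hT
  have heT : S.pe ∈ T := le_sup_left (a := S.EP 0) (pe_mem S)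
  have hfT : S.pf ∈ T := le_sup_right (a := S.EP 0) (pf_mem S)
  have hubp : ∀ p, u * S.k (S.pb * p) * u⁻¹ = S.k S.pb * (u * S.k p * u⁻¹) := fun p => by
    rw [map_mul, ← conj_mul, hub]
  have hbk : ∀ p, S.k S.pb * S.k (S.pb * p) = S.k p := fun p => by
    rw [← map_mul, ← mul_assoc, show S.pb * S.pb = 1 from F.bb, one_mul]
  obtain ⟨x1, hx1T, hx1p, hx1a, hx1b, hx1f⟩ : ∃ x1 ∈ T,
      u * S.k (x1 * (S.pe * S.pa) * x1⁻¹) * u⁻¹ = S.k (S.pe * S.pa) ∧
      x1 * S.pa * x1⁻¹ = S.pa ∧ x1 * S.pb * x1⁻¹ = S.pb ∧ x1 * S.pf * x1⁻¹ = S.pf := by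
    rcases hup with h | h
    · exact ⟨1, one_mem _, by simpa using h, by simp, by simp, by simp⟩
    · refine ⟨S.pf, hfT, ?_, F.f_a, F.f_b, F.f_f⟩
      rw [show S.pf * (S.pe * S.pa) * S.pf⁻¹ = S.pb * (S.pe * S.pa) from F.f_p, hubp, h, hbk]
  obtain ⟨x2, hx2T, hx2f, hx2a, hx2b, hx2p⟩ : ∃ x2 ∈ T,
      u * S.k (x1 * (x2 * S.pf * x2⁻¹) * x1⁻¹) * u⁻¹ = S.k S.pf ∧
      x2 * S.pa * x2⁻¹ = S.pa ∧ x2 * S.pb * x2⁻¹ = S.pb ∧
      x2 * (S.pe * S.pa) * x2⁻¹ = S.pe * S.pa := by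
    rcases huf with h | h
    · exact ⟨1, one_mem _, by simpa [hx1f] using h, by simp, by simp, by simp⟩
    · refine ⟨S.pe, heT, ?_, F.e_a, F.e_b, F.e_p⟩
      rw [show S.pe * S.pf * S.pe⁻¹ = S.pb * S.pf from F.e_f, ← conj_mul (b := x1), hx1b, hx1f,
        hubp, h, hbk]
  set x := x1 * x2 with hx
  have hxT : x ∈ T := mul_mem hx1T hx2T
  set w0 := u * S.k x with hw0
  have hxx : ∀ p, x * p * x⁻¹ = x1 * (x2 * p * x2⁻¹) * x1⁻¹ := fun p => by rw [hx]; group
  have hwc : ∀ p ∈ T, Commute w0 (S.k p) := by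
    have hle : T ≤ (centralizer ({w0} : Set G)).comap S.k := by
      have hfix : ∀ p, u * S.k (x * p * x⁻¹) * u⁻¹ = S.k p →
          p ∈ (centralizer ({w0} : Set G)).comap S.k := by
        intro p h
        rw [mem_comap, mem_centralizer_singleton_iff]
        rw [← conj_comp] at h
        exact (mul_inv_eq_iff_eq_mul.1 h).symm
      have a1 : S.pa ∈ (centralizer ({w0} : Set G)).comap S.k :=
        hfix _ (by rw [hxx, hx2a, hx1a, hua])
      have b1 : S.pb ∈ (centralizer ({w0} : Set G)).comap S.k :=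
        hfix _ (by rw [hxx, hx2b, hx1b, hub])
      have f1 : S.pf ∈ (centralizer ({w0} : Set G)).comap S.k := hfix _ (by rw [hxx, hx2f])
      have p1 : S.pe * S.pa ∈ (centralizer ({w0} : Set G)).comap S.k :=
        hfix _ (by rw [hxx, hx2p, hx1p])
      have e1 : S.pe ∈ (centralizer ({w0} : Set G)).comap S.k := by
        have := mul_mem p1 a1
        rwa [show S.pe * S.pa * S.pa = S.pe from F.pe_eq] at this
      have s1 : S.sw 2 3 ∈ (centralizer ({w0} : Set G)).comap S.k := by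
        rw [show S.sw 2 3 = S.pe * S.pb from F.s23]; exact mul_mem e1 b1
      refine sup_le ?_ ?_
      · rw [Setup.EP, if_pos rfl, closure_le]
        rintro q (rfl | rfl | rfl) <;> assumption
      · rw [Setup.EP, if_neg (by decide), closure_le]
        rintro q (rfl | rfl | rfl) <;> assumption
    exact fun p hp => (mem_centralizer_singleton_iff.1 (hle hp)).symm
  have hwt : w0 * S.t * w0⁻¹ = S.t * S.k S.pb := by
    rw [← hut, hw0]
    calc u * S.k x * S.t * (u * S.k x)⁻¹ = u * (S.k x * S.t * (S.k x)⁻¹) * u⁻¹ := by group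
      _ = u * S.t * u⁻¹ := by rw [← t_comm_k, mul_inv_cancel_right]
  have hwtb : w0 * (S.t * S.k S.pb) * w0⁻¹ = S.t := by
    rw [← conj_mul, hwt, (hwc S.pb (le_sup_left (a := S.EP 0) (hmB 0))).eq, mul_inv_cancel_right,
      mul_assoc, ← map_mul, show S.pb * S.pb = 1 from F.bb, map_one, mul_one]
  -- the square of `w0`
  have hcz : ∀ p : Perm (Fin n), (∀ q ∈ T, p * q = q * p) → ∀ i, p ∈ S.EP i := by
    intro p h i
    rw [← hm.centralizer_eq i, mem_centralizer_iff]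
    intro q hq
    refine (h q ?_).symm
    fin_cases i
    · exact le_sup_left (a := S.EP 0) hq
    · exact le_sup_right (a := S.EP 0) hq
  obtain ⟨z, hz, hw2⟩ : ∃ z, (∀ i, z ∈ S.EP i) ∧ w0 * w0 = S.k z := by
    have h : w0 * w0 * S.t = S.t * (w0 * w0) := by
      apply mul_inv_eq_iff_eq_mul.1
      calc w0 * w0 * S.t * (w0 * w0)⁻¹ = w0 * (w0 * S.t * w0⁻¹) * w0⁻¹ := by group
        _ = S.t := by rw [hwt, hwtb]
    obtain ⟨⟨ε, z⟩, e⟩ := S.range_eq _ h
    have hz : ∀ i, z ∈ S.EP i := hcz z fun q hq => by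
      have := ((hwc q hq).mul_left (hwc q hq)).eq
      rw [← e, k_apply, ← map_mul, ← map_mul] at this
      exact congrArg Prod.snd (S.inj this)
    have htwo : ∀ a : Two, a = 1 ∨ a = tau := by decide
    have hε : ε = 1 ∨ ε = tau := htwo ε
    rcases hε with rfl | rfl
    · exact ⟨z, hz, e.symm⟩
    · exfalso
      rw [← t_mul_k] at e
      have h1 : w0 * (S.t * S.k z) * w0⁻¹ = S.t * S.k z := by rw [e]; group
      rw [← conj_mul, hwt, (hwc z (le_sup_left (a := S.EP 0) (hz 0))).eq, mul_inv_cancel_right,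
        mul_assoc, ← map_mul] at h1
      have h2 : S.pb * z = z := k_injective S (mul_left_cancel h1)
      exact F.ne_b (mul_eq_right.1 h2)
  -- `g` fixes the square
  have hgk : ∀ i : Fin 2, ∀ p ∈ S.EP i, ∃ q ∈ S.EP (i + 1), g * S.k p * g⁻¹ = S.k q := by
    intro i p hp
    have : g * S.k p * g⁻¹ ∈ S.kE (i + 1) :=
      (mem_kE_iff_not_D S hm hO _ (hmemEp i _ (kE_le_Ep S i ⟨p, hp, rfl⟩))).2
        (by rw [isD_conj]; exact mem_kE_not_D S hO i ⟨p, hp, rfl⟩)
    obtain ⟨q, hq, e⟩ := this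
    exact ⟨q, hq, e.symm⟩
  have hsurj : ∀ i : Fin 2, ∀ q ∈ S.EP (i + 1), ∃ p ∈ S.EP i, g * S.k p * g⁻¹ = S.k q := by
    intro i q hq
    have h : S.k q ∈ S.Ep (i + 1) := kE_le_Ep S _ ⟨q, hq, rfl⟩
    rw [← hg i] at h
    obtain ⟨y, hy, e⟩ := h
    have hy' : y ∈ S.kE i := (mem_kE_iff_not_D S hm hO i hy).2 (by
      rw [← isD_conj S g]
      have e' : g * y * g⁻¹ = S.k q := e
      rw [e']; exact mem_kE_not_D S hO (i + 1) ⟨q, hq, rfl⟩)
    obtain ⟨p, hp, rfl⟩ := hy'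
    exact ⟨p, hp, e⟩
  have hgT : ∀ p ∈ T, ∃ q ∈ T, g * S.k p * g⁻¹ = S.k q := by
    intro p hp
    have : (T.map S.k).map (MulAut.conj g).toMonoidHom ≤ T.map S.k := by
      rw [hT, Subgroup.map_sup, Subgroup.map_sup]
      refine sup_le ?_ ?_
      · rintro _ ⟨_, ⟨q, hq, rfl⟩, rfl⟩
        obtain ⟨q', hq', e⟩ := hgk 0 q hq
        exact Subgroup.mem_sup_right ⟨q', hq', e.symm⟩
      · rintro _ ⟨_, ⟨q, hq, rfl⟩, rfl⟩
        obtain ⟨q', hq', e⟩ := hgk 1 q hq
        exact Subgroup.mem_sup_left ⟨q', hq', e.symm⟩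
    obtain ⟨q, hq, e⟩ := this ⟨S.k p, ⟨p, hp, rfl⟩, rfl⟩
    exact ⟨q, hq, e.symm⟩
  have hgz : g * S.k z * g⁻¹ = S.k z := by
    obtain ⟨x', hx'T, hx'⟩ := hgT x hxT
    have e1 : g * w0 * g⁻¹ = w0 * S.k (x⁻¹ * x') := by
      rw [map_mul, map_inv, ← hx', hw0, hu]; group
    have hd : ∀ i, x⁻¹ * x' ∈ S.EP i := by
      refine hcz _ fun q hq => ?_
      have hle : T ≤ (centralizer ({g * w0 * g⁻¹} : Set G)).comap S.k := by
        rw [hT]
        have hh : ∀ i : Fin 2, S.EP (i + 1) ≤ (centralizer ({g * w0 * g⁻¹} : Set G)).comap S.k := by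
          intro i q hq
          obtain ⟨p, hp, e⟩ := hsurj i q hq
          have hpT : p ∈ T := by
            fin_cases i
            · exact le_sup_left (a := S.EP 0) hp
            · exact le_sup_right (a := S.EP 0) hp
          rw [mem_comap, mem_centralizer_singleton_iff, ← e, conj_mul, conj_mul,
            (hwc p hpT).eq]
        exact sup_le (hh 1) (hh 0)
      have h1 := mem_centralizer_singleton_iff.1 (hle hq)
      rw [e1] at h1
      have h2 : w0 * (S.k (x⁻¹ * x') * S.k q) = w0 * (S.k q * S.k (x⁻¹ * x')) := by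
        rw [← mul_assoc, ← h1, ← mul_assoc, ← (hwc q hq).eq, mul_assoc]
      rw [← map_mul, ← map_mul] at h2
      exact k_injective S (mul_left_cancel h2)
    have hdd : (x⁻¹ * x') * (x⁻¹ * x') = 1 := (hm.comm 0 _ (hd 0) _ (hd 0)).2
    calc g * S.k z * g⁻¹ = (g * w0 * g⁻¹) * (g * w0 * g⁻¹) := by rw [← hw2]; group
      _ = w0 * (S.k (x⁻¹ * x') * w0) * S.k (x⁻¹ * x') := by rw [e1]; group
      _ = w0 * w0 * (S.k (x⁻¹ * x') * S.k (x⁻¹ * x')) := by
          rw [← (hwc _ (le_sup_left (a := S.EP 0) (hd 0))).eq]; group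
      _ = S.k z := by rw [← map_mul, hdd, map_one, mul_one, hw2]
  rcases common S hm (hz 0) (hz 1) with rfl | rfl | rfl | rfl
  · refine ⟨1, x, hxT, ?_, ?_, ?_⟩
    · rw [← k_apply, ← hw0, hw2, map_one]
    · rw [← k_apply, ← hw0, hwt]
    · intro p hp; rw [← k_apply, ← hw0]; exact hwc p hp
  · exact absurd (k_injective S (hgz.symm.trans hka)) F.ne_ac
  · have e : g * g * S.j (tau, x) = w0 * S.t := by
      rw [hw0, hu, mul_assoc (g * g), ← t_comm_k, t_mul_k]
    refine ⟨tau, x, hxT, ?_, ?_, ?_⟩ <;> rw [e]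
    · have h1 : S.t * w0 = w0 * (S.t * S.k S.pb) := (mul_inv_eq_iff_eq_mul.1 hwtb).symm
      calc w0 * S.t * (w0 * S.t) = w0 * (S.t * w0) * S.t := by group
        _ = w0 * w0 * (S.t * S.k S.pb) * S.t := by rw [h1]; group
        _ = 1 := by
            rw [hw2, ← mul_assoc, ← t_comm_k, mul_assoc S.t, ← map_mul,
              show S.pb * S.pb = 1 from F.bb, map_one, mul_one, t_sq]
    · calc w0 * S.t * S.t * (w0 * S.t)⁻¹ = w0 * S.t * w0⁻¹ := by group
        _ = _ := hwt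
    · intro p hp; exact (hwc p hp).mul_left (t_comm_k S p)
  · exact absurd (k_injective S (hgz.symm.trans hkc)).symm F.ne_ac

end Cfsg.Agent.H45.S67
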